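import Cfsg.Agent.Lib.Recog.U6Cent.EndCent
import Cfsg.Agent.Lib.Recog.U6Cent.EndComponent

/-!
The class is a single component, so the group it generates is `PSU₆(2)`.
-/

set_option autoImplicit false
set_option linter.unusedSectionVars false

namespace CfsgLib.Recog.U6Cent

open Subgroup

variable {G : Type*} [Group G] {D : Set G} {P : Type*} {col : P → P → Prop} {f : G → G → P}

namespace Base

variable [Finite G] (B : Base D P col f)
include B

/-- A member commuting with a product of two commuting members lies in their component. -/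
theorem mem_of_comm_pair {d e u : G} (hd : d ∈ D) (he : e ∈ nbrs D d) (hu : u ∈ D)
    (h : Commute u (d * e)) : u ∈ comp D d :=
  B.mem_of_stab hd hu (mem_comp_self d) (B.cent_pair hd he h.eq)

theorem triple_comp {a b c : G} (h : IsTriple D f a b c) : b ∈ comp D a ∧ c ∈ comp D a :=
  ⟨Relation.ReflTransGen.single h.left, Relation.ReflTransGen.single h.right⟩

theorem triple_bc {a b c : G} (h : IsTriple D f a b c) : b ≠ c := fun e => h.ne (by rw [e])

/-- A triple product is no pair product. -/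
theorem triple_not_pair {a b c : G} (h : IsTriple D f a b c) : ¬ IsPairProd D (a * b * c) := by
  rintro ⟨d, hd, e, he, hk⟩
  obtain ⟨hbc, hcc⟩ := B.triple_comp h
  have hab : Commute a b := h.left.2.2
  have hac : Commute a c := h.right.2.2
  have hak : Commute a (a * b * c) := ((Commute.refl a).mul_right hab).mul_right hac
  have hma := B.mem_of_comm_pair hd he h.mem (hk ▸ hak)
  have hcomp : comp D d = comp D a := (comp_eq hd hma).symm
  have hdc : d ∈ comp D a := hcomp ▸ mem_comp_self d
  have hec : e ∈ comp D a := hcomp ▸ Relation.ReflTransGen.single he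
  have hd' : Commute d (a * b * c) := by
    rw [hk]; exact (Commute.refl d).mul_right he.2.2
  have he' : Commute e (a * b * c) := by
    rw [hk]; exact he.2.2.symm.mul_right (Commute.refl e)
  obtain ⟨-, -, hdC⟩ := B.comm_three h.mem (mem_comp_self a) hbc hcc hdc h.left.2.1.symm (B.triple_bc h)
    h.right.2.1.symm hab h.comm hac hd'
  obtain ⟨-, -, heC⟩ := B.comm_three h.mem (mem_comp_self a) hbc hcc hec h.left.2.1.symm (B.triple_bc h)
    h.right.2.1.symm hab h.comm hac he'
  obtain ⟨z, hz, hzb, hzc⟩ := B.exists_sep h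
  have sc := B.msq h.right.1
  have hd1 : d ≠ c := by
    intro hdc'
    refine B.not_mem_pair ⟨a, h.mem, b, h.left, rfl⟩ ?_
    have h3 : a * b = e := by
      calc a * b = a * b * c * c := by rw [mul_assoc, sc, mul_one]
        _ = d * e * c := by rw [hk]
        _ = e := by rw [he.2.2.eq, ← hdc', mul_assoc, B.msq hd, mul_one]
    exact h3 ▸ he.1
  have he1 : e ≠ c := by
    rintro rfl
    exact B.not_mem_pair ⟨a, h.mem, b, h.left, rfl⟩ ((mul_right_cancel hk) ▸ hd)
  have hab' : a * b = d * e * c := by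
    rw [← hk, mul_assoc, sc, mul_one]
  have hzab : Commute z (d * e * c) := hab' ▸ hz.2.2.symm.mul_right hzb
  exact hzc (B.comm_three h.mem hdc hec hcc (Relation.ReflTransGen.single hz) he.2.1.symm he1 hd1
    he.2.2 heC hdC hzab).2.2

/-- A triple product is no member. -/
theorem triple_not_mem {a b c : G} (h : IsTriple D f a b c) : a * b * c ∉ D := by
  intro hk
  obtain ⟨hbc, hcc⟩ := B.triple_comp h
  have hak : Commute a (a * b * c) := ((Commute.refl a).mul_right h.left.2.2).mul_right h.right.2.2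
  have e : a * (a * b * c) = b * c := by rw [mul_assoc, ← mul_assoc, B.msq h.mem, one_mul]
  have hrot := B.triple_rot h
  have hne : a * b * c ≠ a := fun e' => hrot.right.2.1 (by
    rw [e', B.msq h.mem] at e
    exact absurd ((eq_inv_of_mul_eq_one_left e.symm).trans (B.minv h.right.1)) (B.triple_bc h))
  have hkn : a * b * c ∈ nbrs D a := ⟨hk, hne, hak⟩
  have hkc : a * b * c ∈ comp D b := by
    rw [comp_eq h.mem hbc]; exact Relation.ReflTransGen.single hkn
  have hc' : Commute (a * b * c) (b * c) := by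
    have := hak.symm.mul_right (Commute.refl (a * b * c))
    rwa [e] at this
  have hD : a * b * c * (b * c) ∈ D := by
    rw [← e, ← mul_assoc, ← hak.eq, mul_assoc, B.msq hk, mul_one]
    exact h.mem
  rcases B.pair_unique h.left.1 hrot.left hkc hc' hD with e' | e'
  · refine h.right.2.1 ?_
    rw [mul_assoc, h.comm.eq, ← mul_assoc, mul_eq_right] at e'
    exact (inv_eq_of_mul_eq_one_right e').symm.trans (B.minv h.mem)
  · refine h.left.2.1 ?_
    rw [mul_eq_right] at e'
    exact (inv_eq_of_mul_eq_one_right e').symm.trans (B.minv h.mem)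

/-- The third members of the line through `a` and `b` do not count. -/
theorem line_not_pair {a b c x : G} (h : IsTriple D f a b c) (hx : x ∈ nbrs D a) (he : f a x = f a b)
    (hne : x ≠ b) : ¬ IsPairProd D (x * (a * b * c)) := by
  obtain ⟨y, hy, z, hz, ey, ez, hyz, -, -, -, -, hl⟩ := B.line_rest h.mem h.left hx he (Ne.symm hne)
  have hxb : Commute x b := (B.comm a h.mem x hx b h.left).2 (Or.inl he)
  have e : x * (a * b * c) = y * z * c := by
    rw [← hl, ← mul_assoc, ← mul_assoc, ← hx.2.2.eq, mul_assoc a x b, hxb.eq, ← mul_assoc]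
  rw [e]
  have hcy : Commute y c := (B.comm a h.mem y hy c h.right).2
    (by rw [ey]; exact (B.comm a h.mem b h.left c h.right).1 h.comm)
  have hcz : Commute z c := (B.comm a h.mem z hz c h.right).2
    (by rw [ez]; exact (B.comm a h.mem b h.left c h.right).1 h.comm)
  have hyc : c ≠ y := fun e => h.ne (by rw [← ey, e])
  have hczne : c ≠ z := fun e => h.ne (by rw [← ez, e])
  have hzy : z ∈ nbrs D y := ⟨hz.1, hyz.symm, (B.comm a h.mem y hy z hz).2 (Or.inl (ey.trans ez.symm))⟩
  refine B.triple_not_pair ⟨hy.1, hzy, ⟨h.right.1, hyc, hcy⟩, hcz, fun e' => h.ne ?_⟩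
  have h1 : f y a = f y z := B.line_symm h.mem hy hz (ey.trans ez.symm) hyz
  have h2 : f a y = f a c := B.line_symm hy.1 (nbrs_symm h.mem hy) ⟨h.right.1, hyc, hcy⟩
    (h1.trans e') h.right.2.1.symm
  rw [← ey, h2]

/-- The members meeting a triple product in a pair product. -/
def pairSet (_B : Base D P col f) (o k : G) : Set G :=
  {x | x ∈ comp D o ∧ Commute x k ∧ IsPairProd D (x * k)}

theorem card_pairSet {a b c : G} (h : IsTriple D f a b c) : (B.pairSet a (a * b * c)).ncard ≤ 12 := by
  classical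
  haveI := B.finite_P
  obtain ⟨hbc, hcc⟩ := B.triple_comp h
  have ha := h.mem
  set p := f a b with hp
  set q := f a c with hq
  have hpq : col p q := ((B.comm a ha b h.left c h.right).1 h.comm).resolve_left h.ne
  set T : Set P := insert p (insert q {r | col p r ∧ col q r}) with hT
  have hTc : T.ncard = 5 := by
    rw [hT, Set.ncard_insert_of_notMem (fun hh => hh.elim h.ne fun hh => B.col_irrefl _ hh.1) (Set.toFinite _),
      Set.ncard_insert_of_notMem (fun hh => B.col_irrefl _ hh.2) (Set.toFinite _), B.perp_col p q hpq]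
  set F21 : Set G := insert a {x | x ∈ nbrs D a ∧ f a x ∈ T}
  have h21 : F21.ncard = 21 := by
    rw [Set.ncard_insert_of_notMem (fun hh => hh.1.2.1 rfl) (Set.toFinite _), B.card_over ha, hTc]
  have hrot := B.triple_rot h
  set A1 : Set G := {x | x ∈ nbrs D a ∧ f a x = p} \ {b}
  set A2 : Set G := {x | x ∈ nbrs D a ∧ f a x = q} \ {c}
  set A3 : Set G := {x | x ∈ nbrs D b ∧ f b x = f b c} \ {c}
  have hA : ∀ o ∈ D, ∀ w ∈ nbrs D o, ({x | x ∈ nbrs D o ∧ f o x = f o w} \ {w}).ncard = 3 := by
    intro o ho w hw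
    rw [Set.ncard_sdiff (by simp [hw]) (Set.toFinite _), B.fibre_card o ho, Set.ncard_singleton]
  have hd12 : Disjoint A1 A2 := Set.disjoint_left.2 fun x hx hx' => h.ne (hx.1.2.symm.trans hx'.1.2)
  have hd3 : Disjoint (A1 ∪ A2) A3 := by
    rw [Set.disjoint_left]
    rintro x (⟨⟨hxn, e⟩, hxb⟩ | ⟨⟨hxn, e⟩, hxc⟩) ⟨⟨hxn', e'⟩, hxc'⟩
    · have h1 : f b a = f b x := B.line_symm ha h.left hxn e.symm (Ne.symm hxb)
      exact hrot.ne (e'.symm.trans h1.symm)
    · have hac' : a ∈ nbrs D c := nbrs_symm ha h.right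
      have hbc' : b ∈ nbrs D c := ⟨h.left.1, B.triple_bc h, h.comm.symm⟩
      have h1 : f c a = f c x := B.line_symm ha h.right hxn e.symm (Ne.symm hxc)
      have h2 : f c b = f c x := B.line_symm h.left.1 hrot.left hxn' e'.symm (Ne.symm hxc')
      exact h.ne (B.line_symm h.right.1 hac' hbc' (h1.trans h2.symm) h.left.2.1.symm).symm
  have h9 : (A1 ∪ A2 ∪ A3).ncard = 9 := by
    rw [Set.ncard_union_eq hd3 (Set.toFinite _) (Set.toFinite _),
      Set.ncard_union_eq hd12 (Set.toFinite _) (Set.toFinite _), hA a ha b h.left, hA a ha c h.right,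
      hA b h.left.1 c hrot.left]
  have hmem : ∀ x, x ∈ nbrs D a → Commute x b → Commute x c → f a x ∈ T := by
    intro x hx hxb hxc
    rcases (B.comm a ha b h.left x hx).1 hxb.symm with e1 | e1
    · exact Or.inl e1.symm
    rcases (B.comm a ha c h.right x hx).1 hxc.symm with e2 | e2
    · exact Or.inr (Or.inl e2.symm)
    · exact Or.inr (Or.inr ⟨e1, e2⟩)
  have h9sub : A1 ∪ A2 ∪ A3 ⊆ F21 := by
    rintro x ((⟨⟨hxn, e⟩, -⟩ | ⟨⟨hxn, e⟩, -⟩) | ⟨⟨hxn, e⟩, -⟩)
    · exact Or.inr ⟨hxn, Or.inl e⟩
    · exact Or.inr ⟨hxn, Or.inr (Or.inl e)⟩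
    · have hxa : Commute x a := (B.comm b h.left.1 x hxn a hrot.right).2
        (by rw [e]; exact (B.comm b h.left.1 c hrot.left a hrot.right).1 hrot.comm)
      have hxc : Commute x c := (B.comm b h.left.1 x hxn c hrot.left).2 (Or.inl e)
      by_cases exa : x = a
      · exact Or.inl exa
      · have hxn' : x ∈ nbrs D a := ⟨hxn.1, exa, hxa.symm⟩
        exact Or.inr ⟨hxn', hmem x hxn' hxn.2.2.symm hxc⟩
  have hsub : B.pairSet a (a * b * c) ⊆ F21 \ (A1 ∪ A2 ∪ A3) := by
    rintro x ⟨hxc, hxk, hxp⟩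
    obtain ⟨h1, h2, h3⟩ := B.comm_three ha (mem_comp_self a) hbc hcc hxc h.left.2.1.symm (B.triple_bc h)
      h.right.2.1.symm h.left.2.2 h.comm h.right.2.2 hxk
    refine ⟨?_, ?_⟩
    · by_cases exa : x = a
      · exact Or.inl exa
      · have hxn : x ∈ nbrs D a := ⟨comp_sub ha hxc, exa, h1.symm⟩
        exact Or.inr ⟨hxn, hmem x hxn h2 h3⟩
    · rintro ((⟨⟨hxn, e⟩, hne⟩ | ⟨⟨hxn, e⟩, hne⟩) | ⟨⟨hxn, e⟩, hne⟩)
      · exact B.line_not_pair h hxn e hne hxp
      · exact B.line_not_pair (B.triple_swap h) hxn e hne ((B.triple_eq h).2.symm ▸ hxp)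
      · exact B.line_not_pair hrot hxn e hne ((B.triple_eq h).1.symm ▸ hxp)
  have := Set.ncard_le_ncard hsub (Set.toFinite _)
  rw [Set.ncard_sdiff h9sub (Set.toFinite _), h21, h9] at this
  exact this

/-- In any component at most twelve members meet a given product in a pair product. -/
theorem card_pairSet_any {k o : G} (ho : o ∈ D) (hk : k ∉ D) (hkp : ¬ IsPairProd D k) :
    (B.pairSet o k).ncard ≤ 12 := by
  rcases Set.eq_empty_or_nonempty (B.pairSet o k) with e | ⟨v, hv, hvk, d, hd, e, he, hde⟩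
  · rw [e, Set.ncard_empty]; norm_num
  have hvD := comp_sub ho hv
  have hk' : k = v * d * e := by rw [mul_assoc, ← hde, ← mul_assoc, B.msq hvD, one_mul]
  have hv2 : Commute v (d * e) := hde ▸ (Commute.refl v).mul_right hvk
  have hvd := B.mem_of_comm_pair hd he hvD hv2
  obtain ⟨hcd, hce⟩ := B.comm_two hd (mem_comp_self d) (Relation.ReflTransGen.single he) hvd
    he.2.1.symm he.2.2 hv2
  have hd1 : d ≠ v := by
    rintro rfl
    exact hk (by rw [hk', B.msq hvD, one_mul]; exact he.1)
  have he1 : e ≠ v := by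
    rintro rfl
    exact hk (by rw [hk', mul_assoc, he.2.2.eq, ← mul_assoc, B.msq hvD, one_mul]; exact hd)
  have hdn : d ∈ nbrs D v := ⟨hd, hd1, hcd⟩
  have hen : e ∈ nbrs D v := ⟨he.1, he1, hce⟩
  have hne : f v d ≠ f v e := fun h => by
    obtain ⟨y, hy, z, hz, ey, ez, hyz, -, -, -, -, hl⟩ := B.line_rest hvD hdn hen h.symm he.2.1.symm
    exact hkp ⟨y, hy.1, z, ⟨hz.1, hyz.symm, (B.comm v hvD y hy z hz).2 (Or.inl (ey.trans ez.symm))⟩,
      hk'.trans hl⟩
  have hT : IsTriple D f v d e := ⟨hvD, hdn, hen, he.2.2, hne⟩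
  have := B.card_pairSet hT
  rw [← hk'] at this
  unfold pairSet at this ⊢
  rwa [comp_eq ho hv] at this

/-- The class is one component. -/
theorem comp_eq_top {a : G} (ha : a ∈ D) : comp D a = D := by
  classical
  refine Set.Subset.antisymm (fun x hx => comp_sub ha hx) fun u₀ hu₀ => ?_
  by_contra hout
  haveI := B.finite_P
  obtain ⟨p⟩ : Nonempty P := (Nat.card_pos_iff.1 (by rw [B.card_points]; decide)).1
  obtain ⟨b, hb, -⟩ := B.exists_over ha p
  have hbc : b ∈ comp D a := Relation.ReflTransGen.single hb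
  set i := a * b with hi
  have hoi := B.pair_invol ha hb
  rw [← hi] at hoi
  set W : Set G := {c | c ∈ nbrs D a ∧ f a c ∈ {r | col (f a b) r}} with hW
  have hWc : W.ncard = 48 := by rw [hW, B.card_over ha, B.degree]
  have hnotin : ∀ u ∈ comp D u₀, u ∉ comp D a := fun u hu hu' =>
    hout (by rw [← comp_eq ha hu', comp_eq hu₀ hu]; exact mem_comp_self u₀)
  have hcover : ∀ u ∈ comp D u₀, ∃ c ∈ W, u ∈ B.pairSet u₀ (a * b * c) := by
    intro u hu
    have huD := comp_sub hu₀ hu
    have hua := hnotin u hu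
    have hsu := B.msq huD
    have hsi : i * i = 1 := by rw [← pow_two, ← hoi, pow_orderOf_eq_one]
    have hui : u⁻¹ = u := B.minv huD
    have hii : i⁻¹ = i := inv_eq_of_mul_eq_one_right hsi
    set r := u * i with hr
    have huru : u * r * u⁻¹ = r⁻¹ := by rw [hr, hui, mul_inv_rev, hui, hii, ← mul_assoc, hsu, one_mul]
    have huz : ∀ j : ℤ, u * r ^ j = r ^ (-j) * u := fun j => by
      have h := map_zpow (MulAut.conj u) r j
      rw [MulAut.conj_apply, MulAut.conj_apply, huru, inv_zpow', mul_inv_eq_iff_eq_mul] at h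
      exact h
    have hconj : ∀ j : ℤ, r ^ j * u * (r ^ j)⁻¹ = r ^ (2 * j) * u := fun j => by
      rw [mul_assoc, ← zpow_neg, huz, neg_neg, ← mul_assoc, ← zpow_add, two_mul]
    have hri : r * i = u := by rw [hr, mul_assoc, hsi, mul_one]
    have hi' : i = r⁻¹ * u := by rw [← hri, inv_mul_cancel_left]
    have hnD : i ∉ D := B.not_mem_pair ⟨a, ha, b, hb, rfl⟩
    set n := orderOf r with hn
    have hn0 : 0 < n := orderOf_pos r
    have hrn : r ^ (n : ℤ) = 1 := by rw [zpow_natCast]; exact pow_orderOf_eq_one r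
    obtain ⟨m, hm⟩ : Even n := by
      rw [← Nat.not_odd_iff_even]
      rintro ⟨j, hj⟩
      refine hnD ?_
      have h := B.conj_mem (r ^ (j : ℤ)) huD
      have e2 : r ^ (2 * (j : ℤ)) = r⁻¹ := by
        rw [← mul_inv_eq_one, inv_inv, ← zpow_add_one]
        rw [show (2 * (j : ℤ) + 1) = ((n : ℕ) : ℤ) by rw [hj]; push_cast; ring, hrn]
      rwa [hconj, e2, ← hi'] at h
    set k := r ^ (m : ℤ) with hk
    have hkk : k * k = 1 := by
      rw [hk, ← zpow_add, show (m : ℤ) + m = (n : ℤ) by rw [hm]; push_cast; ring, hrn]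
    have hk1 : k ≠ 1 := by
      rw [hk, zpow_natCast]
      exact pow_ne_one_of_lt_orderOf (by omega) (by omega)
    have hki' : k⁻¹ = k := inv_eq_of_mul_eq_one_right hkk
    have huk : Commute u k := by
      show u * k = k * u
      rw [hk, huz, zpow_neg, ← hk, hki']
    have hrk : Commute r k := by rw [hk]; exact Commute.self_zpow r m
    have hik : Commute i k := by rw [hi']; exact hrk.inv_left.mul_left huk
    rcases Nat.even_or_odd m with ⟨j, hj⟩ | ⟨j, hj⟩
    · exfalso
      have hukD : u * k ∈ D := by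
        have h := B.conj_mem (r ^ (j : ℤ)) huD
        rw [hconj, show (2 * (j : ℤ)) = (m : ℤ) by rw [hj]; push_cast; ring, ← hk, ← huk.eq] at h
        exact h
      have hukn : u * k ∈ nbrs D u := ⟨hukD, fun e => hk1 (mul_eq_left.1 e),
        (Commute.refl u).mul_right huk⟩
      have hst : i * u * i⁻¹ ∈ comp D u := B.cent_pair huD hukn (by
        rw [show u * (u * k) = k by rw [← mul_assoc, hsu, one_mul]]; exact hik.eq)
      obtain ⟨w, hw, hwi⟩ := B.exists_fixed huD hsi (mem_comp_self u) hst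
      have hwa := B.mem_of_comm_pair ha hb (comp_sub huD hw) hwi
      exact hua (comp_eq ha hwa ▸ comp_symm huD hw)
    · have hdD : k * i ∈ D := by
        have h := B.conj_mem (r ^ (j : ℤ)) huD
        rw [hconj] at h
        have e2 : k * i = r ^ (2 * (j : ℤ)) * u := by
          rw [hi', hk, ← mul_assoc, ← zpow_sub_one,
            show (m : ℤ) - 1 = 2 * (j : ℤ) by rw [hj]; push_cast; ring]
        rwa [e2]
      set d := k * i with hd
      have hkd : k = d * i := by rw [hd, mul_assoc, hsi, mul_one]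
      have hdi : Commute d i := hik.symm.mul_left (Commute.refl i)
      have hdc := B.mem_of_comm_pair ha hb hdD hdi
      obtain ⟨hda, hdb⟩ := B.comm_two ha (mem_comp_self a) hbc hdc hb.2.1.symm hb.2.2 hdi
      have hkab : k = a * b * d := by rw [hkd, hdi.eq]
      have hkD : k ∉ D := fun hkD => hua (by
        have hkc := B.mem_of_comm_pair ha hb hkD hik.symm
        by_cases e : u = k
        · exact e ▸ hkc
        · exact Relation.ReflTransGen.tail hkc ⟨huD, e, huk.symm⟩)
      have hd1 : d ≠ a := fun e => hkD (by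
        rw [hkab, e, mul_assoc, ← hb.2.2.eq, ← mul_assoc, B.msq ha, one_mul]; exact hb.1)
      have hd2 : d ≠ b := fun e => hkD (by
        rw [hkab, e, mul_assoc, B.msq hb.1, mul_one]; exact ha)
      have hdn : d ∈ nbrs D a := ⟨hdD, hd1, hda.symm⟩
      have hcol : col (f a b) (f a d) := by
        refine ((B.comm a ha b hb d hdn).1 hdb.symm).resolve_left fun e => hua ?_
        obtain ⟨y, hy, z, hz, ey, ez, hyz, -, -, -, -, hl⟩ := B.line_rest ha hb hdn e.symm hd2.symm
        have h := B.mem_of_comm_pair hy.1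
          ⟨hz.1, hyz.symm, (B.comm a ha y hy z hz).2 (Or.inl (ey.trans ez.symm))⟩ huD
          (by rw [← hl, ← hkab]; exact huk)
        exact comp_eq ha (Relation.ReflTransGen.single hy) ▸ h
      refine ⟨d, ⟨hdn, hcol⟩, hu, hkab ▸ huk, ?_⟩
      rw [← hkab]
      -- `u k` is conjugate to `i`
      set g := r ^ ((j : ℤ) + 1) with hg
      refine ⟨g * a * g⁻¹, B.conj_mem g ha, g * b * g⁻¹, B.nbr_conj g hb, ?_⟩
      have e3 : r ^ ((j : ℤ) + 1) * i * (r ^ ((j : ℤ) + 1))⁻¹ = u * k := by
        rw [hi', ← mul_assoc, ← zpow_sub_one, mul_assoc, ← zpow_neg, huz, neg_neg, ← mul_assoc,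
          ← zpow_add, huk.eq, hk]
        congr 2
        rw [hj]; push_cast; ring
      rw [← e3, hi, ← hg]
      group
  have hle : (comp D u₀).ncard ≤ ∑ c ∈ W.toFinite.toFinset, (B.pairSet u₀ (a * b * c)).ncard :=
    (Set.ncard_le_ncard (fun u hu => by
      obtain ⟨c, hc, h⟩ := hcover u hu
      simp only [Set.mem_iUnion, Set.Finite.mem_toFinset]
      exact ⟨c, hc, h⟩) (Set.toFinite _)).trans (Finset.set_ncard_biUnion_le _ _)
  have hsum : ∑ c ∈ W.toFinite.toFinset, (B.pairSet u₀ (a * b * c)).ncard ≤ 48 * 12 := by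
    refine (Finset.sum_le_card_nsmul _ _ 12 fun c hc => ?_).trans ?_
    · rw [Set.Finite.mem_toFinset] at hc
      have hT : IsTriple D f a b c := ⟨ha, hb, hc.1, (B.comm a ha b hb c hc.1).2 (Or.inr hc.2),
        fun e => B.col_irrefl (f a c) (e ▸ hc.2)⟩
      exact B.card_pairSet_any hu₀ (B.triple_not_mem hT) (B.triple_not_pair hT)
    · rw [← Set.ncard_eq_toFinset_card _ W.toFinite, hWc, smul_eq_mul]
  have := hle.trans hsum
  rw [B.card_comp hu₀] at this
  omega

/-- The group generated by the class. -/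
theorem conclusion :
    (∀ a ∈ D, ∀ b ∈ D, ∃ g ∈ closure D, g * a * g⁻¹ = b) ∧ D.ncard = 693 ∧
      (∃ (F : Type) (_ : Field F) (_ : Fintype F), Fintype.card F = 4 ∧
        Nonempty (closure D ≃* Cfsg.PSU 6 F 2)) ∧
      centralizer (closure D : Set G) = ⊥ ∧ (closure D).Normal ∧
      (∀ a ∈ D, (closure D).index * 13271040 = Nat.card (centralizer ({a} : Set G))) := by
  obtain ⟨a, ha⟩ := B.nonempty
  have hD := B.comp_eq_top ha
  refine ⟨fun x hx y hy => hD ▸ B.transitive ha (hD.symm ▸ hx) (hD.symm ▸ hy), hD ▸ B.card_comp ha,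
    hD ▸ (B.component_iso ha).2, ?_, ?_, fun x hx => ?_⟩
  · refine (eq_bot_iff).2 fun x hx => mem_bot.2 ?_
    have hall : ∀ d ∈ D, Commute x d := fun d hd =>
      (mem_centralizer_iff.1 hx d (subset_closure hd)).symm
    have hxa := fun d hd => B.cent_center d hd x (mem_centralizer_singleton_iff.2 (hall d hd)) fun b hb => hall b hb.1
    haveI := B.finite_P
    obtain ⟨p⟩ : Nonempty P := (Nat.card_pos_iff.1 (by rw [B.card_points]; decide)).1
    obtain ⟨b, hb, -⟩ := B.exists_over ha p
    rcases hxa a ha with e | e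
    · exact e
    · exact (hxa b hb.1).resolve_right fun e' => hb.2.1 (e'.symm.trans e)
  · refine ⟨fun n hn g => ?_⟩
    have h : (closure D).map (MulAut.conj g).toMonoidHom ≤ closure D := by
      rw [MonoidHom.map_closure, closure_le]
      rintro _ ⟨y, hy, rfl⟩
      exact subset_closure (B.conj_mem g hy)
    exact h ⟨n, hn, rfl⟩
  · letI : MulAction (ConjAct G) G := inferInstance
    have horb : MulAction.orbit (ConjAct G) x = D := by
      ext y
      rw [ConjAct.mem_orbit_conjAct, B.isClass x hx]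
      exact isConj_comm
    have hc : Nat.card (ConjAct G) = Nat.card G := Nat.card_congr ConjAct.ofConjAct.toEquiv
    have h := Nat.card_congr (MulAction.orbitProdStabilizerEquivGroup (ConjAct G) x)
    rw [Nat.card_prod, horb, Nat.card_coe_set_eq, show D.ncard = 693 from hD ▸ B.card_comp ha,
      ConjAct.stabilizer_eq_centralizer, hc] at h
    have h2 := (closure D).index_mul_card
    rw [show Nat.card (closure D) = 693 * 13271040 by
      rw [show (693 * 13271040 : ℕ) = 9196830720 by norm_num]; exact hD ▸ (B.component_iso ha).1] at h2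
    refine Nat.eq_of_mul_eq_mul_left (show 0 < 693 by norm_num) ?_
    rw [← mul_assoc, mul_comm 693, mul_assoc, h2]
    exact h.symm

end Base

end CfsgLib.Recog.U6Cent
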