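import Cfsg.Agent.Lib.Recog.U6Cent.NatJPair

/-!
In the natural case `z` is the only one of its conjugates in `J`, and the flip lemma.
-/

set_option autoImplicit false
set_option linter.style.haveILetI false

namespace CfsgLib.Recog.U6Cent

open Subgroup Cfsg CfsgLib.InvChar
open scoped Matrix

variable {G : Type*} [Group G] {F : Type*} [Field F] [Fintype F]

/-- The line of `v0`. -/
def line0 (hF : Fintype.card F = 4) : Set (Fin 4 → F) := Set.range fun k : F => k • v0 hF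

theorem card_line0 (hF : Fintype.card F = 4) : Nat.card (line0 hF) ≤ 4 := by
  refine (Finite.card_range_le _).trans ?_
  rw [Nat.card_eq_fintype_card, hF]

theorem line0_move (hF : Fintype.card F = 4) {a b : Fin 4 → F} (h : a + b ∈ line0 hF) :
    ∃ k : F, b = a + k • v0 hF := by
  obtain ⟨k, hk⟩ := h
  refine ⟨k, ?_⟩
  funext i
  have h := congrFun hk i
  simp only [Pi.add_apply, Pi.smul_apply, smul_eq_mul] at h ⊢
  linear_combination (-1 : F) * h - a i * f4_char hF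

namespace QSing

variable {S : Set (Fin 4 → FQ4)} (h : QSing S)
include h

theorem mem_line0 (hF : Fintype.card F = 4) {a : Fin 4 → FQ4} (ha : a ∈ S) (h0 : a 2 = 0 ∧ a 3 = 0) :
    (fun j => f4Equiv hF (a j)) ∈ line0 hF := by
  refine ⟨f4Equiv hF (a 0), funext fun j => ?_⟩
  rw [h.eq_diag ha, h0.1, h0.2]
  show f4Equiv hF (qv (a 0) (a 0) 0 0 0) * v0 hF j = _
  rw [v0, ← map_mul]
  congr 1
  fin_cases j <;> simp [qv, q0]

end QSing

theorem fq4_omega : (⟨2⟩ : FQ4) ≠ 0 ∧ (⟨2⟩ : FQ4) ≠ 1 ∧ (⟨3⟩ : FQ4) ≠ 0 ∧ (⟨3⟩ : FQ4) ≠ 1 ∧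
    (⟨3⟩ : FQ4) * ⟨2⟩ = 1 ∧ (⟨3⟩ : FQ4) * ⟨3⟩ = ⟨2⟩ := by decide

namespace NatData

variable [Finite G] (N : NatData G F)

theorem no_line {g : G} (ht : g * N.z * g⁻¹ ∈ N.J) (hne : g * N.z * g⁻¹ ≠ N.z)
    (hv : N.vec (g * N.z * g⁻¹) = v0 N.hF)
    (hl : ∀ a ∈ N.mvec (N.meetJ g), a 2 = 0 ∧ a 3 = 0) : False := by
  have hS := N.qsing ht hne hv
  have hline : ∀ x ∈ N.meetJ g, N.vec x ∈ line0 N.hF := by
    intro x hx
    obtain ⟨w, hw⟩ := exists_model N.hF (N.vec x)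
    rw [hw]
    exact hS.mem_line0 N.hF ⟨x, hx, hw⟩ (hl w ⟨x, hx, hw⟩)
  have hA : Nat.card (N.meetJ g) ≤ 8 := by
    refine (N.card_le_vec _ inf_le_left _ hline).trans ?_
    have := card_line0 N.hF
    omega
  set C := centralizer ({N.z} : Set G) with hC
  have hs := N.step ht hne
  have hs0 : N.vec (g⁻¹ * N.z * g) ≠ 0 := by
    refine N.vec_ne hs (fun e => N.z_ne ?_) fun e => hne ?_
    · calc N.z = g * (g⁻¹ * N.z * g) * g⁻¹ := by group
        _ = 1 := by rw [e, mul_one, mul_inv_cancel]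
    · calc g * N.z * g⁻¹ = g * (g⁻¹ * N.z * g) * g⁻¹ := by rw [e]
        _ = N.z := by group
  have hQ : Nat.card (N.cj g ⊓ C : Subgroup G) = 256 := by
    rw [← N.card_J_cent hs hs0, Nat.card_congr ((N.J ⊓ centralizer ({g⁻¹ * N.z * g} : Set G)).equivMapOfInjective
      (MulAut.conj g).toMonoidHom (MulAut.conj g).injective).toEquiv,
      map_inf _ _ _ (MulAut.conj g).injective, map_conj_cent,
      show g * (g⁻¹ * N.z * g) * g⁻¹ = N.z by group]
    rfl
  have hact : ∀ y ∈ N.cj g ⊓ C, (∀ v, N.act y v = v) ∨ ∀ v, N.act y v = transvec (v0 N.hF) v := by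
    intro y hy
    obtain ⟨hyg, hyC⟩ := mem_inf.1 hy
    have hmove : ∀ x, hermForm 4 F 2 x (v0 N.hF) + hermForm 4 F 2 x (v0 N.hF) ^ 2 = 0 →
        ∃ k : F, N.act y x = x + k • v0 N.hF := by
      intro x hx
      obtain ⟨a, ha, rfl⟩ := N.vec_surj x
      have hat : a ∈ centralizer ({g * N.z * g⁻¹} : Set G) :=
        mem_centralizer_singleton_iff.2 ((N.comm_iff a ha _ ht).2 (by rwa [hv]))
      obtain ⟨h1, h2⟩ := N.vec_comm hyC ha
      refine line0_move N.hF (h2 ▸ hline _ (mem_inf.2 ⟨h1, mul_mem ?_ (inv_mem hyg)⟩))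
      exact N.cj_conj hat hyg
    have hfix : N.act y (v0 N.hF) = v0 N.hF := by
      rw [← hv, ← N.act_vec y hyC _ ht,
        show y * (g * N.z * g⁻¹) = g * N.z * g⁻¹ * y from mem_centralizer_singleton_iff.1 (N.cj_cent hyg),
        mul_inv_cancel_right]
    refine N.two_acts hyC hfix (fun x hx => hmove x (by rw [hx]; simp)) (hmove _ ?_)
    rw [herm_v0 N.hF]
    simp [f4_add_self N.hF]
  have h : Nat.card (N.cj g ⊓ C : Subgroup G) ≤ 2 * Nat.card (N.J ⊓ (N.cj g ⊓ C) : Subgroup G) :=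
    N.card_two_act _ inf_le_right hact
  have h2 : Nat.card (N.J ⊓ (N.cj g ⊓ C) : Subgroup G) ≤ Nat.card (N.meetJ g) :=
    Nat.card_le_card_of_injective _ (inclusion_injective (inf_le_inf_left _ inf_le_left))
  omega

theorem no_plane {g : G} (ht : g * N.z * g⁻¹ ∈ N.J) (hne : g * N.z * g⁻¹ ≠ N.z)
    (hv : N.vec (g * N.z * g⁻¹) = v0 N.hF)
    (hw : (fun x => (⟨2⟩ : FQ4) * q0 x) ∈ N.mvec (N.meetJ g))
    (hf : ∃ f : FQ4 × Bool × Bool → Fin 4 → FQ4, Function.Injective f ∧ ∀ p, f p ∈ N.mvec (N.meetJ g)) :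
    False := by
  have hS := N.qsing ht hne hv
  obtain ⟨n20, n21, n30, n31, e32, e33⟩ := fq4_omega
  set e := f4Equiv N.hF with he
  -- at least 32 elements in the meet
  have hbig : 32 ≤ Nat.card (N.meetJ g) := by
    obtain ⟨f, hfi, hfS⟩ := hf
    choose r hr hrv using hfS
    have hvz : ∀ p, N.vec (r p * N.z) = fun j => e (f p j) := fun p =>
      (N.vec_mul_z (hr p).1).trans (hrv p)
    let φ : (FQ4 × Bool × Bool) × Bool → N.meetJ g := fun p =>
      ⟨bif p.2 then r p.1 * N.z else r p.1, by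
        rcases p.2
        · exact hr p.1
        · exact mul_mem (hr p.1) (N.z_mem_meetJ ht hne)⟩
    have hφ : Function.Injective φ := by
      rintro ⟨p, b⟩ ⟨q, c⟩ h
      simp only [φ, Subtype.mk.injEq] at h
      obtain rfl : p = q := hfi <| funext fun j => e.injective <| by
        have := congrArg N.vec h
        cases b <;> cases c <;> simp only [cond_true, cond_false, hvz, hrv] at this <;>
          exact congrFun this j
      cases b <;> cases c <;> simp [N.z_ne] at h ⊢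
    refine le_trans ?_ (Nat.card_le_card_of_injective φ hφ)
    rw [Nat.card_prod, Nat.card_prod, Nat.card_prod, Nat.card_eq_fintype_card (α := FQ4), FQ4.card_eq]
    simp
  -- the diagonal element
  obtain ⟨M, hM⟩ := exists_su_diag N.hF (fun i => e (![⟨2⟩, ⟨2⟩, ⟨3⟩, ⟨3⟩] i)) (fun i => by
      rw [ne_eq, map_eq_zero_iff _ e.injective]; fin_cases i <;> decide) (by
      simp only [← map_mul, ← map_one e]; congr 1)
  obtain ⟨h, hh, hhM⟩ := N.act_surj M
  have hhC := N.H0_le hh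
  have hD : ∀ w : Fin 4 → FQ4, N.act h (fun j => e (w j)) =
      fun j => e (![⟨2⟩, ⟨2⟩, ⟨3⟩, ⟨3⟩] j * w j) := fun w => by
    funext j; rw [hhM, hM, map_mul]
  set t := g * N.z * g⁻¹ with htdef
  set g2 := h * g with hg2
  have ht2 : g2 * N.z * g2⁻¹ = h * t * h⁻¹ := by rw [hg2, htdef]; group
  have hv2 : N.vec (h * t * h⁻¹) = fun j => e ((⟨2⟩ : FQ4) * q0 j) := by
    unfold v0 at hv
    rw [N.act_vec h hhC t ht, hv, hD]
    funext j; fin_cases j <;> simp [q0]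
  have ht2A : h * t * h⁻¹ ∈ N.meetJ g := by
    obtain ⟨x, hx, ex⟩ := hw
    rcases N.vec_eq hx.1 (N.J_normal h hhC t ht) (ex.trans hv2.symm) with e' | e' <;> rw [e']
    exacts [hx, mul_mem hx (N.z_mem_meetJ ht hne)]
  set k := g⁻¹ * g2 with hk
  have hkz : k * N.z * k⁻¹ = g⁻¹ * (h * t * h⁻¹) * g := by rw [← ht2, hk]; group
  have hkJ : k * N.z * k⁻¹ ∈ N.J := hkz ▸ (N.mem_meetJ.1 ht2A).2
  have hkne : k * N.z * k⁻¹ ≠ N.z := by
    intro h'
    rw [hkz] at h'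
    have h'' : h * t * h⁻¹ = t := by
      calc h * t * h⁻¹ = g * (g⁻¹ * (h * t * h⁻¹) * g) * g⁻¹ := by group
        _ = t := by rw [h']
    rw [h''] at hv2
    have h0 := congrFun (hv.symm.trans hv2) 0
    simp only [v0] at h0
    exact n21 (by simpa [q0] using (e.injective h0).symm)
  -- the meet of the two conjugates
  set U := N.cj g ⊓ N.cj g2 with hU
  have hUk : U = (N.meetJ k).map (MulAut.conj g).toMonoidHom := by
    ext x
    rw [hU, mem_inf, mem_cj, mem_cj]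
    constructor
    · rintro ⟨h1, h2⟩
      refine ⟨g⁻¹ * x * g, N.mem_meetJ.2 ⟨h1, ?_⟩, by simp [mul_assoc]⟩
      rwa [show k⁻¹ * (g⁻¹ * x * g) * k = g2⁻¹ * x * g2 by rw [hk]; group]
    · rintro ⟨y, hy, rfl⟩
      obtain ⟨h1, h2⟩ := N.mem_meetJ.1 hy
      constructor
      · simpa [mul_assoc] using h1
      · rwa [show g2⁻¹ * (MulAut.conj g).toMonoidHom y * g2 = k⁻¹ * y * k by simp [hk, mul_assoc]]
  have hUcard : Nat.card U = Nat.card (N.meetJ g) := by
    rw [hUk, ← N.meetJ_card ht hne hkJ hkne]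
    exact Nat.card_congr ((N.meetJ k).equivMapOfInjective _ (MulAut.conj g).injective).toEquiv.symm
  have hzU : N.z ∈ U := by
    rw [hU, mem_inf, mem_cj, mem_cj]
    refine ⟨N.step ht hne, ?_⟩
    have : h⁻¹ * N.z * h = N.z := by
      rw [mul_assoc, ← mem_centralizer_singleton_iff.1 hhC, inv_mul_cancel_left]
    rw [hg2, show (h * g)⁻¹ * N.z * (h * g) = g⁻¹ * (h⁻¹ * N.z * h) * g by group, this]
    exact N.step ht hne
  have hUC : U ≤ centralizer ({N.z} : Set G) := by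
    intro y hy
    rw [hUk] at hy hzU
    obtain ⟨a, ha, rfl⟩ := hy
    obtain ⟨b, hb, hbz⟩ := hzU
    rw [mem_centralizer_singleton_iff, ← hbz, ← map_mul, ← map_mul, N.meetJ_comm hkne ha hb]
  -- the vectors of `U ⊓ J` lie on the line
  have hUline : ∀ x ∈ N.J ⊓ U, N.vec x ∈ line0 N.hF := by
    intro x hx
    obtain ⟨hxJ, hxg, hxg2⟩ := hx
    have hxA : x ∈ N.meetJ g := ⟨hxJ, hxg⟩
    have hxA2 : x ∈ N.meetJ (h * g) := ⟨hxJ, hxg2⟩
    rw [N.meetJ_mul hhC] at hxA2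
    obtain ⟨y, hy, rfl⟩ := hxA2
    obtain ⟨a, ha⟩ := exists_model N.hF (N.vec y)
    obtain ⟨b, hb⟩ := exists_model N.hF (N.vec ((MulAut.conj h).toMonoidHom y))
    have haS : a ∈ N.mvec (N.meetJ g) := ⟨y, hy, ha⟩
    have hbS : b ∈ N.mvec (N.meetJ g) := ⟨_, hxA, hb⟩
    have hab : ∀ j, b j = ![⟨2⟩, ⟨2⟩, ⟨3⟩, ⟨3⟩] j * a j := fun j => by
      have h' : N.vec (h * y * h⁻¹) = fun j => e (b j) := hb
      rw [N.act_vec h hhC y hy.1, ha, hD] at h'
      exact (e.injective (congrFun h' j)).symm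
    obtain ⟨a2, a3⟩ := hS.no_mult haS hbS n30 n31 (hab 2) (hab 3)
    rw [hb]
    refine hS.mem_line0 N.hF hbS ⟨?_, ?_⟩
    · rw [hab 2, a2, mul_zero]
    · rw [hab 3, a3, mul_zero]
  have hUJ : Nat.card (N.J ⊓ U : Subgroup G) ≤ 8 := by
    refine (N.card_le_vec _ inf_le_left _ hUline).trans ?_
    have := card_line0 N.hF
    omega
  -- the action of `U`
  have hact : ∀ y ∈ U, (∀ v, N.act y v = v) ∨ ∀ v, N.act y v = transvec (v0 N.hF) v := by
    intro y hy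
    have hyC := hUC hy
    obtain ⟨hyg, hyg2⟩ := mem_inf.1 hy
    have hyt := mem_centralizer_singleton_iff.1 (N.cj_cent hyg)
    have hyt2 := mem_centralizer_singleton_iff.1 (N.cj_cent hyg2)
    rw [← htdef] at hyt
    have hfix : N.act y (v0 N.hF) = v0 N.hF := by
      rw [← hv, ← N.act_vec y hyC t ht, hyt, mul_inv_cancel_right]
    have hperp : ∀ x, hermForm 4 F 2 x (v0 N.hF) = 0 → ∃ c : F, N.act y x = x + c • v0 N.hF := by
      intro x hx
      obtain ⟨a, ha, rfl⟩ := N.vec_surj x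
      have hat : a ∈ centralizer ({t} : Set G) :=
        mem_centralizer_singleton_iff.2 ((N.comm_iff a ha t ht).2 (by rw [hv, hx]; simp))
      have hat2 : a ∈ centralizer ({g2 * N.z * g2⁻¹} : Set G) := by
        refine mem_centralizer_singleton_iff.2 ?_
        rw [ht2]
        refine (N.comm_iff a ha _ ht2A.1).2 ?_
        rw [hv2, show (fun j => e ((⟨2⟩ : FQ4) * q0 j)) = e ⟨2⟩ • v0 N.hF from
          funext fun j => map_mul e _ _, herm_smul_right N.hF, hx]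
        simp
      obtain ⟨h1, h2⟩ := N.vec_comm hyC ha
      exact line0_move N.hF (h2 ▸ hUline _ (mem_inf.2 ⟨h1, mem_inf.2
        ⟨mul_mem (N.cj_conj hat hyg) (inv_mem hyg), mul_mem (N.cj_conj hat2 hyg2) (inv_mem hyg2)⟩⟩))
    refine N.two_acts hyC hfix hperp ?_
    obtain ⟨M', hM'⟩ := N.linear_of_perp hyC hperp
    set e0 : Fin 4 → F := Pi.single 0 1 with he0
    -- the displacement of `e₀` is in the set
    obtain ⟨a, ha, hav⟩ := N.vec_surj e0
    obtain ⟨h1, h2⟩ := N.vec_comm hyC ha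
    have hatc : a ∈ centralizer ({t} : Set G) := mem_centralizer_singleton_iff.2 <|
      (N.comm_iff a ha t ht).2 (by rw [hav, hv, herm_v0 N.hF]; simp [he0, f4_add_self N.hF])
    have hwA : a * y * a⁻¹ * y⁻¹ ∈ N.meetJ g :=
      mem_inf.2 ⟨h1, mul_mem (N.cj_conj hatc hyg) (inv_mem hyg)⟩
    obtain ⟨d, hd⟩ := exists_model N.hF (e0 + N.act y e0)
    have hdS : d ∈ N.mvec (N.meetJ g) := ⟨_, hwA, by rw [h2, hav, hd]⟩
    -- and so is `ω` times it, after the diagonal element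
    obtain ⟨a', ha', hav'⟩ := N.vec_surj (e ⟨2⟩ • e0)
    obtain ⟨h1', h2'⟩ := N.vec_comm hyC ha'
    have hatc' : a' ∈ centralizer ({g2 * N.z * g2⁻¹} : Set G) := by
      refine mem_centralizer_singleton_iff.2 ?_
      rw [ht2]
      refine (N.comm_iff a' ha' _ ht2A.1).2 ?_
      rw [hav', hv2, show (fun j => e ((⟨2⟩ : FQ4) * q0 j)) = e ⟨2⟩ • v0 N.hF from
          funext fun j => map_mul e _ _, herm_smul_right N.hF, herm_smul_left N.hF, herm_v0 N.hF]
      simp only [he0, Pi.single_eq_same, Pi.single_eq_of_ne (show (1 : Fin 4) ≠ 0 by decide), add_zero,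
        mul_one, pow_two, ← map_mul]
      rw [← map_add, map_eq_zero_iff _ e.injective]
      decide
    have hwA' : a' * y * a'⁻¹ * y⁻¹ ∈ N.meetJ (h * g) :=
      mem_inf.2 ⟨h1', mul_mem (N.cj_conj hatc' hyg2) (inv_mem hyg2)⟩
    rw [N.meetJ_mul hhC] at hwA'
    obtain ⟨x, hx, ex⟩ := hwA'
    obtain ⟨b, hb⟩ := exists_model N.hF (N.vec x)
    have hbS : b ∈ N.mvec (N.meetJ g) := ⟨x, hx, hb⟩
    have hbd : ∀ j, ![⟨2⟩, ⟨2⟩, ⟨3⟩, ⟨3⟩] j * b j = (⟨2⟩ : FQ4) * d j := fun j => by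
      have h' : N.vec (h * x * h⁻¹) = N.vec (a' * y * a'⁻¹ * y⁻¹) := congrArg N.vec ex
      rw [N.act_vec h hhC x hx.1, hb, hD, h2', hav', hM', Matrix.mulVec_smul, ← hM', ← smul_add, hd] at h'
      apply e.injective
      rw [congrFun h' j, map_mul]
      rfl
    have hmul : ∀ u v : FQ4, ⟨3⟩ * u = (⟨2⟩ : FQ4) * v → u = (⟨2⟩ : FQ4) * ⟨2⟩ * v := by decide
    have h23 : (⟨2⟩ : FQ4) * ⟨2⟩ = ⟨3⟩ := by decide
    have b2 := hmul _ _ (hbd 2)
    have b3 := hmul _ _ (hbd 3)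
    rw [h23] at b2 b3
    obtain ⟨d2, d3⟩ := hS.no_mult hdS hbS n30 n31 b2 b3
    exact line0_move N.hF (hd ▸ hS.mem_line0 N.hF hdS ⟨d2, d3⟩)
  have h2 := N.card_two_act U hUC hact
  omega

/-- In the natural case `z` is the only conjugate of `z` in `J`. -/
theorem conj_mem_J : ∀ x ∈ N.J, IsConj N.z x → x = N.z := by
  intro x hx hc
  by_contra hne
  obtain ⟨g0, rfl⟩ := isConj_iff.1 hc
  have hx2 : g0 * N.z * g0⁻¹ * (g0 * N.z * g0⁻¹) = 1 := by
    rw [conj_mul, N.z_sq, mul_one, mul_inv_cancel]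
  have hx0 := N.vec_ne hx (fun e => N.z_ne (conj_eq_one_iff.1 e)) hne
  obtain ⟨j, hj, hjv⟩ := N.vec_surj (v0 N.hF)
  have hj2 : j * j = 1 := (N.sq_iff j hj).2 (hjv ▸ v0_iso N.hF)
  have hj0 : N.vec j ≠ 0 := hjv ▸ v0_ne N.hF
  obtain ⟨r, hr, e⟩ := N.invol_orbit hx hx2 hx0 hj hj2 hj0
  set g := r * g0 with hg
  have ht : g * N.z * g⁻¹ = j := by rw [← e, hg]; group
  have hjne : g * N.z * g⁻¹ ≠ N.z := by
    rw [ht]; intro e'; exact hj0 (e' ▸ N.vec_z)
  have htJ : g * N.z * g⁻¹ ∈ N.J := ht ▸ hj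
  have hv : N.vec (g * N.z * g⁻¹) = v0 N.hF := ht ▸ hjv
  rcases (N.qsing htJ hjne hv).dichotomy with h | ⟨hw, hf⟩
  · exact N.no_line htJ hjne hv h
  · exact N.no_plane htJ hjne hv hw hf

/-- The flip lemma: for `t = g z g⁻¹` and `x ≠ 1` in `J` and in its conjugate by `g`, `t * x` is not
conjugate to `z`. -/
theorem flip {g t x : G} (hg : g * N.z * g⁻¹ = t) (hx : g⁻¹ * x * g ∈ N.J) (hne : x ≠ 1) :
    ¬ IsConj N.z (t * x) := by
  intro hc
  have e : g⁻¹ * (t * x) * g = N.z * (g⁻¹ * x * g) := by rw [← hg]; group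
  have h := N.conj_mem_J (N.z * (g⁻¹ * x * g)) (mul_mem N.z_mem hx)
    (hc.trans (isConj_iff.2 ⟨g⁻¹, by rw [inv_inv, e]⟩))
  rw [mul_eq_left] at h
  refine hne ?_
  calc x = g * (g⁻¹ * x * g) * g⁻¹ := by group
    _ = 1 := by rw [h, mul_one, mul_inv_cancel]

end NatData

end CfsgLib.Recog.U6Cent
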