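import Cfsg.Agent.Lib.Recog.U6Cent.NatFibre

/-!
The class of `z` satisfies the local conditions of the transvections of `PSU₆(2)`.
-/

set_option autoImplicit false
set_option linter.unusedSectionVars false
set_option linter.style.haveILetI false

namespace CfsgLib.Recog.U6Cent

open Subgroup Cfsg

variable {G : Type*} [Group G] {F : Type*} [Field F] [Fintype F]

/-- Collinearity of the points. -/
def qcol (i j : Fin 45) : Prop := Gq.qc i j = true

instance (i j : Fin 45) : Decidable (qcol i j) := inferInstanceAs (Decidable (Gq.qc i j = true))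

theorem qcol_ncard_one (p : Fin 45) : {q | qcol p q}.ncard = 12 := by
  rw [← Gq.qc_counts.1 p, ← Set.ncard_coe_finset]
  congr 1; ext q; simp [qcol]

theorem qcol_ncard_two {p q : Fin 45} (h : p ≠ q) : {r | qcol p r ∧ qcol q r}.ncard = 3 := by
  rw [← Gq.qc_counts.2.1 p q h, ← Set.ncard_coe_finset]
  congr 1; ext r; simp [qcol]

theorem qcol_symm {p q : Fin 45} (h : qcol p q) : qcol q p := by
  rw [qcol, ← Gq.qc_counts.2.2.1]; exact h

theorem qcol_ne {p q : Fin 45} (h : qcol p q) : p ≠ q := fun e => by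
  rw [e, qcol, Gq.qc_counts.2.2.2] at h; exact absurd h (by decide)

theorem qcol_conn (S : Set (Fin 45)) (hS : S.Nonempty) (hcl : ∀ p ∈ S, ∀ q, qcol p q → q ∈ S) :
    S = Set.univ := by
  obtain ⟨p, hp⟩ := hS
  refine Set.eq_univ_of_forall fun q => ?_
  by_cases h : p = q
  · exact h ▸ hp
  obtain ⟨r, hr1, hr2⟩ := Set.nonempty_of_ncard_ne_zero
    (show {r | qcol p r ∧ qcol q r}.ncard ≠ 0 by rw [qcol_ncard_two h]; norm_num)
  exact hcl r (hcl p hp r hr1) q (qcol_symm hr2)

namespace NatData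

variable (N : NatData G F)

/-- The class. -/
def cls : Set G := {y | IsConj N.z y}

open scoped _root_.Classical in
/-- The point of a member of `dset`. -/
noncomputable def ptT (t : G) : Fin 45 :=
  if h : ∃ i, N.TV t (pv N.hF i) then h.choose else 0

open scoped _root_.Classical in
/-- An element taking `z` to `a`. -/
noncomputable def toz (a : G) : G := if h : ∃ g, g * N.z * g⁻¹ = a then h.choose else 1

/-- The point of `b` seen from `a`. -/
noncomputable def fpt (a b : G) : Fin 45 := N.ptT ((N.toz a)⁻¹ * b * N.toz a)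

theorem toz_spec {a : G} (ha : a ∈ N.cls) : N.toz a * N.z * (N.toz a)⁻¹ = a := by
  have h : ∃ g, g * N.z * g⁻¹ = a := isConj_iff.1 ha
  rw [toz, dif_pos h]
  exact h.choose_spec

theorem nbrs_z : nbrs N.cls N.z = N.dset := by
  ext t
  exact ⟨fun h => ⟨h.1, h.2.2.symm.eq, h.2.1⟩, fun h => ⟨h.1, h.2.2, Commute.symm h.2.1⟩⟩

theorem mem_nbrs_iff {a b : G} (ha : a ∈ N.cls) :
    b ∈ nbrs N.cls a ↔ (N.toz a)⁻¹ * b * N.toz a ∈ N.dset := by
  rw [← N.nbrs_z]
  set g := N.toz a
  have hg : g * N.z * g⁻¹ = a := N.toz_spec ha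
  have ez : g⁻¹ * a * g = N.z := by rw [← hg]; group
  have hconj : ∀ x y : G, Commute (g⁻¹ * x * g) (g⁻¹ * y * g) ↔ Commute x y := fun x y => by
    constructor <;> intro h
    · have := h.map (MulAut.conj g).toMonoidHom
      simpa [mul_assoc] using this
    · have := h.map (MulAut.conj g⁻¹).toMonoidHom
      simpa [mul_assoc] using this
  have hc : b ∈ N.cls ↔ g⁻¹ * b * g ∈ N.cls := by
    have h : IsConj b (g⁻¹ * b * g) := isConj_iff.2 ⟨g⁻¹, by rw [inv_inv]⟩
    exact ⟨fun hb => IsConj.trans hb h, fun hb => IsConj.trans hb h.symm⟩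
  constructor
  · rintro ⟨h1, h2, h3⟩
    refine ⟨hc.1 h1, fun e => h2 ?_, ?_⟩
    · rw [← ez] at e
      exact mul_left_cancel (mul_right_cancel e)
    · rw [← ez]; exact (hconj a b).2 h3
  · rintro ⟨h1, h2, h3⟩
    refine ⟨hc.2 h1, fun e => h2 (by rw [e, ez]), ?_⟩
    rw [← ez] at h3
    exact (hconj a b).1 h3

variable (O : N.Orbit)
include O

theorem ptT_spec {t : G} (ht : t ∈ N.dset) : N.TV t (pv N.hF (N.ptT t)) := by
  classical
  have h : ∃ i, N.TV t (pv N.hF i) := by
    obtain ⟨v, hv, hvv, hT⟩ := O.transv t ht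
    obtain ⟨i, k, hk, rfl⟩ := pv_cover N.hF hv hvv
    exact ⟨i, fun x => (hT x).trans (transvec_smul N.hF hk _ _)⟩
  rw [ptT, dif_pos h]
  exact h.choose_spec

theorem ptT_eq {t : G} (ht : t ∈ N.dset) {i : Fin 45} (h : N.TV t (pv N.hF i)) : N.ptT t = i := by
  obtain ⟨k, -, e⟩ := transvec_inj (pv_ne N.hF (N.ptT t)) fun x => ((N.ptT_spec O ht) x).symm.trans (h x)
  exact pv_unique N.hF e

theorem fibre_ncard (i : Fin 45) : {t | t ∈ N.dset ∧ N.ptT t = i}.ncard = 4 := by
  rw [← O.cover _ (pv_ne N.hF i) (pv_iso N.hF i)]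
  congr 1
  ext t
  exact ⟨fun h => ⟨h.1, fun x => h.2 ▸ N.ptT_spec O h.1 x⟩, fun h => ⟨h.1, N.ptT_eq O h.1 h.2⟩⟩

theorem comm_z {t u : G} (ht : t ∈ N.dset) (hu : u ∈ N.dset) :
    (Commute t u ↔ N.ptT t = N.ptT u ∨ qcol (N.ptT t) (N.ptT u)) ∧
      (¬ Commute t u → (t * u) ^ 3 = 1) := by
  have key : hermForm 4 F 2 (pv N.hF (N.ptT t)) (pv N.hF (N.ptT u)) = 0 ↔
      N.ptT t = N.ptT u ∨ qcol (N.ptT t) (N.ptT u) := by
    constructor
    · intro h
      by_cases e : N.ptT t = N.ptT u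
      · exact Or.inl e
      · refine Or.inr ?_
        rw [qcol, Gq.qc, Bool.and_eq_true]
        exact ⟨by simpa using e, decide_eq_true ((pv_orth N.hF _ _).1 h)⟩
    · rintro (e | e)
      · rw [e]; exact pv_iso N.hF _
      · rw [qcol, Gq.qc, Bool.and_eq_true] at e
        exact (pv_orth N.hF _ _).2 (of_decide_eq_true e.2)
  rw [← key]
  by_cases h : hermForm 4 F 2 (pv N.hF (N.ptT t)) (pv N.hF (N.ptT u)) = 0
  · have hc := N.collinear_commute O ht hu (pv_ne N.hF _) (pv_ne N.hF _) (pv_iso N.hF _) (pv_iso N.hF _)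
      (N.ptT_spec O ht) (N.ptT_spec O hu) h
    exact ⟨⟨fun _ => h, fun _ => hc⟩, fun hn => absurd hc hn⟩
  · obtain ⟨h1, h2⟩ := N.noncollinear O ht hu (pv_ne N.hF _) (pv_ne N.hF _) (pv_iso N.hF _)
      (pv_iso N.hF _) (N.ptT_spec O ht) (N.ptT_spec O hu) h
    exact ⟨⟨fun hc => absurd hc h1, fun hh => absurd hh h⟩, fun _ => h2⟩

theorem closure_dset : closure N.dset = N.H0 := by
  set K := closure N.dset with hK
  have hKH : K ≤ N.H0 := (closure_le _).2 O.inner
  have hn : ∀ g ∈ N.H0, ∀ x ∈ K, g * x * g⁻¹ ∈ K := by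
    intro g hg x hx
    have h : K.map (MulAut.conj g).toMonoidHom ≤ K := by
      rw [MonoidHom.map_closure, closure_le]
      rintro _ ⟨t, ht, rfl⟩
      exact subset_closure (N.d_conj (N.H0_le hg) ht)
    exact h ⟨x, hx, rfl⟩
  have hz : N.z ∈ K := by
    obtain ⟨b, c, d, e, n1, n2, n3, n4, n5, n6, hs⟩ := Set.ncard_eq_four.1 (N.fibre_ncard O 0)
    have hm : ∀ y ∈ ({b, c, d, e} : Set G), y ∈ N.dset ∧ N.ptT y = 0 := fun y hy => hs.symm.subset hy
    obtain ⟨hb, eb⟩ := hm b (by simp)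
    obtain ⟨hc, ec⟩ := hm c (by simp)
    obtain ⟨hd, ed⟩ := hm d (by simp)
    obtain ⟨he, ee⟩ := hm e (by simp)
    rw [← N.four_prod O hb hc hd he (pv_ne N.hF 0) (pv_iso N.hF 0) (eb ▸ N.ptT_spec O hb)
      (ec ▸ N.ptT_spec O hc) (ed ▸ N.ptT_spec O hd) (ee ▸ N.ptT_spec O he) n1 n2 n3 n4 n5 n6]
    exact mul_mem (mul_mem (mul_mem (subset_closure hb) (subset_closure hc)) (subset_closure hd))
      (subset_closure he)
  have hiso : ∀ v : Fin 4 → F, hermForm 4 F 2 v v = 0 → ∃ x ∈ N.J, x ∈ K ∧ N.vec x = v := by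
    intro v hvv
    by_cases hv : v = 0
    · exact ⟨1, one_mem _, one_mem _, by rw [N.vec_one, hv]⟩
    obtain ⟨t, ht, htv⟩ := Set.nonempty_of_ncard_ne_zero
      (s := {t | t ∈ N.dset ∧ ∀ x, N.act t x = transvec v x}) (by rw [O.cover v hv hvv]; norm_num)
    obtain ⟨y, hy⟩ := exists_pairing hv 1
    obtain ⟨j, hj, hjy⟩ := N.vec_surj y
    obtain ⟨h1, h2⟩ := N.shift O hj ht htv
    exact ⟨_, h1, mul_mem (subset_closure ht) (subset_closure (N.d_conj (N.J_cent hj) ht)),
      by rw [h2, hjy, hy, one_smul]⟩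
  have hJK : N.J ≤ K := by
    -- `J ⊓ K` has all vectors in its image
    have hall : ∀ v : Fin 4 → F, ∃ x ∈ N.J, x ∈ K ∧ N.vec x = v := by
      classical
      obtain ⟨a, ha⟩ := exists_trace_one N.hF
      have hadd : ∀ v w, (∃ x ∈ N.J, x ∈ K ∧ N.vec x = v) → (∃ x ∈ N.J, x ∈ K ∧ N.vec x = w) →
          ∃ x ∈ N.J, x ∈ K ∧ N.vec x = v + w := by
        rintro _ _ ⟨x, hx, hx', rfl⟩ ⟨y, hy, hy', rfl⟩
        exact ⟨x * y, mul_mem hx hy, mul_mem hx' hy', N.vec_mul x hx y hy⟩
      have ha3 : a * a ^ 2 = 1 := by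
        have h1 : a ^ 2 + a + 1 = 0 := by rw [add_comm (a ^ 2) a, ha, f4_add_self N.hF]
        calc a * a ^ 2 = (a + 1) * (a ^ 2 + a + 1) - 2 * (a ^ 2 + a) - 1 := by ring
          _ = 1 := by
            rw [h1, mul_zero, f4_char N.hF, zero_mul, sub_zero, zero_sub, neg_eq_iff_add_eq_zero,
              f4_add_self N.hF]
      have hherm : ∀ i j : Fin 4, i ≠ j → ∀ k l : F,
          hermForm 4 F 2 (Pi.single i k + Pi.single j l) (Pi.single i k + Pi.single j l) =
            k * k ^ 2 + l * l ^ 2 := by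
        intro i j hij k l
        simp only [hermForm, Pi.add_apply]
        rw [Finset.sum_eq_add_of_mem i j (Finset.mem_univ i) (Finset.mem_univ j) hij fun x _ hx => by
          rw [Pi.single_eq_of_ne hx.1, Pi.single_eq_of_ne hx.2, add_zero, zero_mul]]
        rw [Pi.single_eq_same, Pi.single_eq_of_ne hij, Pi.single_eq_of_ne hij.symm, Pi.single_eq_same,
          add_zero, zero_add]
      have hbase : ∀ i : Fin 4, ∀ k : F, ∃ x ∈ N.J, x ∈ K ∧ N.vec x = Pi.single i k := by
        intro i k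
        obtain ⟨j, hij⟩ := exists_ne i
        by_cases hk : k = 0
        · exact ⟨1, one_mem _, one_mem _, by rw [hk, N.vec_one, Pi.single_zero]⟩
        -- `k = k a + k (1 + a)` and both `(k a, l)` and `(k (1 + a), l)` are isotropic
        have h3 : ∀ x : F, x ≠ 0 → x * x ^ 2 = 1 := fun x hx => mul_left_cancel₀ hx (by
          rw [mul_one]; exact (by ring : x * (x * x ^ 2) = x ^ 4).trans (f4_pow N.hF x))
        have ha0 : a ≠ 0 := fun e => by rw [e, zero_mul] at ha3; exact zero_ne_one ha3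
        have ha1 : 1 + a ≠ 0 := fun e => by
          have : a = 1 := by rw [eq_neg_of_add_eq_zero_right e, neg_eq_iff_add_eq_zero, f4_add_self N.hF]
          rw [this, one_pow, f4_add_self N.hF] at ha
          exact zero_ne_one ha
        obtain ⟨x, hx⟩ := hadd _ _
          (hiso (Pi.single i (k * a) + Pi.single j 1) (by
            rw [hherm i j hij.symm, h3 _ (mul_ne_zero hk ha0), one_pow, one_mul, f4_add_self N.hF]))
          (hiso (Pi.single i (k * (1 + a)) + Pi.single j 1) (by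
            rw [hherm i j hij.symm, h3 _ (mul_ne_zero hk ha1), one_pow, one_mul, f4_add_self N.hF]))
        refine ⟨x, hx.1, hx.2.1, hx.2.2.trans ?_⟩
        rw [add_add_add_comm, ← Pi.single_add, ← Pi.single_add, f4_add_self N.hF, Pi.single_zero,
          add_zero, ← mul_add, ← add_assoc, add_comm a 1, add_assoc, f4_add_self N.hF, add_zero, mul_one]
      intro v
      have hv : v = Pi.single 0 (v 0) + Pi.single 1 (v 1) + Pi.single 2 (v 2) + Pi.single 3 (v 3) := by
        funext i; fin_cases i <;> simp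
      rw [hv]
      exact hadd _ _ (hadd _ _ (hadd _ _ (hbase 0 _) (hbase 1 _)) (hbase 2 _)) (hbase 3 _)
    intro x hx
    obtain ⟨y, hy, hyK, e⟩ := hall (N.vec x)
    have h0 : N.vec (y⁻¹ * x) = 0 := by
      rw [N.vec_mul _ (inv_mem hy) _ hx, N.vec_inv hy, e]
      exact funext fun i => f4_add_self N.hF _
    rcases (N.vec_zero _ (mul_mem (inv_mem hy) hx)).1 h0 with h | h
    · rw [← inv_mul_eq_one.1 h]; exact hyK
    · rw [show x = y * N.z by rw [← h, mul_inv_cancel_left]]
      exact mul_mem hyK hz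
  refine N.H0_max K hJK hKH hn fun hle => ?_
  obtain ⟨t, ht⟩ := O.nonempty
  obtain ⟨v, hv, -, hT⟩ := O.transv t ht
  obtain ⟨x, hx⟩ := exists_pairing hv 1
  have e := (hT x).symm.trans (N.act_J (hle (subset_closure ht)) x)
  unfold transvec at e
  rw [hx, one_smul, add_eq_left] at e
  exact hv e

/-- An element of `C(z)` centralising the vectors orthogonal to `v` squares into `J`. -/
theorem sq_mem_J {n : G} (hn : n ∈ N.H0) {v : Fin 4 → F} (hv : v ≠ 0)
    (hvv : hermForm 4 F 2 v v = 0) (h : ∀ x, hermForm 4 F 2 x v = 0 → N.act n x = x) : n * n ∈ N.J := by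
  refine (N.act_one _ (N.H0_le (mul_mem hn hn))).1 fun y => ?_
  rw [N.act_mul (N.H0_le hn) (N.H0_le hn)]
  set d := N.act n y + y with hd
  have hdx : ∀ x, hermForm 4 F 2 x v = 0 → hermForm 4 F 2 d x = 0 := fun x hx => by
    rw [hd, herm_add_left N.hF]
    conv_lhs => arg 1; rw [← h x hx, N.act_herm hn]
    exact f4_add_self N.hF _
  have hdv : ∃ k : F, d = k • v := by
    by_contra hne
    push Not at hne
    obtain ⟨x, hx1, hx2⟩ := exists_orth_pairing N.hF hv hne 1
    have := hdx x hx1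
    rw [herm_swap N.hF x d, hx2, one_pow] at this
    exact one_ne_zero this
  obtain ⟨k, hk⟩ := hdv
  have e : N.act n y = y + k • v := by
    rw [← hk, hd, add_comm (N.act n y) y, ← add_assoc,
      show y + y = 0 from funext fun i => f4_add_self N.hF _, zero_add]
  rw [e, N.act_add (N.H0_le hn), N.act_smul hn, h v hvv, e, add_assoc,
    show k • v + k • v = 0 from funext fun i => f4_add_self N.hF _, add_zero]

theorem cent_two_z (M : Subgroup G) (hM : M ≤ centralizer ({N.z} : Set G)) (hne : M ≠ ⊥)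
    (hn : ∀ g ∈ N.H0, ∀ n ∈ M, g * n * g⁻¹ ∈ M) : N.z ∈ M := by
  have hcomm : ∀ n ∈ M, ∀ j ∈ N.J, n * j * n⁻¹ * j⁻¹ ∈ M ⊓ N.J := fun n hnM j hj =>
    mem_inf.2 ⟨by
      rw [show n * j * n⁻¹ * j⁻¹ = n * (j * n⁻¹ * j⁻¹) by group]
      exact mul_mem hnM (hn j (N.J_le hj) _ (inv_mem hnM)),
    mul_mem (N.J_normal n (hM hnM) j hj) (inv_mem hj)⟩
  by_cases hb : M ⊓ N.J = ⊥
  · exfalso
    refine hne ((eq_bot_iff).2 fun n hnM => ?_)
    have hnJ : n ∈ N.J := (N.act_one n (hM hnM)).1 fun v => by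
      obtain ⟨j, hj, rfl⟩ := N.vec_surj v
      have := hcomm n hnM j hj
      rw [hb, mem_bot, mul_inv_eq_one] at this
      rw [← N.act_vec n (hM hnM) j hj, this]
    have : n ∈ M ⊓ N.J := ⟨hnM, hnJ⟩
    rwa [hb] at this
  · obtain ⟨⟨x, hx⟩, hx1⟩ := ne_bot_iff_exists_ne_one.1 hb
    obtain ⟨hxM, hxJ⟩ := mem_inf.1 hx
    by_cases h0 : N.vec x = 0
    · rcases (N.vec_zero x hxJ).1 h0 with e | e
      · exact absurd (Subtype.ext e) hx1
      · exact e ▸ hxM
    obtain ⟨a, ha⟩ := exists_trace_one N.hF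
    obtain ⟨y, hy⟩ := exists_pairing h0 a
    obtain ⟨j, hj, rfl⟩ := N.vec_surj y
    have hnc : ¬ j * x = x * j := fun hcx => by
      have := (N.comm_iff j hj x hxJ).1 hcx
      rw [hy, ha] at this
      exact one_ne_zero this
    rcases N.comm_or j hj x hxJ with e | e
    · exact absurd e hnc
    · have h1 : j * x * j⁻¹ = x * N.z := by
        rw [e, mul_assoc, ← N.J_z (inv_mem hj)]; group
      have h2 := mul_mem (inv_mem hxM) (hn j (N.J_le hj) x hxM)
      rwa [h1, inv_mul_cancel_left] at h2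

theorem cent_odd_z (M : Subgroup G) (hM : M ≤ centralizer ({N.z} : Set G)) (hodd : Odd (Nat.card M))
    (hn : ∀ g ∈ N.H0, ∀ n ∈ M, g * n * g⁻¹ ∈ M) : M = ⊥ := by
  by_contra hne
  have hz := N.cent_two_z O M hM hne hn
  have h2 : orderOf N.z = 2 := by
    haveI : Fact (Nat.Prime 2) := ⟨Nat.prime_two⟩
    exact orderOf_eq_prime (by rw [pow_two, N.z_sq]) N.z_ne
  have h3 : orderOf (⟨N.z, hz⟩ : M) ∣ Nat.card M := orderOf_dvd_natCard _
  rw [← orderOf_coe, h2] at h3
  exact Nat.not_even_iff_odd.2 hodd (even_iff_two_dvd.2 h3)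

theorem pair_odd_z {t : G} (ht : t ∈ N.dset) (M : Subgroup G)
    (hM : M ≤ centralizer ({N.z} : Set G) ⊓ centralizer ({t} : Set G)) (hodd : Odd (Nat.card M))
    (hn : ∀ g ∈ centralizer ({N.z} : Set G) ⊓ centralizer ({t} : Set G), ∀ n ∈ M, g * n * g⁻¹ ∈ M) :
    M = ⊥ := by
  have small : ∀ n ∈ M, n * n = 1 → n = 1 := by
    intro n hnM h
    have h1 : orderOf (⟨n, hnM⟩ : M) ∣ 2 :=
      orderOf_dvd_of_pow_eq_one (Subtype.ext (by simpa [pow_two] using h))
    rcases (Nat.dvd_prime Nat.prime_two).1 h1 with e | e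
    · exact congrArg Subtype.val (orderOf_eq_one_iff.1 e)
    · have h2 : orderOf (⟨n, hnM⟩ : M) ∣ Nat.card M := orderOf_dvd_natCard _
      rw [e] at h2
      exact absurd (even_iff_two_dvd.2 h2) (Nat.not_even_iff_odd.2 hodd)
  have hMJ : ∀ n ∈ M, n ∈ N.J → n = 1 := fun n hnM hnJ => by
    rcases N.sq_or n hnJ with h | h
    · exact small n hnM h
    · have h4 : n * n = 1 := small (n * n) (mul_mem hnM hnM) (by rw [h, N.z_sq])
      exact small n hnM h4
  have hT := N.ptT_spec O ht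
  have hfix : ∀ n ∈ M, ∀ x, hermForm 4 F 2 x (pv N.hF (N.ptT t)) = 0 → N.act n x = x := by
    intro n hnM x hx
    obtain ⟨j, hj, rfl⟩ := N.vec_surj x
    have hjc : j ∈ centralizer ({N.z} : Set G) ⊓ centralizer ({t} : Set G) :=
      ⟨N.J_cent hj, mem_centralizer_singleton_iff.2 (N.cent_self O ht hT hj hx)⟩
    have h1 : n * j * n⁻¹ * j⁻¹ ∈ M := by
      rw [show n * j * n⁻¹ * j⁻¹ = n * (j * n⁻¹ * j⁻¹) by group]
      exact mul_mem hnM (hn j hjc _ (inv_mem hnM))
    have h2 : n * j * n⁻¹ * j⁻¹ ∈ N.J := mul_mem (N.J_normal n (hM hnM).1 j hj) (inv_mem hj)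
    rw [← N.act_vec n (hM hnM).1 j hj, mul_inv_eq_one.1 (hMJ _ h1 h2)]
  refine (eq_bot_iff).2 fun n hnM => mem_bot.2 ?_
  have hn0 : n ∈ N.H0 := by
    by_contra h0
    set v := pv N.hF (N.ptT t)
    obtain ⟨a, ha⟩ := exists_trace_one N.hF
    have h1 := hfix n hnM (a • v) (by rw [herm_smul_left N.hF, pv_iso N.hF, mul_zero])
    rw [N.act_outer n (hM hnM).1 h0, hfix n hnM v (pv_iso N.hF _)] at h1
    have h2 : a ^ 2 = a := smul_left_injective F (pv_ne N.hF _) h1
    rw [h2, f4_add_self N.hF] at ha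
    exact zero_ne_one ha
  exact small n hnM (hMJ _ (mul_mem hnM hnM) (N.sq_mem_J O hn0 (pv_ne N.hF _) (pv_iso N.hF _) (hfix n hnM)))

theorem cent_center_z {x : G} (hx : x ∈ centralizer ({N.z} : Set G)) (h : ∀ b ∈ N.dset, Commute x b) :
    x = 1 ∨ x = N.z := by
  have hall : ∀ g ∈ N.H0, x * g = g * x := by
    intro g hg
    rw [← N.closure_dset O] at hg
    have : closure N.dset ≤ centralizer ({x} : Set G) :=
      (closure_le _).2 fun b hb => mem_centralizer_singleton_iff.2 (h b hb).symm.eq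
    exact (mem_centralizer_singleton_iff.1 (this hg)).symm
  have hxJ : x ∈ N.J := (N.act_one x hx).1 fun v => by
    obtain ⟨j, hj, rfl⟩ := N.vec_surj v
    rw [← N.act_vec x hx j hj, hall j (N.J_le hj), mul_inv_cancel_right]
  refine (N.vec_zero x hxJ).1 ?_
  by_contra h0
  obtain ⟨a, ha⟩ := exists_trace_one N.hF
  obtain ⟨y, hy⟩ := exists_pairing h0 a
  obtain ⟨j, hj, rfl⟩ := N.vec_surj y
  have := (N.comm_iff j hj x hxJ).1 (hall j (N.J_le hj)).symm
  rw [hy, ha] at this
  exact one_ne_zero this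

theorem transport {a : G} (ha : a ∈ N.cls) (M : Subgroup G) (hM : M ≤ centralizer ({a} : Set G))
    (hn : ∀ g ∈ closure (nbrs N.cls a), ∀ n ∈ M, g * n * g⁻¹ ∈ M) :
    (M.map (MulAut.conj (N.toz a)⁻¹).toMonoidHom ≤ centralizer ({N.z} : Set G)) ∧
      (M.map (MulAut.conj (N.toz a)⁻¹).toMonoidHom = ⊥ → M = ⊥) ∧
      ∀ y ∈ N.H0, ∀ n ∈ M.map (MulAut.conj (N.toz a)⁻¹).toMonoidHom,
        y * n * y⁻¹ ∈ M.map (MulAut.conj (N.toz a)⁻¹).toMonoidHom := by
  set g := N.toz a with hg
  have e1 : g * N.z * g⁻¹ = a := N.toz_spec ha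
  have eg : ∀ x : G, (MulAut.conj g⁻¹).toMonoidHom x = g⁻¹ * x * g := fun x => by simp
  refine ⟨?_, fun h => (map_eq_bot_iff_of_injective _ (MulAut.conj g⁻¹).injective).1 h, ?_⟩
  · rintro _ ⟨m, hm, rfl⟩
    have h := mem_centralizer_singleton_iff.1 (hM hm)
    rw [← e1] at h
    rw [eg, mem_centralizer_singleton_iff]
    calc g⁻¹ * m * g * N.z = g⁻¹ * (m * (g * N.z * g⁻¹)) * g := by group
      _ = _ := by rw [h]; group
  · rintro y hy _ ⟨m, hm, rfl⟩
    have hy' : g * y * g⁻¹ ∈ closure (nbrs N.cls a) := by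
      rw [← N.closure_dset O] at hy
      have hle : (closure N.dset).map (MulAut.conj g).toMonoidHom ≤ closure (nbrs N.cls a) := by
        rw [MonoidHom.map_closure, closure_le]
        rintro _ ⟨t, ht, rfl⟩
        refine subset_closure ((N.mem_nbrs_iff ha).2 ?_)
        simpa [hg, mul_assoc] using ht
      exact hle ⟨y, hy, rfl⟩
    refine ⟨(g * y * g⁻¹) * m * (g * y * g⁻¹)⁻¹, hn _ hy' m hm, ?_⟩
    rw [eg, eg]; group

/-- The class of `z` satisfies the local conditions. -/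
theorem nat_base : Base N.cls (Fin 45) qcol N.fpt where
  nonempty := ⟨N.z, IsConj.refl _⟩
  invol a ha := by
    haveI : Fact (Nat.Prime 2) := ⟨Nat.prime_two⟩
    obtain ⟨g, rfl⟩ := isConj_iff.1 ha
    refine orderOf_eq_prime ?_ fun e => N.z_ne (conj_eq_one_iff.1 e)
    rw [conj_pow, pow_two, N.z_sq, mul_one, mul_inv_cancel]
  isClass a ha := Set.ext fun _ => ⟨fun hy => (IsConj.symm ha).trans hy, fun hy => IsConj.trans ha hy⟩
  col_irrefl p h := qcol_ne h rfl
  col_symm _ _ h := qcol_symm h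
  card_points := by simp
  degree := qcol_ncard_one
  perp p q h _ := qcol_ncard_two h
  perp_col p q h := qcol_ncard_two (qcol_ne h)
  conn := qcol_conn
  fibre_card a ha p := by
    set g := N.toz a with hg
    rw [← N.fibre_ncard O p, ← Set.ncard_image_of_injective {t | t ∈ N.dset ∧ N.ptT t = p}
      (f := fun t => g * t * g⁻¹) fun x y e => mul_left_cancel (mul_right_cancel e)]
    congr 1
    ext b
    simp only [Set.mem_ofPred_eq, Set.mem_image, N.mem_nbrs_iff ha, fpt]
    constructor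
    · rintro ⟨h1, h2⟩
      exact ⟨_, ⟨h1, h2⟩, by rw [hg]; group⟩
    · rintro ⟨t, ⟨h1, h2⟩, rfl⟩
      rw [show g⁻¹ * (g * t * g⁻¹) * g = t by group]
      exact ⟨h1, h2⟩
  comm a ha b hb c hc := by
    rw [N.mem_nbrs_iff ha] at hb hc
    rw [fpt, fpt, ← (N.comm_z O hb hc).1]
    constructor
    · intro h
      have := h.map (MulAut.conj (N.toz a)⁻¹).toMonoidHom
      simpa [mul_assoc] using this
    · intro h
      have := h.map (MulAut.conj (N.toz a)).toMonoidHom
      simpa [mul_assoc] using this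
  braid a ha b hb c hc hbc := by
    rw [N.mem_nbrs_iff ha] at hb hc
    have h := (N.comm_z O hb hc).2 fun h => hbc (by
      have := h.map (MulAut.conj (N.toz a)).toMonoidHom
      simpa [mul_assoc] using this)
    have e : b * c = N.toz a * ((N.toz a)⁻¹ * b * N.toz a * ((N.toz a)⁻¹ * c * N.toz a)) *
        (N.toz a)⁻¹ := by group
    rw [e, conj_pow, h, mul_one, mul_inv_cancel]
  line_prod a ha b hb c hc d hd e he ec ed ee n1 n2 n3 n4 n5 n6 := by
    rw [N.mem_nbrs_iff ha] at hb hc hd he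
    simp only [fpt] at ec ed ee
    set g := N.toz a with hg
    have inj : ∀ {x y : G}, x ≠ y → g⁻¹ * x * g ≠ g⁻¹ * y * g :=
      fun {x y} h e => h (mul_left_cancel (mul_right_cancel e))
    have h := N.four_prod O hb hc hd he (pv_ne N.hF _) (pv_iso N.hF _) (N.ptT_spec O hb)
      (ec ▸ N.ptT_spec O hc) (ed ▸ N.ptT_spec O hd) (ee ▸ N.ptT_spec O he) (inj n1) (inj n2) (inj n3)
      (inj n4) (inj n5) (inj n6)
    calc a * b * c * d * e = g * (N.z * ((g⁻¹ * b * g) * (g⁻¹ * c * g) * (g⁻¹ * d * g) *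
          (g⁻¹ * e * g))) * g⁻¹ := by
            conv_lhs => rw [← N.toz_spec ha, ← hg]
            group
      _ = 1 := by rw [h, N.z_sq, mul_one, mul_inv_cancel]
  gen_card a ha := by
    set g := N.toz a with hg
    have e : nbrs N.cls a = (MulAut.conj g).toMonoidHom '' N.dset := by
      ext b
      rw [N.mem_nbrs_iff ha]
      constructor
      · exact fun h => ⟨_, h, by simp [hg, mul_assoc]⟩
      · rintro ⟨t, ht, rfl⟩
        simpa [hg, mul_assoc] using ht
    rw [e, ← MonoidHom.map_closure, N.closure_dset O, ← N.card_H0]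
    exact Nat.card_congr (N.H0.equivMapOfInjective _ (MulAut.conj g).injective).toEquiv.symm
  cent_card a ha := by
    set g := N.toz a with hg
    have e : Nat.card (centralizer ({a} : Set G)) = Nat.card (centralizer ({N.z} : Set G)) := by
      have hm : (centralizer ({N.z} : Set G)).map (MulAut.conj g).toMonoidHom =
          centralizer ({a} : Set G) := by
        ext x
        rw [mem_centralizer_singleton_iff, ← N.toz_spec ha, ← hg]
        constructor
        · rintro ⟨y, hy, rfl⟩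
          have := mem_centralizer_singleton_iff.1 hy
          show g * y * g⁻¹ * (g * N.z * g⁻¹) = g * N.z * g⁻¹ * (g * y * g⁻¹)
          calc g * y * g⁻¹ * (g * N.z * g⁻¹) = g * (y * N.z) * g⁻¹ := by group
            _ = _ := by rw [this]; group
        · intro h
          refine ⟨g⁻¹ * x * g, mem_centralizer_singleton_iff.2 ?_, by simp [mul_assoc]⟩
          calc g⁻¹ * x * g * N.z = g⁻¹ * (x * (g * N.z * g⁻¹)) * g := by group
            _ = _ := by rw [h]; group
      rw [← hm]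
      exact Nat.card_congr ((centralizer ({N.z} : Set G)).equivMapOfInjective _
        (MulAut.conj g).injective).toEquiv.symm
    rw [e]
    exact N.card_H
  cent_two a ha M hM _ hne hn := by
    obtain ⟨h1, h2, h3⟩ := N.transport O ha M hM hn
    have hz := N.cent_two_z O _ h1 (fun e => hne (h2 e)) h3
    rw [← N.toz_spec ha]
    obtain ⟨m, hm, e⟩ := hz
    rw [← e]
    simpa [mul_assoc] using hm
  cent_odd a ha M hM hodd hn := by
    obtain ⟨h1, h2, h3⟩ := N.transport O ha M hM hn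
    exact h2 (N.cent_odd_z O _ h1 ((Nat.card_congr (M.equivMapOfInjective (MulAut.conj (N.toz a)⁻¹).toMonoidHom
      (MulAut.conj (N.toz a)⁻¹).injective).toEquiv) ▸ hodd) h3)
  pair_odd a ha b hb M hM hodd hn := by
    set g := N.toz a with hg
    rw [N.mem_nbrs_iff ha, ← hg] at hb
    have eg : ∀ x : G, (MulAut.conj g⁻¹).toMonoidHom x = g⁻¹ * x * g := fun x => by simp
    have hcc : ∀ x : G, x ∈ centralizer ({a} : Set G) ⊓ centralizer ({b} : Set G) ↔
        g⁻¹ * x * g ∈ centralizer ({N.z} : Set G) ⊓ centralizer ({g⁻¹ * b * g} : Set G) := fun x => by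
      rw [mem_inf, mem_inf, mem_centralizer_singleton_iff, mem_centralizer_singleton_iff,
        mem_centralizer_singleton_iff, mem_centralizer_singleton_iff, ← N.toz_spec ha, ← hg]
      refine and_congr ⟨fun h => ?_, fun h => ?_⟩ ⟨fun h => ?_, fun h => ?_⟩
      · calc g⁻¹ * x * g * N.z = g⁻¹ * (x * (g * N.z * g⁻¹)) * g := by group
          _ = _ := by rw [h]; group
      · calc x * (g * N.z * g⁻¹) = g * (g⁻¹ * x * g * N.z) * g⁻¹ := by group
          _ = _ := by rw [h]; group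
      · calc g⁻¹ * x * g * (g⁻¹ * b * g) = g⁻¹ * (x * b) * g := by group
          _ = _ := by rw [h]; group
      · calc x * b = g * (g⁻¹ * x * g * (g⁻¹ * b * g)) * g⁻¹ := by group
          _ = _ := by rw [h]; group
    have h0 := N.pair_odd_z O hb (M.map (MulAut.conj g⁻¹).toMonoidHom) (by
        rintro _ ⟨m, hm, rfl⟩
        rw [eg]; exact (hcc m).1 (hM hm))
      ((Nat.card_congr (M.equivMapOfInjective (MulAut.conj g⁻¹).toMonoidHom (MulAut.conj g⁻¹).injective).toEquiv) ▸ hodd) (by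
        rintro y hy _ ⟨m, hm, rfl⟩
        refine ⟨(g * y * g⁻¹) * m * (g * y * g⁻¹)⁻¹, hn _ ((hcc _).2 ?_) m hm, ?_⟩
        · rwa [show g⁻¹ * (g * y * g⁻¹) * g = y by group]
        · rw [eg, eg]; group)
    exact (map_eq_bot_iff_of_injective _ (MulAut.conj g⁻¹).injective).1 h0
  cent_center a ha x hx h := by
    set g := N.toz a with hg
    have e1 : g * N.z * g⁻¹ = a := N.toz_spec ha
    have hxa := mem_centralizer_singleton_iff.1 hx
    rw [← e1] at hxa
    rcases N.cent_center_z O (x := g⁻¹ * x * g) (mem_centralizer_singleton_iff.2 (by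
        calc g⁻¹ * x * g * N.z = g⁻¹ * (x * (g * N.z * g⁻¹)) * g := by group
          _ = _ := by rw [hxa]; group))
      (fun b hb => by
        have hb' := (h (g * b * g⁻¹) ((N.mem_nbrs_iff ha).2 (by
          rw [← hg, show g⁻¹ * (g * b * g⁻¹) * g = b by group]; exact hb))).map
          (MulAut.conj g⁻¹).toMonoidHom
        simpa [mul_assoc] using hb') with e | e
    · left
      calc x = g * (g⁻¹ * x * g) * g⁻¹ := by group
        _ = 1 := by rw [e, mul_one, mul_inv_cancel]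
    · right
      calc x = g * (g⁻¹ * x * g) * g⁻¹ := by group
        _ = a := by rw [e, e1]

end NatData

end CfsgLib.Recog.U6Cent
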