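import Cfsg.Agent.Lib.Recog.U6Cent.NatAct

/-!
Elements of the unitary group of dimension four over four elements (transvections, diagonal elements, transitivity
on isotropic vectors) and the elementary consequences of the coordinates in the natural case.
-/

set_option autoImplicit false

namespace CfsgLib.Recog.U6Cent

open Matrix Subgroup Cfsg CfsgLib.InvChar

section Field

variable {F : Type*} [Field F] [Fintype F] (hF : Fintype.card F = 4)
include hF

theorem exists_omega : ∃ ω : F, ω ≠ 0 ∧ ω ≠ 1 ∧ ω ^ 2 = ω + 1 ∧ ω ^ 3 = 1 := by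
  refine ⟨f4Equiv hF ⟨2⟩, ?_, ?_, ?_, ?_⟩
  · rw [ne_eq, map_eq_zero_iff _ (f4Equiv hF).injective]; decide
  · rw [ne_eq, ← map_one (f4Equiv hF), (f4Equiv hF).injective.eq_iff]; decide
  · rw [← map_pow, ← map_one (f4Equiv hF), ← map_add, pow_two]; exact congrArg _ (by decide)
  · rw [← map_pow, ← map_one (f4Equiv hF), pow_succ, pow_two]; exact congrArg _ (by decide)

theorem f4_norm {a : F} (ha : a ≠ 0) : a * a ^ 2 = 1 := by
  have h := FiniteField.pow_card_sub_one_eq_one a ha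
  rw [hF] at h
  rw [← h]; ring

/-- A transvection with isotropic centre lies in the special unitary group. -/
theorem exists_su_transvec {v : Fin 4 → F} (hv : hermForm 4 F 2 v v = 0) :
    ∃ M : SU 4 F 2, ∀ x, slToMat 4 F M *ᵥ x = transvec v x := by
  let A : Matrix (Fin 4) (Fin 4) F := 1 + vecMulVec v (fun i => v i ^ 2)
  have hA : ∀ x, A *ᵥ x = transvec v x := fun x => by
    simp only [A, add_mulVec, one_mulVec, vecMulVec_mulVec, transvec, op_smul_eq_smul]
    congr 2
    simp only [hermForm, dotProduct]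
    exact Finset.sum_congr rfl fun i _ => mul_comm _ _
  have hd : A.det = 1 := by
    simp only [A, vecMulVec_eq Unit, det_one_add_replicateCol_mul_replicateRow]
    simp only [dotProduct]
    have : (∑ i, v i ^ 2 * v i) = hermForm 4 F 2 v v := Finset.sum_congr rfl fun i _ => mul_comm _ _
    rw [this, hv, add_zero]
  refine ⟨⟨⟨A, hd⟩, fun x y => ?_⟩, hA⟩
  show hermForm 4 F 2 (A *ᵥ x) (A *ᵥ y) = hermForm 4 F 2 x y
  rw [hA, hA, transvec, transvec, herm_add_left hF, herm_add_right hF, herm_add_right hF,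
    herm_smul_left hF, herm_smul_left hF, herm_smul_right hF, herm_smul_right hF, hv,
    herm_swap hF y v]
  linear_combination (hermForm 4 F 2 x v * hermForm 4 F 2 y v ^ 2) * f4_char hF

/-- A diagonal matrix of determinant one with entries of norm one lies in the special unitary group. -/
theorem exists_su_diag (d : Fin 4 → F) (hd : ∀ i, d i ≠ 0) (hdet : d 0 * d 1 * d 2 * d 3 = 1) :
    ∃ M : SU 4 F 2, ∀ x i, (slToMat 4 F M *ᵥ x) i = d i * x i := by
  have hA : (diagonal d).det = 1 := by rw [det_diagonal, Fin.prod_univ_four, hdet]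
  refine ⟨⟨⟨diagonal d, hA⟩, fun x y => ?_⟩, fun x i => mulVec_diagonal d x i⟩
  show hermForm 4 F 2 (diagonal d *ᵥ x) (diagonal d *ᵥ y) = hermForm 4 F 2 x y
  simp only [hermForm, mulVec_diagonal]
  refine Finset.sum_congr rfl fun i _ => ?_
  linear_combination (x i * y i ^ 2) * f4_norm hF (hd i)

theorem exists_su_step {x y : Fin 4 → F} (hx : hermForm 4 F 2 x x = 0) (hy : hermForm 4 F 2 y y = 0)
    (h : hermForm 4 F 2 x y = 1) : ∃ M : SU 4 F 2, slToMat 4 F M *ᵥ x = y := by
  obtain ⟨M, hM⟩ := exists_su_transvec hF (v := x + y) (by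
    rw [herm_add_left hF, herm_add_right hF, herm_add_right hF, hx, hy, h, herm_swap hF x y, h, one_pow,
      zero_add, add_zero, f4_add_self hF])
  refine ⟨M, ?_⟩
  rw [hM, transvec, herm_add_right hF, hx, h, zero_add, one_smul, ← add_assoc]
  funext i
  simp only [Pi.add_apply, f4_add_self hF, zero_add]

theorem mulVec_mul_su (M M' : SU 4 F 2) (x : Fin 4 → F) :
    slToMat 4 F (↑(M * M') : SpecialLinearGroup (Fin 4) F) *ᵥ x = slToMat 4 F M *ᵥ (slToMat 4 F M' *ᵥ x) := by
  rw [Subgroup.coe_mul, map_mul, mulVec_mulVec]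

end Field

/-- The vector `(1,1,0,0)` over the model field. -/
def q0 : Fin 4 → FQ4 := ![1, 1, 0, 0]

/-- The four elements. -/
theorem fq4_cases : ∀ a : FQ4, a = ⟨0⟩ ∨ a = ⟨1⟩ ∨ a = ⟨2⟩ ∨ a = ⟨3⟩ := by decide

theorem three_steps : ∀ i : Fin 45, ∀ c : FQ4, c ≠ 0 →
    ∃ j : Fin 45, ∃ k : FQ4, c * Gq.hq (Gq.rep i) (Gq.rep j) * (k * k) = 1 ∧
      ∃ m : Fin 45, ∃ l : FQ4, k * Gq.hq (Gq.rep j) (Gq.rep m) * (l * l) = 1 ∧
        l * Gq.hq (Gq.rep m) q0 = 1 := by
  decide +kernel

section Field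

variable {F : Type*} [Field F] [Fintype F] (hF : Fintype.card F = 4)
include hF

/-- The vector `(1,1,0,0)`. -/
noncomputable def v0 : Fin 4 → F := fun j => f4Equiv hF (q0 j)

theorem v0_iso : hermForm 4 F 2 (v0 hF) (v0 hF) = 0 := by
  unfold v0
  rw [herm_map hF, show Gq.hq q0 q0 = 0 by decide, map_zero]

theorem v0_ne : v0 hF ≠ 0 := fun h => by
  have := congrFun h 0
  simp [v0, q0] at this

theorem exists_model (x : Fin 4 → F) : ∃ w : Fin 4 → FQ4, x = fun j => f4Equiv hF (w j) :=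
  ⟨fun j => (f4Equiv hF).symm (x j), funext fun j => ((f4Equiv hF).apply_symm_apply (x j)).symm⟩

theorem exists_su_map {x y : Fin 4 → F} (hx : hermForm 4 F 2 x x = 0) (hx0 : x ≠ 0)
    (hy : hermForm 4 F 2 y y = 0) (hy0 : y ≠ 0) : ∃ M : SU 4 F 2, slToMat 4 F M *ᵥ x = y := by
  have key : ∀ x : Fin 4 → F, hermForm 4 F 2 x x = 0 → x ≠ 0 →
      ∃ M : SU 4 F 2, slToMat 4 F M *ᵥ x = v0 hF := by
    intro x hx hx0
    obtain ⟨i, c, hc, rfl⟩ := pv_cover hF hx0 hx
    obtain ⟨c', rfl⟩ := (f4Equiv hF).surjective c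
    obtain ⟨j, k, h1, m, l, h2, h3⟩ := three_steps i c' fun h => hc (by rw [h, map_zero])
    have hiso : ∀ (i : Fin 45) (k : FQ4),
        hermForm 4 F 2 (f4Equiv hF k • pv hF i) (f4Equiv hF k • pv hF i) = 0 := fun i k => by
      rw [herm_smul_left hF, herm_smul_right hF, pv_iso hF i, mul_zero, mul_zero]
    have hh : ∀ (i j : Fin 45) (a b : FQ4),
        hermForm 4 F 2 (f4Equiv hF a • pv hF i) (f4Equiv hF b • pv hF j) =
          f4Equiv hF (a * Gq.hq (Gq.rep i) (Gq.rep j) * (b * b)) := fun i j a b => by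
      rw [herm_smul_left hF, herm_smul_right hF]
      unfold pv
      rw [herm_map hF, map_mul, map_mul, map_mul]
      ring
    obtain ⟨M1, e1⟩ := exists_su_step hF (hiso i c') (hiso j k) (by rw [hh, h1, map_one])
    obtain ⟨M2, e2⟩ := exists_su_step hF (hiso j k) (hiso m l) (by rw [hh, h2, map_one])
    obtain ⟨M3, e3⟩ := exists_su_step hF (hiso m l) (v0_iso hF) (by
      rw [herm_smul_left hF]
      unfold pv v0
      rw [herm_map hF, ← map_mul, h3, map_one])
    exact ⟨M3 * (M2 * M1), by rw [mulVec_mul_su hF, mulVec_mul_su hF, e1, e2, e3]⟩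
  obtain ⟨M, hM⟩ := key x hx hx0
  obtain ⟨M', hM'⟩ := key y hy hy0
  refine ⟨M'⁻¹ * M, ?_⟩
  rw [mulVec_mul_su hF, hM, ← hM', ← mulVec_mul_su hF, inv_mul_cancel, OneMemClass.coe_one, map_one,
    one_mulVec]

end Field

namespace NatData

variable {G : Type*} [Group G] {F : Type*} [Field F] [Fintype F] (N : NatData G F)

theorem vec_mul_z {x : G} (hx : x ∈ N.J) : N.vec (x * N.z) = N.vec x := by
  rw [N.vec_mul x hx _ N.z_mem, N.vec_z, add_zero]

theorem vec_eq {x y : G} (hx : x ∈ N.J) (hy : y ∈ N.J) (h : N.vec x = N.vec y) :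
    y = x ∨ y = x * N.z := by
  have h0 : N.vec (x⁻¹ * y) = 0 := by
    rw [N.vec_mul _ (inv_mem hx) _ hy, N.vec_inv hx, h]
    exact funext fun i => f4_add_self N.hF _
  rcases (N.vec_zero _ (mul_mem (inv_mem hx) hy)).1 h0 with e | e
  · exact Or.inl (by rw [inv_mul_eq_one] at e; exact e.symm)
  · exact Or.inr (inv_mul_eq_iff_eq_mul.1 e)

theorem act_cases {g : G} (hg : g ∈ centralizer ({N.z} : Set G)) :
    (∃ M : SU 4 F 2, ∀ v, N.act g v = slToMat 4 F M *ᵥ v) ∨
      (∀ (k : F) v, N.act g (k • v) = k ^ 2 • N.act g v) := by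
  by_cases h : g ∈ N.H0
  · exact Or.inl (N.act_inner g h)
  · exact Or.inr (N.act_outer g hg h)

/-- Two elements with the same action differ by an element of `J`. -/
theorem mem_J_of_act_eq {g g' : G} (hg : g ∈ centralizer ({N.z} : Set G))
    (hg' : g' ∈ centralizer ({N.z} : Set G)) (h : ∀ v, N.act g v = N.act g' v) : g⁻¹ * g' ∈ N.J := by
  refine (N.act_one _ (mul_mem (inv_mem hg) hg')).1 fun v => ?_
  rw [N.act_mul (inv_mem hg) hg', ← h, ← N.act_mul (inv_mem hg) hg, inv_mul_cancel]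
  exact N.act_J (one_mem _) v

end NatData

end CfsgLib.Recog.U6Cent
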