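import Cfsg.Agent.Lib.Recog.U6Cent.NatOutPlane
import Cfsg.Agent.Lib.Recog.U6Cent.NatCoord

/-!
The conjugates of `z` in `C(z)`: only `z`, or `z` and one orbit of `180` lifts of transvections.
-/

set_option autoImplicit false
set_option linter.unusedSectionVars false

namespace CfsgLib.Recog.U6Cent

open Subgroup Cfsg

variable {G : Type*} [Group G] {F : Type*} [Field F] [Fintype F]

namespace NatData

variable (N : NatData G F) (hJ : ∀ x ∈ N.J, IsConj N.z x → x = N.z)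
include hJ

theorem d_type [Finite G] {t : G} (ht : t ∈ N.dset) :
    t ∈ N.H0 ∧ ∃ v : Fin 4 → F, v ≠ 0 ∧ hermForm 4 F 2 v v = 0 ∧ N.TV t v := by
  obtain ⟨g, hg⟩ := isConj_iff.1 ht.1
  exact N.member_type ht hJ hg

theorem d_not_conj [Finite G] {t : G} (ht : t ∈ N.dset) : ¬ IsConj N.z (t * N.z) := by
  obtain ⟨g, hg⟩ := isConj_iff.1 ht.1
  obtain ⟨-, v, hv, hvv, hT⟩ := N.d_type hJ ht
  exact N.tv_not_conj ht hJ hg hv hvv hT

theorem tv_ne {t : G} (ht : t ∈ N.dset) {v : Fin 4 → F} (hT : N.TV t v) : v ≠ 0 := fun e =>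
  N.d_not_J hJ ht ((N.act_one t (N.d_cent ht)).1 fun x => by
    rw [hT, transvec, e, smul_zero, add_zero])

theorem d_comm_iff [Finite G] {t : G} (ht : t ∈ N.dset) {v : Fin 4 → F} (hT : N.TV t v) {x : G}
    (hx : x ∈ N.J) : x * t = t * x ↔ hermForm 4 F 2 (N.vec x) v = 0 := by
  rw [← N.tv_fixed (N.tv_ne hJ ht hT) hT]
  constructor
  · exact fun h => N.kSet_fixed ht ⟨x, hx, h, rfl⟩
  · exact N.comm_of_vec ht (N.d_not_conj hJ ht) hx

/-- `J` is transitive on the members over a point. -/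
theorem d_fibre [Finite G] {t u : G} (ht : t ∈ N.dset) (hu : u ∈ N.dset) {v : Fin 4 → F}
    (hT : N.TV t v) (hU : N.TV u v) :
    t * u ∈ N.J ∧ ∃ k : F, N.vec (t * u) = k • v ∧
      ∀ y ∈ N.J, hermForm 4 F 2 (N.vec y) v = k → y * t * y⁻¹ = u := by
  have hv := N.tv_ne hJ ht hT
  have htc := N.d_cent ht
  have huc := N.d_cent hu
  have hjJ : t * u ∈ N.J := (N.act_one _ (mul_mem htc huc)).1 fun x => by
    rw [N.act_mul htc huc, hU, ← hT x, N.act_t_t ht]
  refine ⟨hjJ, ?_⟩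
  obtain ⟨k, hk⟩ := mem_line N.hF hv (w := N.vec (t * u)) (fun x hx => by
    refine eq_zero_of_trace N.hF fun m => ?_
    obtain ⟨y, hy, hym⟩ := N.vec_surj (m • x)
    have hyv : hermForm 4 F 2 (N.vec y) v = 0 := by rw [hym, herm_smul_left N.hF, hx, mul_zero]
    have e1 := (N.d_comm_iff hJ ht hT hy).2 hyv
    have e2 := (N.d_comm_iff hJ hu hU hy).2 hyv
    have hc : y * (t * u) = t * u * y := by rw [← mul_assoc, e1, mul_assoc, e2, mul_assoc]
    have h0 := (N.comm_iff y hy _ hjJ).1 hc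
    rwa [hym, herm_smul_left N.hF] at h0)
  refine ⟨k, hk, fun y hy hyk => ?_⟩
  have hv' : N.vec (N.xv t y) = N.vec (t * u) := by rw [N.xv_vec ht hy, N.nv_tv hT, hyk, hk]
  have hu' : t * (t * u) = u := by rw [← mul_assoc, N.d_sq ht, one_mul]
  rcases N.eq_or_mul_z (N.xv_mem ht hy) hjJ hv' with e | e
  · rw [← N.t_xv ht, e, hu']
  · refine absurd ?_ (N.d_not_conj hJ hu)
    have : y * t * y⁻¹ = u * N.z := by rw [← N.t_xv ht, e, ← mul_assoc, hu']
    exact this ▸ (N.d_conj (N.J_cent hy) ht).1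

/-- Every point carries a member, once there is one. -/
theorem d_over [Finite G] {t₀ : G} (ht₀ : t₀ ∈ N.dset) {v : Fin 4 → F} (hv : v ≠ 0)
    (hvv : hermForm 4 F 2 v v = 0) :
    ∃ c ∈ N.H0, c * t₀ * c⁻¹ ∈ N.dset ∧ N.TV (c * t₀ * c⁻¹) v := by
  obtain ⟨-, v₀, hv₀, hvv₀, hT₀⟩ := N.d_type hJ ht₀
  obtain ⟨M, hM⟩ := exists_su_map N.hF hvv₀ hv₀ hvv hv
  obtain ⟨c, hc, hact⟩ := N.act_surj M
  refine ⟨c, hc, N.d_conj (N.H0_le hc) ht₀, ?_⟩
  have := N.tv_conj (N.H0_le hc) ht₀ hT₀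
  rwa [hact, hM] at this

theorem d_cover [Finite G] {t₀ : G} (ht₀ : t₀ ∈ N.dset) {v : Fin 4 → F} (hv : v ≠ 0)
    (hvv : hermForm 4 F 2 v v = 0) :
    {t | t ∈ N.dset ∧ ∀ x, N.act t x = transvec v x}.ncard = 4 := by
  classical
  obtain ⟨c, -, htd, hT⟩ := N.d_over hJ ht₀ hv hvv
  set t := c * t₀ * c⁻¹
  choose x hx using fun k : F => exists_pairing hv k
  choose y hy hyx using fun k : F => N.vec_surj (x k)
  have hset : {u | u ∈ N.dset ∧ ∀ z, N.act u z = transvec v z} =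
      (fun k => y k * t * (y k)⁻¹) '' Set.univ := by
    ext u
    constructor
    · rintro ⟨hu, hU⟩
      obtain ⟨-, k, -, hk⟩ := N.d_fibre hJ htd hu hT hU
      exact ⟨k, trivial, hk (y k) (hy k) (by rw [hyx, hx])⟩
    · rintro ⟨k, -, rfl⟩
      exact ⟨N.d_conj (N.J_cent (hy k)) htd, N.tv_conj_J (hy k) htd hT⟩
  have hinj : Function.Injective (fun k => y k * t * (y k)⁻¹) := by
    intro k l e
    have e' : N.vec (N.xv t (y k)) = N.vec (N.xv t (y l)) :=
      congrArg (fun u => N.vec (t * u)) e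
    rw [N.xv_vec htd (hy k), N.xv_vec htd (hy l), N.nv_tv hT, N.nv_tv hT, hyx, hyx, hx, hx] at e'
    exact smul_left_injective F hv e'
  rw [hset, Set.ncard_image_of_injective _ hinj, Set.ncard_univ, Nat.card_eq_fintype_card, N.hF]

/-- Transitivity of `H0`. -/
theorem d_trans [Finite G] {t t' : G} (ht : t ∈ N.dset) (ht' : t' ∈ N.dset) :
    ∃ g ∈ N.H0, g * t * g⁻¹ = t' := by
  obtain ⟨-, v', hv', hvv', hT'⟩ := N.d_type hJ ht'
  obtain ⟨c, hc, hcd, hcT⟩ := N.d_over hJ ht hv' hvv'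
  obtain ⟨-, k, -, hk⟩ := N.d_fibre hJ hcd ht' hcT hT'
  obtain ⟨x, hx⟩ := exists_pairing hv' k
  obtain ⟨y, hy, rfl⟩ := N.vec_surj x
  refine ⟨y * c, mul_mem (N.J_le hy) hc, ?_⟩
  rw [← hk y hy hx]
  group

/-- **The classes.** -/
theorem classes [Finite G] :
    (∀ g, g * N.z * g⁻¹ * N.z = N.z * (g * N.z * g⁻¹) → g * N.z * g⁻¹ = N.z) ∨ N.Orbit := by
  rcases N.dset.eq_empty_or_nonempty with h | ⟨t₀, ht₀⟩
  · refine Or.inl fun g hg => ?_
    by_contra hne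
    exact (Set.eq_empty_iff_forall_notMem.1 h) _ ⟨isConj_iff.2 ⟨g, rfl⟩, hg, hne⟩
  · refine Or.inr
      { nonempty := ⟨t₀, ht₀⟩
        inner := fun t ht => (N.d_type hJ ht).1
        transv := fun t ht => (N.d_type hJ ht).2
        cover := fun v hv hvv => N.d_cover hJ ht₀ hv hvv
        exclusive := fun t ht => N.d_not_conj hJ ht
        cent := fun t ht v hT x hx => N.d_comm_iff hJ ht hT hx
        trans := fun t ht t' ht' => N.d_trans hJ ht ht' }

end NatData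

end CfsgLib.Recog.U6Cent
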