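import Cfsg.Agent.Lib.Recog.U6Cent.RedPair

/-!
In the reducible case the involution `z` commutes with none of its other conjugates.
-/

set_option autoImplicit false

namespace CfsgLib.Recog.U6Cent

open Subgroup Red Module

variable {G : Type*} [Group G]

namespace RedData

theorem isolated [Finite G] (R : RedData G) :
    ∀ g : G, Commute (g * R.z * g⁻¹) R.z → g * R.z * g⁻¹ = R.z := by
  intro g hg
  by_contra hne
  set R' : RedData G := R.conj g with hR'
  set t : G := g * R.z * g⁻¹ with ht_def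
  have hzt : R'.z = t := rfl
  have hc : R.z * t = t * R.z := hg.eq.symm
  have ht : t ∈ R.C := mem_cz.2 hc.symm
  have hz' : R.z ∈ R'.C := mem_cz.2 (show R.z * R'.z = R'.z * R.z from hc)
  have htt : t * t = 1 := by rw [← hzt]; exact R'.z_sq
  have h3 : finrank (ZMod 2) (im (R.lin t)) = 3 := rk_eq_three (R := R) (R' := R') hc hne
  -- the commutator `t w t w⁻¹`
  have com : ∀ v ∈ im (R.lin t), ∃ w, ∃ c ∈ R.J6, R.vec c = v ∧ c = t * w * t * w⁻¹ ∧ t * c * t = c⁻¹ := by
    rintro _ ⟨v, rfl⟩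
    obtain ⟨w, hw, rfl⟩ := R.vec_surj v
    have hinv : t⁻¹ = t := inv_eq_of_mul_eq_one_right htt
    have hc6 : t * w * t * w⁻¹ ∈ R.J6 := by
      have := mul_mem (R.conj6 ht hw) (inv_mem hw)
      rwa [hinv] at this
    refine ⟨w, t * w * t * w⁻¹, hc6, ?_, rfl, ?_⟩
    · rw [dm_apply, R.lin_vec ht hw, hinv, R.vec_mul _ (by simpa [hinv] using R.conj6 ht hw) _ (inv_mem hw),
        R.vec_inv hw]
    · calc t * (t * w * t * w⁻¹) * t = t * t * w * t * w⁻¹ * t := by group
        _ = w * t⁻¹ * w⁻¹ * t⁻¹ := by rw [htt, one_mul, hinv]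
        _ = (t * w * t * w⁻¹)⁻¹ := by group
  obtain ⟨m, hm, hqm⟩ := exists_q_one (U := im (R.lin t)) h3.ge
  obtain ⟨x0, hx0, hx0', hx0q⟩ : ∃ x0 ∈ im (R.lin t), x0 ≠ 0 ∧ q6 x0 = 0 := by
    obtain ⟨n, hn, hn'⟩ : ∃ n ∈ im (R.lin t), n ∉ Submodule.span (ZMod 2) {m} := by
      by_contra hn
      push Not at hn
      have h1 := Submodule.finrank_mono hn
      have h2 : finrank (ZMod 2) (Submodule.span (ZMod 2) ({m} : Set V6)) ≤ 1 := by
        simpa using finrank_span_le_card ({m} : Set V6)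
      omega
    rcases zmod2_cases (q6 n) with hq | hq
    · exact ⟨n, hn, fun h => hn' (h ▸ zero_mem _), hq⟩
    · refine ⟨n + m, Submodule.add_mem _ hn hm, fun h => hn' ?_, ?_⟩
      · rw [v6_eq_of_add h]; exact Submodule.mem_span_singleton_self m
      · rw [q6_add, hq, hqm, isotropic_im (R.lin_iso ht) (R.lin_invol ht htt) hn hm]; decide
  obtain ⟨-, y, hy, hyv, -, hty⟩ := com m hm
  obtain ⟨w, x, hx, hxv, hxw, htx⟩ := com x0 hx0
  have hyy : y * y = R.z := R.sq_z hy (by rw [hyv, hqm])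
  have hxx : x * x = 1 := (R.sq_iff x hx).2 (by rw [hxv, hx0q])
  have hxy : x * y = y * x := (R.comm_iff x hx y hy).2 (by
    rw [hxv, hyv]; exact isotropic_im (R.lin_iso ht) (R.lin_invol ht htt) hx0 hm)
  have htx' : t * x = x * t := by
    rw [inv_eq_of_mul_eq_one_right hxx] at htx
    calc t * x = t * x * (t * t) := by rw [htt, mul_one]
      _ = t * x * t * t := by group
      _ = x * t := by rw [htx]
  have hxne : x ≠ 1 ∧ x * R.z ≠ 1 := by
    refine ⟨fun h => hx0' ?_, fun h => hx0' ?_⟩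
    · rw [← hxv, h, R.vec_one]
    · rw [← hxv, ← R.vec_mul_z hx, h, R.vec_one]
  have ytz : y * t * y⁻¹ = t * R.z := by
    calc y * t * y⁻¹ = t * (t * y * t) * y⁻¹ := by
          rw [show t * (t * y * t) = t * t * y * t by group, htt, one_mul]
      _ = t * (y * y)⁻¹ := by rw [hty]; group
      _ = t * R.z := by rw [hyy, R.z_inv]
  have ctx : t * x = (w * g) * R.z * (w * g)⁻¹ := by
    calc t * x = t * t * w * t * w⁻¹ := by rw [hxw]; group
      _ = _ := by rw [htt, one_mul, ht_def]; group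
  have ctxz : t * (x * R.z) = (y * (w * g)) * R.z * (y * (w * g))⁻¹ := by
    calc t * (x * R.z) = t * (R.z * x) := by rw [R.comm_z hx.1]
      _ = y * t * y⁻¹ * x := by rw [ytz]; group
      _ = y * (t * x) * y⁻¹ := by
          calc y * t * y⁻¹ * x = y * t * (y⁻¹ * (x * y)) * y⁻¹ := by group
            _ = y * (t * x) * y⁻¹ := by rw [hxy]; group
      _ = _ := by rw [ctx]; group
  have ctz : t * R.z = (y * g) * R.z * (y * g)⁻¹ := by
    rw [← ytz, ht_def]; group
  -- each of `z`, `x`, `x z` has rank three on the space of `t`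
  have rank3 : ∀ s h : G, t * s = s * t → s ≠ 1 → t * s = h * R.z * h⁻¹ →
      s ∈ R'.C ∧ finrank (ZMod 2) (im (R'.lin s)) = 3 := by
    intro s h hs hs1 hconj
    have hsC : s ∈ R'.C := mem_cz.2 hs.symm
    have htC : t ∈ R'.C := mem_cz.2 rfl
    refine ⟨hsC, ?_⟩
    have hr : R'.rk (R.conj h).z = 3 :=
      rk_eq_three (R := R') (R' := R.conj h)
        (show t * (h * R.z * h⁻¹) = h * R.z * h⁻¹ * t by
          rw [← hconj]
          calc t * (t * s) = t * (s * t) := by rw [hs]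
              _ = t * s * t := by group)
        (show h * R.z * h⁻¹ ≠ t by rw [← hconj]; exact fun e => hs1 (mul_eq_left.1 e))
    replace hr : R'.rk (h * R.z * h⁻¹) = 3 := hr
    rw [← hconj, rk] at hr
    have : R'.lin (t * s) = R'.lin s := LinearMap.ext fun v => by
      rw [R'.lin_mul htC hsC, R'.lin_of_J (j := t) (R'.D_le R'.z_mem)]
    rwa [this] at hr
  have hxzt : t * (x * R.z) = x * R.z * t := by rw [← mul_assoc, htx', mul_assoc, ← hc, ← mul_assoc]
  obtain ⟨-, rz⟩ := rank3 R.z _ hc.symm R.z_ne ctz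
  obtain ⟨hxC, rx⟩ := rank3 x _ htx' hxne.1 ctx
  obtain ⟨hxzC, rxz⟩ := rank3 (x * R.z) _ hxzt hxne.2 ctxz
  refine no_four_rank_three (R'.lin_iso hxC) (R'.lin_iso hz') (R'.lin_invol hxC hxx) (R'.lin_invol hz' R.z_sq)
    (fun v => by rw [← R'.lin_mul hxC hz', ← R'.lin_mul hz' hxC, R.comm_z hx.1]) rx rz ?_
  rwa [show (R'.lin x).comp (R'.lin R.z) = R'.lin (x * R.z) from
    LinearMap.ext fun v => (R'.lin_mul hxC hz' v).symm]

end RedData

end CfsgLib.Recog.U6Cent
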