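import Cfsg.Agent.Lib.Recog.U6Cent.Setup
import Cfsg.Agent.Lib.Recog.U6Cent.NatLocal
import Cfsg.Agent.Lib.Recog.U6Cent.NatJ
import Cfsg.Agent.Lib.Recog.U6Cent.NatOut
import Cfsg.Agent.Lib.Recog.U6Cent.RedIsolated
import Cfsg.Agent.Lib.Recog.U6Cent.End
import Cfsg.Agent.Lib.Classical.UnitaryFieldEquiv
import Cfsg.Prelude.Def_TwoFusion

/-!
The conclusion from the hypotheses on `C(z)`.
-/

set_option autoImplicit false

namespace CfsgLib.Recog.U6Cent

open Subgroup Cfsg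

variable {G : Type*} [Group G] [Finite G] {F : Type*} [Field F] [Fintype F]

/-- The coordinates decide: `z` is isolated, or its class generates `PSU₆(2)`. -/
theorem CentSetup.isolated_or_psu (S : CentSetup G F)
    (h : (∃ N : NatData G F, N.z = S.z) ∨ ∃ R : RedData G, R.z = S.z) :
    IsIsolatedInvolution S.z ∨ ∃ G0 : Subgroup G, Nonempty (G0 ≃* PSU 6 F 2) ∧
      centralizer (G0 : Set G) = ⊥ ∧ G0.index * 13271040 = Nat.card (centralizer ({S.z} : Set G)) := by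
  haveI : Fact (Nat.Prime 2) := ⟨Nat.prime_two⟩
  have h2 : orderOf S.z = 2 := orderOf_eq_prime (by rw [pow_two, S.z_sq]) S.z_ne
  rcases h with ⟨N, hN⟩ | ⟨R, hR⟩
  · rcases N.classes N.conj_mem_J with h | O
    · exact Or.inl ⟨h2, fun g hg => hN ▸ h g (hN ▸ hg.symm.eq)⟩
    · obtain ⟨-, -, ⟨F', _, _, hF', ⟨e⟩⟩, hc, -, hidx⟩ := (N.nat_base O).conclusion
      obtain ⟨e'⟩ := CfsgLib.Classical.nonempty_psu_fieldEquiv
        (FiniteField.ringEquivOfCardEq (K := F') (K' := F) (hF'.trans S.hF.symm)) 6 2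
      exact Or.inr ⟨_, ⟨e.trans e'⟩, hc, hN ▸ hidx N.z (IsConj.refl _)⟩
  · exact Or.inl ⟨h2, fun g hg => hR ▸ R.isolated g (hR ▸ hg.symm)⟩

end CfsgLib.Recog.U6Cent
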