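import Cfsg.Agent.Lib.Recog.U6Cent.ModNat

/-!
The natural case: `V` is `F⁴`, the quadratic form is the Hermitian norm, the image of `SU₄(2)` is `SU₄(2)`
and an element normalizing it is linear up to an element of the image, or antilinear.
-/

set_option autoImplicit false
set_option linter.unusedSectionVars false

namespace CfsgLib.Recog.U6Cent.Mod

open Cfsg Matrix

variable {F : Type*} [Field F] [Fintype F]

namespace Four

variable {w : F} (hf : Four F w)
include hf

theorem cases_four (x : F) : x = 0 ∨ x = 1 ∨ x = w ∨ x = w + 1 := by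
  rcases eq_or_ne x 0 with h | h
  · exact Or.inl h
  · obtain ⟨a, rfl⟩ := hf.cases_pow h
    clear h
    have : a = 0 ∨ a = 1 ∨ a = 2 := (by decide : ∀ a : ZMod 3, a = 0 ∨ a = 1 ∨ a = 2) a
    rcases this with rfl | rfl | rfl
    · simp
    · simp [ZMod.val_one]
    · refine Or.inr (Or.inr (Or.inr ?_))
      rw [show (2 : ZMod 3).val = 2 from rfl, hf.w2]

theorem herm_swap (x y : Fin 4 → F) : hermForm 4 F 2 y x = hermForm 4 F 2 x y ^ 2 := by
  simp only [hermForm, Fin.sum_univ_four, hf.add_sq, mul_pow, hf.sq_sq]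
  ring

theorem herm_add (x y : Fin 4 → F) :
    hermForm 4 F 2 (x + y) (x + y) =
      hermForm 4 F 2 x x + hermForm 4 F 2 y y + (hermForm 4 F 2 x y + hermForm 4 F 2 x y ^ 2) := by
  rw [← hf.herm_swap x y]
  simp only [hermForm, Fin.sum_univ_four, Pi.add_apply, hf.add_sq]
  ring

theorem herm_smul (k : F) (x y : Fin 4 → F) : hermForm 4 F 2 (k • x) y = k * hermForm 4 F 2 x y := by
  simp only [hermForm, Finset.mul_sum, Pi.smul_apply, smul_eq_mul]
  exact Finset.sum_congr rfl fun i _ => mul_assoc _ _ _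

theorem polarise {g : (Fin 4 → F) → Fin 4 → F} (ha : ∀ x y, g (x + y) = g x + g y)
    (hn : ∀ x, hermForm 4 F 2 (g x) (g x) = hermForm 4 F 2 x x) (x y : Fin 4 → F) :
    hermForm 4 F 2 (g x) (g y) + hermForm 4 F 2 (g x) (g y) ^ 2 =
      hermForm 4 F 2 x y + hermForm 4 F 2 x y ^ 2 := by
  have h := hn (x + y)
  rw [ha, hf.herm_add, hf.herm_add, hn, hn] at h
  exact add_left_cancel h

theorem herm_linear {g : (Fin 4 → F) → Fin 4 → F} (ha : ∀ x y, g (x + y) = g x + g y)
    (hs : ∀ (k : F) x, g (k • x) = k • g x) (hn : ∀ x, hermForm 4 F 2 (g x) (g x) = hermForm 4 F 2 x x)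
    (x y : Fin 4 → F) : hermForm 4 F 2 (g x) (g y) = hermForm 4 F 2 x y := by
  have h1 := hf.polarise ha hn x y
  have h2 := hf.polarise ha hn (w • x) y
  rw [hs, hf.herm_smul, hf.herm_smul, mul_pow, mul_pow] at h2
  linear_combination w ^ 2 * h1 + h2 - (hermForm 4 F 2 (g x) (g y) - hermForm 4 F 2 x y) * hf.hw -
    ((hermForm 4 F 2 (g x) (g y) ^ 2 - hermForm 4 F 2 x y ^ 2) * w ^ 2 -
      (hermForm 4 F 2 (g x) (g y) - hermForm 4 F 2 x y)) * hf.two

theorem herm_anti {g : (Fin 4 → F) → Fin 4 → F} (ha : ∀ x y, g (x + y) = g x + g y)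
    (hs : ∀ (k : F) x, g (k • x) = k ^ 2 • g x) (hn : ∀ x, hermForm 4 F 2 (g x) (g x) = hermForm 4 F 2 x x)
    (x y : Fin 4 → F) : hermForm 4 F 2 (g x) (g y) = hermForm 4 F 2 x y ^ 2 := by
  have h1 := hf.polarise ha hn x y
  have h2 := hf.polarise ha hn (w • x) y
  rw [hs, hf.herm_smul, hf.herm_smul, mul_pow, mul_pow] at h2
  set A := hermForm 4 F 2 (g x) (g y)
  set a := hermForm 4 F 2 x y
  have h3 : A ^ 2 = a := by
    have e : (w ^ 2) ^ 2 = w := hf.sq_sq w
    rw [e] at h2
    linear_combination w ^ 2 * h1 + h2 - (A ^ 2 - a) * hf.hw - ((A - a ^ 2) * w ^ 2 - (A ^ 2 - a)) * hf.two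
  rw [← h3, hf.sq_sq]

end Four

namespace NatCase

variable {V : Type*} [AddCommGroup V] {R : Rep F V} {X : Gens F} (N : NatCase R X)
include N

open scoped _root_.Classical in
/-- Scalars. -/
noncomputable def sc (x : F) (v : V) : V :=
  if x = 0 then 0 else if x = 1 then v else if x = X.w then N.mu v else v + N.mu v

theorem sc_zero (v : V) : N.sc 0 v = 0 := by simp [sc]

theorem sc_one (v : V) : N.sc 1 v = v := by simp [sc]

theorem sc_w (v : V) : N.sc X.w v = N.mu v := by
  simp [sc, X.hf.w_ne, X.hf.w_ne_one]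

theorem sc_w' (v : V) : N.sc (X.w + 1) v = v + N.mu v := by
  have h1 : X.w + 1 ≠ 0 := fun h => X.hf.w_ne_one (by linear_combination h - X.hf.two)
  have h2 : X.w + 1 ≠ 1 := fun h => X.hf.w_ne (by linear_combination h)
  have h3 : X.w + 1 ≠ X.w := fun h => one_ne_zero (α := F) (by linear_combination h)
  simp [sc, h1, h2, h3]

theorem sc_add_v (x : F) (u v : V) : N.sc x (u + v) = N.sc x u + N.sc x v := by
  rcases X.hf.cases_four x with rfl | rfl | rfl | rfl <;>
    simp only [N.sc_zero, N.sc_one, N.sc_w, N.sc_w', map_add, add_zero]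
  abel

theorem sc_add (x y : F) (v : V) : N.sc (x + y) v = N.sc x v + N.sc y v := by
  have t2 := X.hf.two
  have e1 : (1 : F) + 1 = 0 := by linear_combination t2
  have e2 : X.w + X.w = 0 := by linear_combination X.w * t2
  have e3 : X.w + (X.w + 1) = 1 := by linear_combination X.w * t2
  have e4 : (X.w + 1) + X.w = 1 := by linear_combination X.w * t2
  have e5 : (1 : F) + X.w = X.w + 1 := add_comm _ _
  have e6 : (1 : F) + (X.w + 1) = X.w := by linear_combination t2
  have e7 : (X.w + 1) + 1 = X.w := by linear_combination t2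
  have e8 : (X.w + 1) + (X.w + 1) = 0 := by linear_combination (X.w + 1) * t2
  have n1 : N.mu v + v = v + N.mu v := add_comm _ _
  rcases X.hf.cases_four x with rfl | rfl | rfl | rfl <;>
    rcases X.hf.cases_four y with rfl | rfl | rfl | rfl <;>
    simp only [zero_add, add_zero, e1, e2, e3, e4, e5, e6, e7, e8, N.sc_zero, N.sc_one, N.sc_w, N.sc_w', R.two,
      n1] <;>
    first
      | rfl
      | (rw [← add_assoc, R.two, zero_add])
      | (rw [add_comm (N.mu v), add_assoc, R.two, add_zero])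
      | (rw [add_assoc, R.two, add_zero])
      | (rw [add_right_comm, R.two, zero_add])

theorem sc_mul (x y : F) (v : V) : N.sc (x * y) v = N.sc x (N.sc y v) := by
  have hw := X.hf.hw
  have t2 := X.hf.two
  have e1 : X.w * X.w = X.w + 1 := by linear_combination hw - (X.w + 1) * t2
  have e2 : X.w * (X.w + 1) = 1 := by linear_combination hw - t2
  have e3 : (X.w + 1) * X.w = 1 := by linear_combination hw - t2
  have e4 : (X.w + 1) * (X.w + 1) = X.w := by linear_combination hw
  rcases X.hf.cases_four x with rfl | rfl | rfl | rfl <;>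
    rcases X.hf.cases_four y with rfl | rfl | rfl | rfl <;>
    simp only [zero_mul, mul_zero, one_mul, mul_one, e1, e2, e3, e4, N.sc_zero, N.sc_one, N.sc_w, N.sc_w',
      map_zero, map_add, N.mu_mu, add_zero]
  · rw [add_left_comm, R.two, add_zero]
  · rw [add_comm v, ← add_assoc]; simp [R.two, add_assoc]
  · rw [show v + N.mu v + (N.mu v + (v + N.mu v)) = (v + v) + ((N.mu v + N.mu v) + N.mu v) by abel,
      R.two, R.two, zero_add, zero_add]

theorem sc_ρ (x : F) (s : Cfsg.SU 4 F 2) (v : V) : N.sc x (R.ρ s v) = R.ρ s (N.sc x v) := by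
  rcases X.hf.cases_four x with rfl | rfl | rfl | rfl <;>
    simp only [N.sc_zero, N.sc_one, N.sc_w, N.sc_w', map_zero, map_add, N.mu_ρ]

theorem sc_mem (i : Fin 4) (x : F) {v : V} (hv : R.P X (cc i) v = v) : R.P X (cc i) (N.sc x v) = N.sc x v := by
  rcases X.hf.cases_four x with rfl | rfl | rfl | rfl <;>
    simp only [N.sc_zero, N.sc_one, N.sc_w, N.sc_w', map_zero, map_add, N.mu_mem i hv, hv]

theorem sc_eq_zero {x : F} {v : V} (hv : v ≠ 0) (h : N.sc x v = 0) : x = 0 := by
  rcases X.hf.cases_four x with rfl | rfl | rfl | rfl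
  · rfl
  · exact absurd (by rwa [N.sc_one] at h) hv
  · exact absurd (N.mu_injective ((N.sc_w v).symm.trans h |>.trans (map_zero _).symm)) hv
  · rw [N.sc_w', ← N.mu_mu] at h
    exact absurd (N.mu_injective (N.mu_injective (h.trans (by simp)))) hv

/-- A nonzero vector in each weight space. -/
noncomputable def bv (i : Fin 4) : V := (N.exists_mem i).choose

theorem bv_mem (i : Fin 4) : R.P X (cc i) (N.bv i) = N.bv i := (N.exists_mem i).choose_spec.1

theorem bv_ne (i : Fin 4) : N.bv i ≠ 0 := (N.exists_mem i).choose_spec.2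

/-- The coordinate map. -/
noncomputable def co : (Fin 4 → F) →+ V where
  toFun x := ∑ i, N.sc (x i) (N.bv i)
  map_zero' := by simp [N.sc_zero]
  map_add' x y := by simp [N.sc_add, Finset.sum_add_distrib]

theorem co_apply (x : Fin 4 → F) : N.co x = ∑ i, N.sc (x i) (N.bv i) := rfl

theorem P_co (i : Fin 4) (x : Fin 4 → F) : R.P X (cc i) (N.co x) = N.sc (x i) (N.bv i) := by
  rw [co_apply, map_sum, Finset.sum_eq_single i]
  · exact N.sc_mem i _ (N.bv_mem i)
  · intro j _ hj
    rw [← N.sc_mem j (x j) (N.bv_mem j), R.P_P_ne X fun h => hj (cc_inj h).symm]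
  · simp

theorem co_smul (k : F) (x : Fin 4 → F) : N.co (k • x) = N.sc k (N.co x) := by
  simp only [co_apply, Pi.smul_apply, smul_eq_mul, N.sc_mul, Fin.sum_univ_four, N.sc_add_v]

theorem co_bijective : Function.Bijective N.co := by
  have := R.finite
  have := Fintype.ofFinite V
  refine (Fintype.bijective_iff_injective_and_card _).2 ⟨?_, ?_⟩
  · rw [injective_iff_map_eq_zero]
    intro x hx
    funext i
    refine N.sc_eq_zero (N.bv_ne i) ?_
    rw [← N.P_co, hx, map_zero]
  · rw [Fintype.card_fun, Fintype.card_fin, X.hf.hF, Fintype.card_eq_nat_card, R.card]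
    rfl

/-- Coordinates. -/
noncomputable def E : (Fin 4 → F) ≃+ V := AddEquiv.ofBijective N.co N.co_bijective

theorem E_apply (x : Fin 4 → F) : N.E x = N.co x := rfl

theorem E_smul (k : F) (x : Fin 4 → F) : N.E (k • x) = N.sc k (N.E x) := N.co_smul k x

theorem norm_E (x : Fin 4 → F) :
    (R.Q (N.E x) = 0 ∧ hermForm 4 F 2 x x = 0) ∨ (R.Q (N.E x) = 1 ∧ hermForm 4 F 2 x x = 1) := by
  classical
  haveI := X.hf.charTwo
  have horth : ∀ i j, i ≠ j → polar R.Q (N.sc (x i) (N.bv i)) (N.sc (x j) (N.bv j)) = 0 := fun i j h =>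
    R.orth_ne X (fun e => h (cc_inj e)) (N.sc_mem i _ (N.bv_mem i)) (N.sc_mem j _ (N.bv_mem j))
  have hQ : ∀ i, (R.Q (N.sc (x i) (N.bv i)) : ZMod 2) = if x i = 0 then 0 else 1 := by
    intro i
    split_ifs with h
    · rw [h, N.sc_zero, R.Q_zero]
    · exact N.Q_one i (N.sc_mem i _ (N.bv_mem i)) fun h' => h (N.sc_eq_zero (N.bv_ne i) h')
  have hsum : R.Q (N.E x) = ∑ i, if x i = 0 then 0 else 1 := by
    simp only [← hQ, E_apply, co_apply, Fin.sum_univ_four]
    rw [R.Q_add, R.Q_add, R.Q_add]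
    · exact horth 0 1 (by decide)
    · rw [R.polar_add, horth 0 2 (by decide), horth 1 2 (by decide), add_zero]
    · rw [R.polar_add, R.polar_add, horth 0 3 (by decide), horth 1 3 (by decide), horth 2 3 (by decide),
        add_zero, add_zero]
  have hh : hermForm 4 F 2 x x = ZMod.castHom (dvd_refl 2) F (R.Q (N.E x)) := by
    rw [hsum, map_sum, hermForm]
    refine Finset.sum_congr rfl fun i _ => ?_
    split_ifs with h
    · simp [h]
    · rw [map_one, ← pow_succ', X.hf.cube h]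
  rcases (by decide : ∀ q : ZMod 2, q = 0 ∨ q = 1) (R.Q (N.E x)) with h | h
  · exact Or.inl ⟨h, by rw [hh, h, map_zero]⟩
  · exact Or.inr ⟨h, by rw [hh, h, map_one]⟩

theorem Q_zero_iff (x : Fin 4 → F) : R.Q (N.E x) = 0 ↔ hermForm 4 F 2 x x = 0 := by
  rcases N.norm_E x with ⟨h1, h2⟩ | ⟨h1, h2⟩ <;> simp [h1, h2]

theorem herm_eq {x y : Fin 4 → F} (h : R.Q (N.E x) = R.Q (N.E y)) :
    hermForm 4 F 2 x x = hermForm 4 F 2 y y := by
  rcases N.norm_E x with ⟨h1, h2⟩ | ⟨h1, h2⟩ <;> rcases N.norm_E y with ⟨h3, h4⟩ | ⟨h3, h4⟩ <;>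
    rw [h1, h3] at h <;> first | exact absurd h (by decide) | (rw [h2, h4])

theorem polar_iff (x y : Fin 4 → F) :
    polar R.Q (N.E x) (N.E y) = 0 ↔ hermForm 4 F 2 x y + hermForm 4 F 2 x y ^ 2 = 0 := by
  have h := X.hf.herm_add x y
  have t2 := X.hf.two
  simp only [polar, ← map_add]
  rcases N.norm_E x with ⟨h1, h2⟩ | ⟨h1, h2⟩ <;> rcases N.norm_E y with ⟨h3, h4⟩ | ⟨h3, h4⟩ <;>
    rcases N.norm_E (x + y) with ⟨h5, h6⟩ | ⟨h5, h6⟩ <;> rw [h2, h4, h6] at h <;>
    generalize hermForm 4 F 2 x y + hermForm 4 F 2 x y ^ 2 = S at h ⊢ <;> rw [h1, h3, h5] <;>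
    constructor <;> intro hh <;>
    first
      | exact absurd hh (by decide)
      | (linear_combination -h)
      | (linear_combination -h - t2)
      | decide
      | (exfalso; exact one_ne_zero (α := F) (by linear_combination -h - hh))
      | (exfalso; exact one_ne_zero (α := F) (by linear_combination h + hh))
      | (exfalso; exact one_ne_zero (α := F) (by linear_combination -h - hh - t2))
      | (exfalso; exact one_ne_zero (α := F) (by linear_combination h + hh - t2))

/-- The map of coordinates given by an endomorphism. -/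
noncomputable def cmap (m : AddMonoid.End V) (x : Fin 4 → F) : Fin 4 → F := N.E.symm (m (N.E x))

theorem E_cmap (m : AddMonoid.End V) (x : Fin 4 → F) : N.E (N.cmap m x) = m (N.E x) :=
  N.E.apply_symm_apply _

theorem cmap_add (m : AddMonoid.End V) (x y : Fin 4 → F) : N.cmap m (x + y) = N.cmap m x + N.cmap m y := by
  simp [cmap]

theorem cmap_herm (m : AddMonoid.End V) (hm : ∀ v, R.Q (m v) = R.Q v) (x : Fin 4 → F) :
    hermForm 4 F 2 (N.cmap m x) (N.cmap m x) = hermForm 4 F 2 x x :=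
  N.herm_eq (by rw [E_cmap, hm])

theorem cmap_smul (m : AddMonoid.End V) (hm : ∀ v, m (N.mu v) = N.mu (m v)) (k : F) (x : Fin 4 → F) :
    N.cmap m (k • x) = k • N.cmap m x := by
  refine N.E.injective ?_
  rw [E_cmap, E_smul, E_smul, E_cmap]
  rcases X.hf.cases_four k with rfl | rfl | rfl | rfl <;>
    simp only [N.sc_zero, N.sc_one, N.sc_w, N.sc_w', map_zero, map_add, hm]

/-- The matrix of an endomorphism commuting with the scalars. -/
noncomputable def matOf (m : AddMonoid.End V) (hm : ∀ v, m (N.mu v) = N.mu (m v)) :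
    Matrix (Fin 4) (Fin 4) F :=
  LinearMap.toMatrix'
    { toFun := N.cmap m, map_add' := N.cmap_add m, map_smul' := N.cmap_smul m hm }

theorem matOf_mulVec (m : AddMonoid.End V) (hm : ∀ v, m (N.mu v) = N.mu (m v)) (x : Fin 4 → F) :
    N.matOf m hm *ᵥ x = N.cmap m x := by
  rw [matOf, LinearMap.toMatrix'_mulVec]
  rfl

theorem matOf_herm (m : AddMonoid.End V) (hm : ∀ v, m (N.mu v) = N.mu (m v))
    (hQ : ∀ v, R.Q (m v) = R.Q v) (x y : Fin 4 → F) :
    hermForm 4 F 2 (N.matOf m hm *ᵥ x) (N.matOf m hm *ᵥ y) = hermForm 4 F 2 x y := by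
  rw [matOf_mulVec, matOf_mulVec]
  exact X.hf.herm_linear (N.cmap_add m) (N.cmap_smul m hm) (N.cmap_herm m hQ) x y

theorem exists_tau : ∃ τ : Cfsg.SU 4 F 2 → Cfsg.SU 4 F 2, Function.Surjective τ ∧
    ∀ s x, N.E (act (τ s) x) = R.ρ s (N.E x) := by
  classical
  let μc : ∀ s v, R.ρ s (N.mu v) = N.mu (R.ρ s v) := fun s v => (N.mu_ρ s v).symm
  let M : Cfsg.SU 4 F 2 →* Matrix (Fin 4) (Fin 4) F :=
    { toFun := fun s => N.matOf (R.ρ s) (μc s)
      map_one' := Matrix.ext_iff_mulVec.2 fun x => by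
        rw [matOf_mulVec, one_mulVec]
        exact N.E.injective (by rw [E_cmap, R.ρ_one])
      map_mul' := fun a b => Matrix.ext_iff_mulVec.2 fun x => by
        rw [matOf_mulVec, ← mulVec_mulVec, matOf_mulVec, matOf_mulVec]
        exact N.E.injective (by rw [E_cmap, E_cmap, E_cmap, R.ρ_mul]) }
  have hdet : ∀ s, (M s).det = 1 := by
    intro s
    let χ : Cfsg.SU 4 F 2 →* Fˣ := (Matrix.detMonoidHom.comp M).toHomUnits
    have h := Abelianization.commutator_subset_ker χ
    rw [CfsgLib.Classical.UMinDeg.commutator_su X.hf.hq (n := 4) (by norm_num) (by norm_num)] at h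
    exact congrArg Units.val (MonoidHom.mem_ker.1 (h (Subgroup.mem_top s)))
  let τ : Cfsg.SU 4 F 2 → Cfsg.SU 4 F 2 := fun s =>
    ⟨⟨M s, hdet s⟩, fun u v => N.matOf_herm (R.ρ s) (μc s) (R.inv s) u v⟩
  have hτ : ∀ s x, N.E (act (τ s) x) = R.ρ s (N.E x) := fun s x => by
    show N.E (N.matOf (R.ρ s) (μc s) *ᵥ x) = _
    rw [matOf_mulVec, E_cmap]
  refine ⟨τ, ?_, hτ⟩
  refine Finite.surjective_of_injective fun a b hab => ?_
  have : R.ρ (b⁻¹ * a) = R.ρ 1 := AddMonoidHom.ext fun v => by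
    obtain ⟨x, rfl⟩ := N.E.surjective v
    rw [map_mul, map_one]
    show R.ρ b⁻¹ (R.ρ a (N.E x)) = N.E x
    rw [← hτ a, hab, hτ b, ← R.ρ_mul, inv_mul_cancel, R.ρ_one]
  exact (eq_of_inv_mul_eq_one (R.faithful _ fun v => by rw [this, R.ρ_one])).symm

theorem normalizing (m : AddMonoid.End V) (hinj : Function.Injective m) (hQ : ∀ v, R.Q (m v) = R.Q v)
    (hn : ∀ s, ∃ s', ∀ v, m (R.ρ s v) = R.ρ s' (m v)) :
    (∃ r, ∀ s v, R.ρ r (m (R.ρ s v)) = R.ρ s (R.ρ r (m v))) ∨
      ((∀ (k : F) x, N.cmap m (k • x) = k ^ 2 • N.cmap m x) ∧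
        ∀ x y, hermForm 4 F 2 (N.cmap m x) (N.cmap m y) = hermForm 4 F 2 x y ^ 2) := by
  classical
  have := R.finite
  have hbij : Function.Bijective m := ⟨hinj, Finite.surjective_of_injective hinj⟩
  choose f hf using hn
  have hfsurj : Function.Surjective f := by
    refine Finite.surjective_of_injective fun a b hab => ?_
    refine (eq_of_inv_mul_eq_one (R.faithful (b⁻¹ * a) fun v => ?_)).symm
    have h := hf a v
    rw [hab, ← hf b v] at h
    rw [R.ρ_mul, hinj h, ← R.ρ_mul, inv_mul_cancel, R.ρ_one]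
  let e : V ≃+ V := AddEquiv.ofBijective m hbij
  let n : AddMonoid.End V := AddMonoidHom.comp m (AddMonoidHom.comp N.mu e.symm.toAddMonoidHom)
  have hnm : ∀ v, n (m v) = m (N.mu v) := fun v => by
    show m (N.mu (e.symm (e v))) = _
    rw [e.symm_apply_apply]
  have hcn : ∀ s v, n (R.ρ s v) = R.ρ s (n v) := by
    intro s v
    obtain ⟨s, rfl⟩ := hfsurj s
    obtain ⟨v, rfl⟩ := hbij.2 v
    rw [← hf, hnm, hnm, N.mu_ρ, hf]
  have hninj : Function.Injective n := hinj.comp (N.mu_injective.comp e.symm.injective)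
  rcases N.commutant n hninj hcn with h | h | h
  · exfalso
    refine N.bv_ne 0 (N.mu_fixed (hinj ?_))
    rw [← hnm, h]
  · -- linear
    refine Or.inl ?_
    have hm : ∀ v, m (N.mu v) = N.mu (m v) := fun v => by rw [← hnm, h]
    obtain ⟨τ, hτs, hτ⟩ := N.exists_tau
    let M := N.matOf m hm
    have hM0 : M.det ≠ 0 := by
      intro h0
      obtain ⟨x, hx, hx0⟩ := Matrix.exists_mulVec_eq_zero_iff.2 h0
      rw [N.matOf_mulVec] at hx0
      refine hx (N.E.injective (hinj ?_))
      rw [← N.E_cmap, hx0, map_zero, map_zero]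
    have hd3 := X.hf.cube hM0
    set d := M.det
    set k := d ^ 2 with hk
    have hk3 : k ^ 3 = 1 := by rw [hk, ← pow_mul, pow_mul', hd3, one_pow]
    have hdet : (k • M).det = 1 := by
      rw [Matrix.det_smul, Fintype.card_fin]
      linear_combination k * M.det * hk3 + hd3
    obtain ⟨r, hr⟩ := hτs ⟨⟨k • M, hdet⟩, fun u v => by
      show hermForm 4 F 2 ((k • M) *ᵥ u) ((k • M) *ᵥ v) = _
      rw [Matrix.smul_mulVec, Matrix.smul_mulVec, ← N.matOf_herm m hm hQ u v]
      simp only [hermForm, Pi.smul_apply, smul_eq_mul]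
      exact Finset.sum_congr rfl fun i _ => by linear_combination (M *ᵥ u) i * (M *ᵥ v) i ^ 2 * hk3⟩
    have hrm : ∀ v, R.ρ r v = N.sc k (m v) := by
      intro v
      obtain ⟨x, rfl⟩ := N.E.surjective v
      rw [← hτ, hr]
      show N.E ((k • M) *ᵥ x) = _
      rw [Matrix.smul_mulVec, N.matOf_mulVec, E_smul, E_cmap]
    have hmr : ∀ v, m v = N.sc d (R.ρ r v) := by
      intro v
      rw [hrm, ← N.sc_mul, show d * k = 1 by rw [hk, ← pow_succ', hd3], N.sc_one]
    refine ⟨r⁻¹, fun s v => ?_⟩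
    have hc : ∀ u, R.ρ r⁻¹ (m u) = N.sc d u := fun u => by
      rw [hmr, ← N.sc_ρ, ← R.ρ_mul r⁻¹, inv_mul_cancel, R.ρ_one]
    rw [hc, hc, N.sc_ρ]
  · -- antilinear
    refine Or.inr ?_
    have hm : ∀ v, m (N.mu v) = N.mu (N.mu (m v)) := fun v => by rw [← hnm, h]
    have hs : ∀ (k : F) x, N.cmap m (k • x) = k ^ 2 • N.cmap m x := by
      intro k x
      refine N.E.injective ?_
      rw [E_cmap, E_smul, E_smul, E_cmap]
      have e1 : X.w ^ 2 = X.w + 1 := X.hf.w2
      have e2 : (X.w + 1) ^ 2 = X.w := by rw [← X.hf.w2, X.hf.sq_sq]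
      rcases X.hf.cases_four k with rfl | rfl | rfl | rfl <;>
        simp only [zero_pow (two_ne_zero' ℕ), one_pow, e1, e2, N.sc_zero, N.sc_one, N.sc_w, N.sc_w', map_zero,
          map_add, hm, N.mu_mu]
      rw [← add_assoc, R.two, zero_add]
    exact ⟨hs, X.hf.herm_anti (N.cmap_add m) hs (N.cmap_herm m hQ)⟩

end NatCase

end CfsgLib.Recog.U6Cent.Mod
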