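import Mathlib

/-!
The reducible case for an involution `z` with extraspecial `J = O₂(C(z))` of order `2⁹`: `J` is the central product of a
subgroup `D` (of order `8`) and `J ∩ C(D)` whose quotient by `⟨z⟩` is the six-dimensional orthogonal space of minus type.
Only a few consequences of `C(z)/J ≅ U₄(2)` or `U₄(2).2` are recorded.
-/

set_option autoImplicit false

namespace CfsgLib.Recog.U6Cent

open Subgroup

/-- The six-dimensional space over `𝔽₂`, as three planes. -/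
abbrev V6 : Type := Fin 6 → ZMod 2

/-- The quadratic form of minus type: the orthogonal sum of three anisotropic planes. -/
def q6 (v : V6) : ZMod 2 :=
  v 0 * v 0 + v 0 * v 1 + v 1 * v 1 + (v 2 * v 2 + v 2 * v 3 + v 3 * v 3) +
    (v 4 * v 4 + v 4 * v 5 + v 5 * v 5)

/-- The polar form of `q6`. -/
def b6 (v w : V6) : ZMod 2 :=
  v 0 * w 1 + v 1 * w 0 + (v 2 * w 3 + v 3 * w 2) + (v 4 * w 5 + v 5 * w 4)

/-- Data for the reducible case. `vec` gives coordinates on `J ⊓ C(D)` modulo `⟨z⟩`, `act` the action of `C(z)` there. -/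
structure RedData (G : Type*) [Group G] where
  z : G
  J : Subgroup G
  D : Subgroup G
  E : Subgroup G
  z_sq : z * z = 1
  z_ne : z ≠ 1
  J_le : J ≤ centralizer ({z} : Set G)
  J_normal : ∀ g ∈ centralizer ({z} : Set G), ∀ x ∈ J, g * x * g⁻¹ ∈ J
  J_sq : ∀ x ∈ J, x * x = 1 ∨ x * x = z
  D_le : D ≤ J
  z_mem : z ∈ D
  D_normal : ∀ g ∈ centralizer ({z} : Set G), ∀ x ∈ D, g * x * g⁻¹ ∈ D
  /-- `J` is the product of `D` and `J ⊓ C(D)`. -/
  split : ∀ x ∈ J, ∃ d ∈ D, ∃ y ∈ J ⊓ centralizer (D : Set G), x = d * y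
  /-- The subgroup generated by the elements of order four of `D` (cyclic of order four or quaternion). -/
  E_le : E ≤ D
  E_normal : ∀ g ∈ centralizer ({z} : Set G), ∀ x ∈ E, g * x * g⁻¹ ∈ E
  E_four : ∃ e ∈ E, e * e = z
  E_sq : ∀ x ∈ E, x = 1 ∨ x = z ∨ x * x = z
  E_card : Nat.card E ≤ 8
  vec : G → V6
  vec_mul : ∀ x ∈ J ⊓ centralizer (D : Set G), ∀ y ∈ J ⊓ centralizer (D : Set G),
    vec (x * y) = vec x + vec y
  vec_surj : ∀ v, ∃ x ∈ J ⊓ centralizer (D : Set G), vec x = v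
  vec_zero : ∀ x ∈ J ⊓ centralizer (D : Set G), vec x = 0 ↔ x = 1 ∨ x = z
  sq_iff : ∀ x ∈ J ⊓ centralizer (D : Set G), x * x = 1 ↔ q6 (vec x) = 0
  comm_iff : ∀ x ∈ J ⊓ centralizer (D : Set G), ∀ y ∈ J ⊓ centralizer (D : Set G),
    x * y = y * x ↔ b6 (vec x) (vec y) = 0
  comm_or : ∀ x ∈ J ⊓ centralizer (D : Set G), ∀ y ∈ J ⊓ centralizer (D : Set G),
    x * y = y * x ∨ x * y = y * x * z
  act : G → V6 → V6
  act_vec : ∀ g ∈ centralizer ({z} : Set G), ∀ x ∈ J ⊓ centralizer (D : Set G),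
    vec (g * x * g⁻¹) = act g (vec x)
  /-- The action of `C(z)/J` on the six-dimensional space is faithful. -/
  act_one : ∀ g ∈ centralizer ({z} : Set G), (∀ v, act g v = v) → g ∈ J
  /-- Elements of odd order of `C(z)` centralize `D`. -/
  odd_cent : ∀ g ∈ centralizer ({z} : Set G), Odd (orderOf g) → g ∈ centralizer (D : Set G)
  /-- Each anisotropic plane has its rotation in the image of `C(z)`. -/
  rot : ∀ p p' : V6, q6 p = 1 → q6 p' = 1 → b6 p p' = 1 →
    ∃ g ∈ centralizer ({z} : Set G), Odd (orderOf g) ∧ act g p = p' ∧ act g p' = p + p' ∧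
      ∀ x, b6 x p = 0 → b6 x p' = 0 → act g x = x

end CfsgLib.Recog.U6Cent
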