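import Cfsg.Agent.Lib.Recog.U6Cent.ModNat
import Cfsg.Agent.Lib.Recog.U6Cent.RedData
import Cfsg.Agent.Lib.Classical.SUCenter

/-!
The reducible case: the fixed space of the torus is fixed by the whole group, its orthogonal space is the
six-dimensional orthogonal space of minus type.
-/

set_option autoImplicit false
set_option linter.unusedSectionVars false

namespace CfsgLib.Recog.U6Cent.Mod

open Cfsg

/-- The reducible case. -/
structure RedCase {F : Type*} [Field F] [Fintype F] {V : Type*} [AddCommGroup V] (R : Rep F V) (X : Gens F) :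
    Prop where
  card_V0 : Nat.card (R.V0 X) = 4
  P_zero : ∀ c : Fin 13, (c.1 < 4 ∨ 7 ≤ c.1) → R.P X c = 0
  card_four : ∀ c : Fin 13, (4 ≤ c.1 ∧ c.1 < 7) → Nat.card (R.Vc X c) = 4

/-- The three plane characters. -/
def pc (i : Fin 3) : Fin 13 := ⟨i.1 + 4, by omega⟩

theorem pc_inj {i j : Fin 3} (h : pc i = pc j) : i = j := Fin.ext (by simpa [pc] using h)

theorem Rep.cases_of_dichotomy {F : Type*} [Field F] [Fintype F] {V : Type*} [AddCommGroup V] (R : Rep F V)
    (X : Gens F) : NatCase R X ∨ RedCase R X := by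
  rcases R.dichotomy X with ⟨⟨h1, h2⟩, h3⟩ | ⟨h1, h2, h3⟩
  · exact Or.inl ⟨h1, h2, h3⟩
  · exact Or.inr ⟨h1, h2, h3⟩

namespace RedCase

variable {F : Type*} [Field F] [Fintype F] {V : Type*} [AddCommGroup V] {R : Rep F V} {X : Gens F}
  (D : RedCase R X)
include D

theorem sum_three (v : V) : ∑ i, R.P X (pc i) v + R.pA X v = v := by
  conv_rhs => rw [← R.sum_P X v]
  simp [Fin.sum_univ_succ, pc, D.P_zero 0 (by decide), D.P_zero 1 (by decide), D.P_zero 2 (by decide),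
    D.P_zero 3 (by decide), D.P_zero 7 (by decide), D.P_zero 8 (by decide), D.P_zero 9 (by decide),
    D.P_zero 10 (by decide), D.P_zero 11 (by decide), D.P_zero 12 (by decide)]

theorem pA_eq (v : V) :
    R.pA X v = v + R.t X ![1, 1, 1] v + R.t X (![1, 1, 1] + ![1, 1, 1]) v := by
  have hP : ∀ i x, R.P X (pc i) x + R.t X ![1, 1, 1] (R.P X (pc i) x) +
      R.t X (![1, 1, 1] + ![1, 1, 1]) (R.P X (pc i) x) = 0 := by
    intro i x
    rcases (by decide +kernel : ∀ i : Fin 3, dot (pc i) ![1, 1, 1] = 1 ∨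
        dot (pc i) (![1, 1, 1] + ![1, 1, 1]) = 1) i with h | h
    · exact R.sum_three X _ h x
    · have := R.sum_three X _ h x
      rw [show (![1, 1, 1] + ![1, 1, 1] + (![1, 1, 1] + ![1, 1, 1]) : T) = ![1, 1, 1] by decide] at this
      rw [← this]
      abel
  have hA : ∀ a x, R.t X a (R.pA X x) = R.pA X x := R.t_pA X
  have e : v + R.t X ![1, 1, 1] v + R.t X (![1, 1, 1] + ![1, 1, 1]) v =
      (∑ i, (R.P X (pc i) v + R.t X ![1, 1, 1] (R.P X (pc i) v) +
        R.t X (![1, 1, 1] + ![1, 1, 1]) (R.P X (pc i) v))) + (R.pA X v + R.pA X v + R.pA X v) := by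
    conv_lhs => rw [← D.sum_three v]
    simp only [map_add, map_sum, hA, Finset.sum_add_distrib]
    abel
  rw [e, Finset.sum_eq_zero fun i _ => hP i v, zero_add, R.two, zero_add]

theorem pA_ρ (s : Cfsg.SU 4 F 2) (v : V) : R.pA X (R.ρ s v) = R.ρ s (R.pA X v) := by
  let K : Subgroup (Cfsg.SU 4 F 2) :=
    { carrier := {s | ∀ v, R.pA X (R.ρ s v) = R.ρ s (R.pA X v)}
      one_mem' := fun v => by rw [R.ρ_one, R.ρ_one]
      mul_mem' := fun {a b} ha hb v => by rw [R.ρ_mul, ha, hb, R.ρ_mul]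
      inv_mem' := fun {a} ha v => by
        refine R.ρ_injective a ?_
        rw [← ha, ← R.ρ_mul, ← R.ρ_mul, mul_inv_cancel, R.ρ_one, R.ρ_one] }
  have hd : X.dft ∈ K := fun v => by
    have hc : ∀ y, R.ρ X.dft (R.t X ![1, 1, 1] y) = R.t X ![1, 1, 1] (R.ρ X.dft y) := fun y => by
      rw [Rep.t, ← R.ρ_mul, X.dft_comm, R.ρ_mul]
    rw [D.pA_eq, D.pA_eq, map_add, map_add, hc, R.t_add, R.t_add, hc, hc]
  have := X.gen_top K (fun a v => (R.pA_t X a v).trans (R.t_pA X a v).symm)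
    (fun i j v => (R.swp_pA X i j v).symm) hd
  exact (this ▸ Subgroup.mem_top s : s ∈ K) v

theorem ρ_fix (s : Cfsg.SU 4 F 2) {v : V} (hv : R.pA X v = v) : R.ρ s v = v := by
  have hq := X.hf.hq
  haveI : IsSimpleGroup (Cfsg.SU 4 F 2) := by
    have hz : Subgroup.center (Cfsg.SU 4 F 2) = ⊥ := Subgroup.eq_bot_of_card_eq _ (by
      rw [CfsgLib.Classical.card_center_su hq (by norm_num)]; rfl)
    have := CfsgLib.Classical.isSimpleGroup_psu hq (n := 4) (by norm_num) (by norm_num)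
    exact (((QuotientGroup.quotientMulEquivOfEq hz).trans QuotientGroup.quotientBot).symm).isSimpleGroup
  let K : Subgroup (Cfsg.SU 4 F 2) :=
    { carrier := {s | ∀ v, R.pA X v = v → R.ρ s v = v}
      one_mem' := fun v _ => R.ρ_one v
      mul_mem' := fun {a b} ha hb v hv => by rw [R.ρ_mul, hb v hv, ha v hv]
      inv_mem' := fun {a} ha v hv => by
        refine R.ρ_injective a ?_
        rw [← R.ρ_mul, mul_inv_cancel, R.ρ_one, ha v hv] }
  have hn : K.Normal := ⟨fun a ha g v hv => by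
    rw [R.ρ_mul, R.ρ_mul, ha (R.ρ g⁻¹ v) (by rw [D.pA_ρ, hv]), ← R.ρ_mul, mul_inv_cancel, R.ρ_one]⟩
  rcases hn.eq_bot_or_eq_top with h | h
  · exfalso
    have hmem : X.tor ![1, 0, 0] ∈ K := fun v hv => by rw [← hv]; exact R.t_pA X _ v
    rw [h, Subgroup.mem_bot] at hmem
    have h2 := congrArg (fun s => act s (Pi.single 0 1 : Fin 4 → F) 0) hmem
    simp [X.tor_act, act_one, ext, ZMod.val_one] at h2
    exact X.hf.w_ne_one h2
  · exact (h ▸ Subgroup.mem_top s : s ∈ K) v hv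

theorem fixed_iff (v : V) : R.pA X v = v ↔ ∀ s, R.ρ s v = v :=
  ⟨fun hv s => D.ρ_fix s hv, fun h => R.pA_fixed X fun _ => h _⟩

theorem orth_pA {u v : V} (hu : R.pA X u = 0) (hv : R.pA X v = v) : polar R.Q u v = 0 := by
  rw [← D.sum_three u, hu, add_zero, R.polar_comm, ← R.bil_apply, map_sum]
  refine Finset.sum_eq_zero fun i _ => ?_
  rw [R.bil_apply, R.polar_comm]
  exact R.orth_A X _ (R.P_P X _ u) hv

theorem eq_zero_of_orth {v : V} (h : ∀ u, R.pA X u = u → polar R.Q v u = 0) (hv : R.pA X v = v) : v = 0 := by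
  refine R.nondeg v fun u => ?_
  have hu : u = (u + R.pA X u) + R.pA X u := by rw [add_assoc, R.two, add_zero]
  rw [hu, ← R.bil_apply, map_add, R.bil_apply, R.bil_apply, h _ (R.pA_pA X u), add_zero, R.polar_comm]
  exact D.orth_pA (by rw [map_add, R.pA_pA, R.two]) hv

theorem exists_pair : ∃ a b, R.pA X a = a ∧ R.pA X b = b ∧ polar R.Q a b = 1 := by
  by_contra hc
  push Not at hc
  have h1 : Nat.card (R.V0 X) = 1 := Nat.card_eq_one_iff_unique.2 ⟨⟨fun u v => Subtype.ext ((D.eq_zero_of_orth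
    (fun y hy => (by decide : ∀ q : ZMod 2, q ≠ 1 → q = 0) _ (hc _ y u.2 hy)) u.2).trans
    (D.eq_zero_of_orth (fun y hy => (by decide : ∀ q : ZMod 2, q ≠ 1 → q = 0) _ (hc _ y v.2 hy)) v.2).symm)⟩, ⟨0⟩⟩
  rw [D.card_V0] at h1
  omega

theorem exists_mem (i : Fin 3) : ∃ v, R.P X (pc i) v = v ∧ v ≠ 0 := by
  have h4 := D.card_four (pc i) (by simp only [pc]; omega)
  by_contra hc
  push Not at hc
  have h1 : Nat.card (R.Vc X (pc i)) = 1 := Nat.card_eq_one_iff_unique.2
    ⟨⟨fun u v => Subtype.ext ((hc _ u.2).trans (hc _ v.2).symm)⟩, ⟨0⟩⟩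
  omega

omit D in
/-- `x • v` for a bit `x`. -/
def sel (x : ZMod 2) (v : V) : V := if x = 0 then 0 else v

theorem sel_add (x y : ZMod 2) (v : V) : sel (x + y) v = sel x v + sel y v := by
  rcases (by decide : ∀ x : ZMod 2, x = 0 ∨ x = 1) x with rfl | rfl <;>
    rcases (by decide : ∀ x : ZMod 2, x = 0 ∨ x = 1) y with rfl | rfl <;>
    simp [sel, R.two, show (1 : ZMod 2) + 1 = 0 from rfl]

theorem exists_coords :
    ∃ f : V6 →+ V, Function.Injective f ∧ (∀ v, R.pA X v = 0 ↔ ∃ x, f x = v) ∧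
      (∀ x, R.Q (f x) = q6 x) ∧ ∀ x y, polar R.Q (f x) (f y) = b6 x y := by
  classical
  choose b hb hb0 using D.exists_mem
  let b' : Fin 3 → V := fun i => R.t X (unit (pc i)) (b i)
  have hb' : ∀ i, R.P X (pc i) (b' i) = b' i := fun i => by
    show R.P X (pc i) (R.t X _ (b i)) = _
    rw [← R.t_P_comm, hb]
  have h4 : ∀ i, Nat.card (R.Vc X (pc i)) = 4 := fun i => D.card_four _ (by simp only [pc]; omega)
  have hb'0 : ∀ i, b' i ≠ 0 := fun i h => hb0 i (R.ρ_injective _ (h.trans (map_zero _).symm))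
  have hne : ∀ i, b i + b' i ≠ 0 := fun i h => hb0 i (R.fixed_P X _ (dot_unit _) (hb i) (by
    have := eq_neg_of_add_eq_zero_right h
    rw [R.neg_eq] at this
    exact this))
  let pl : Fin 3 → ZMod 2 → ZMod 2 → V := fun i x y => sel x (b i) + sel y (b' i)
  have hpl : ∀ i x y, R.P X (pc i) (pl i x y) = pl i x y := by
    intro i x y
    rcases (by decide : ∀ x : ZMod 2, x = 0 ∨ x = 1) x with rfl | rfl <;>
      rcases (by decide : ∀ x : ZMod 2, x = 0 ∨ x = 1) y with rfl | rfl <;>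
      simp [pl, sel, hb, hb']
  have hQpl : ∀ i x y, R.Q (pl i x y) = x * x + x * y + y * y := by
    intro i x y
    have q1 : ∀ v, R.P X (pc i) v = v → v ≠ 0 → R.Q v = 1 := fun v => R.Q_one X _ (h4 i)
    rcases (by decide : ∀ x : ZMod 2, x = 0 ∨ x = 1) x with rfl | rfl <;>
      rcases (by decide : ∀ x : ZMod 2, x = 0 ∨ x = 1) y with rfl | rfl <;>
      simp [pl, sel, R.Q_zero, q1 _ (hb i) (hb0 i), q1 _ (hb' i) (hb'0 i),
        q1 (b i + b' i) (by rw [map_add, hb, hb']) (hne i)] <;> rfl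
  have hpl0 : ∀ i x y, pl i x y = 0 → x = 0 ∧ y = 0 := by
    intro i x y h
    rcases (by decide : ∀ x : ZMod 2, x = 0 ∨ x = 1) x with rfl | rfl <;>
      rcases (by decide : ∀ x : ZMod 2, x = 0 ∨ x = 1) y with rfl | rfl <;>
      simp [pl, sel, hb0 i, hb'0 i, hne i] at h ⊢
  let f : V6 →+ V :=
    { toFun := fun v => pl 0 (v 0) (v 1) + pl 1 (v 2) (v 3) + pl 2 (v 4) (v 5)
      map_zero' := by simp [pl, sel]
      map_add' := fun u v => by
        simp only [pl, Pi.add_apply, D.sel_add]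
        abel }
  have hfP : ∀ v, R.P X (pc 0) (f v) = pl 0 (v 0) (v 1) ∧ R.P X (pc 1) (f v) = pl 1 (v 2) (v 3) ∧
      R.P X (pc 2) (f v) = pl 2 (v 4) (v 5) := by
    intro v
    have hz : ∀ i j, i ≠ j → ∀ x y, R.P X (pc i) (pl j x y) = 0 := fun i j h x y => by
      rw [← hpl j x y, R.P_P_ne X fun e => h (pc_inj e)]
    refine ⟨?_, ?_, ?_⟩ <;> show R.P X _ (_ + _ + _) = _ <;>
      simp only [map_add, hpl, hz 0 1 (by decide), hz 0 2 (by decide), hz 1 0 (by decide), hz 1 2 (by decide),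
        hz 2 0 (by decide), hz 2 1 (by decide), add_zero, zero_add]
  have hfA : ∀ v, R.pA X (f v) = 0 := fun v => by
    show R.pA X (_ + _ + _) = _
    rw [map_add, map_add, ← hpl 0 (v 0) (v 1), ← hpl 1 (v 2) (v 3), ← hpl 2 (v 4) (v 5), R.pA_P, R.pA_P,
      R.pA_P, add_zero, add_zero]
  have hQ : ∀ x, R.Q (f x) = q6 x := by
    intro x
    show R.Q (_ + _ + _) = _
    rw [R.Q_add, R.Q_add, hQpl, hQpl, hQpl]
    · rfl
    · exact R.orth_ne X (fun e => absurd (pc_inj e) (by decide)) (hpl 0 _ _) (hpl 1 _ _)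
    · rw [R.polar_add, R.orth_ne X (fun e => absurd (pc_inj e) (by decide)) (hpl 0 _ _) (hpl 2 _ _),
        R.orth_ne X (fun e => absurd (pc_inj e) (by decide)) (hpl 1 _ _) (hpl 2 _ _), add_zero]
  refine ⟨f, ?_, fun v => ⟨fun hv => ?_, ?_⟩, hQ, fun x y => ?_⟩
  · rw [injective_iff_map_eq_zero]
    intro v hv
    have h0 := hpl0 0 _ _ ((hfP v).1.symm.trans (by rw [hv, map_zero]))
    have h1 := hpl0 1 _ _ ((hfP v).2.1.symm.trans (by rw [hv, map_zero]))
    have h2 := hpl0 2 _ _ ((hfP v).2.2.symm.trans (by rw [hv, map_zero]))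
    funext i
    fin_cases i <;> simp [h0, h1, h2]
  · have hc : ∀ i, ∃ x y, pl i x y = R.P X (pc i) v := by
      intro i
      rcases R.four_cases X _ (h4 i) (dot_unit _) (hb i) (hb0 i) (R.P_P X (pc i) v) with h | h | h | h <;> rw [h]
      · exact ⟨0, 0, by simp [pl, sel]⟩
      · exact ⟨1, 0, by simp [pl, sel]⟩
      · exact ⟨0, 1, by simp [pl, sel, b']⟩
      · refine ⟨1, 1, ?_⟩
        have e := R.sum_three X _ (dot_unit (pc i)) (b i)
        rw [hb] at e
        simp only [pl, sel, b', if_neg (one_ne_zero (α := ZMod 2))]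
        exact ((eq_neg_of_add_eq_zero_right e).trans (R.neg_eq _)).symm
    choose x y hxy using hc
    refine ⟨![x 0, y 0, x 1, y 1, x 2, y 2], ?_⟩
    conv_rhs => rw [← D.sum_three v, hv, add_zero, Fin.sum_univ_three, ← hxy, ← hxy, ← hxy]
    rfl
  · rintro ⟨x, rfl⟩
    exact hfA x
  · simp only [polar, ← map_add, hQ, q6, b6, Pi.add_apply]
    ring_nf
    simp [show (2 : ZMod 2) = 0 from rfl, add_comm, add_left_comm, mul_comm]

end RedCase

end CfsgLib.Recog.U6Cent.Mod
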