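import Mathlib

/-!
In a nonabelian group `D` of order eight with squares in `⟨z⟩`, the elements of order four generate a subgroup `E`
(cyclic of order four or all of `D`) in which every element other than `1, z` squares to `z`.
-/

set_option autoImplicit false

namespace CfsgLib.Recog.U6Cent

open Subgroup

theorem exists_E {G : Type*} [Group G] {z : G} {D : Subgroup G} (z_sq : z * z = 1) (z_ne : z ≠ 1)
    (z_mem : z ∈ D) (hcard : Nat.card D = 8) (D_sq : ∀ x ∈ D, x * x = 1 ∨ x * x = z)
    (z_comm : ∀ x ∈ D, Commute z x) (nc : ∃ a ∈ D, ∃ b ∈ D, a * b ≠ b * a)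
    (D_normal : ∀ g ∈ centralizer ({z} : Set G), ∀ x ∈ D, g * x * g⁻¹ ∈ D) :
    ∃ E : Subgroup G, E ≤ D ∧ (∀ g ∈ centralizer ({z} : Set G), ∀ x ∈ E, g * x * g⁻¹ ∈ E) ∧
      (∃ e ∈ E, e * e = z) ∧ (∀ x ∈ E, x = 1 ∨ x = z ∨ x * x = z) ∧ Nat.card E ≤ 8 := by
  classical
  have : Finite D := Nat.finite_of_card_ne_zero (by omega)
  obtain ⟨e, he, hez⟩ : ∃ e ∈ D, e * e = z := by
    by_contra hno
    push Not at hno
    obtain ⟨a, ha, b, hb, hab⟩ := nc
    have inv : ∀ x ∈ D, x⁻¹ = x := fun x hx =>
      inv_eq_of_mul_eq_one_right ((D_sq x hx).resolve_right (hno x hx))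
    exact hab (by rw [← inv _ (D.mul_mem ha hb), mul_inv_rev, inv a ha, inv b hb])
  have pw : ∀ n : ℕ, e ^ n = 1 ∨ e ^ n = e ∨ e ^ n = z ∨ e ^ n = e * z := by
    have hcz : z * e = e * z := (z_comm e he).eq
    intro n
    induction n with
    | zero => exact Or.inl (pow_zero e)
    | succ n ih =>
      rw [pow_succ]
      rcases ih with h | h | h | h <;> rw [h]
      · exact Or.inr (Or.inl (one_mul e))
      · exact Or.inr (Or.inr (Or.inl hez))
      · exact Or.inr (Or.inr (Or.inr hcz))
      · exact Or.inl (by rw [mul_assoc, hcz, ← mul_assoc, hez, z_sq])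
  have ord4 : orderOf e = 2 ^ (1 + 1) :=
    orderOf_eq_prime_pow (by rw [pow_one, pow_two, hez]; exact z_ne)
      (by rw [show (2 : ℕ) ^ (1 + 1) = 2 + 2 from rfl, pow_add, pow_two, hez, z_sq])
  have zm : ∀ x ∈ Subgroup.zpowers e, x = 1 ∨ x = e ∨ x = z ∨ x = e * z := by
    intro x hx
    obtain ⟨n, rfl⟩ := (orderOf_pos_iff.1 (show 0 < orderOf e by rw [ord4]; norm_num)).mem_powers_iff_mem_zpowers.2 hx
    exact pw n
  by_cases hall : ∀ x ∈ D, x = 1 ∨ x = z ∨ x * x = z
  · exact ⟨D, le_rfl, D_normal, ⟨e, he, hez⟩, hall, hcard.le⟩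
  push Not at hall
  obtain ⟨t, ht, ht1, htz, ht2⟩ := hall
  have tt : t * t = 1 := (D_sq t ht).resolve_right ht2
  have htE : t ∉ Subgroup.zpowers e := by
    intro h
    rcases zm t h with rfl | rfl | rfl | rfl
    · exact ht1 rfl
    · exact ht2 hez
    · exact htz rfl
    · apply ht2
      calc e * z * (e * z) = e * (z * e) * z := by group
        _ = e * e * (z * z) := by rw [(z_comm e he).eq]; group
        _ = z := by rw [hez, z_sq, mul_one]
  set A : Subgroup D := Subgroup.zpowers ⟨e, he⟩ with hA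
  have hA4 : Nat.card A = 4 := by
    rw [hA, Nat.card_zpowers, Subgroup.orderOf_mk, ord4]; norm_num
  have hidx : A.index = 2 := by
    have := A.index_mul_card
    rw [hA4, hcard] at this
    omega
  have memA : ∀ x : D, x ∈ A → x.1 ∈ Subgroup.zpowers e := by
    rintro x ⟨n, rfl⟩
    exact ⟨n, by simp⟩
  have out : ∀ x ∈ D, x ∉ Subgroup.zpowers e → t * x ∈ Subgroup.zpowers e := by
    intro x hx hxe
    exact memA (⟨t, ht⟩ * ⟨x, hx⟩) ((Subgroup.mul_mem_iff_of_index_two hidx).2
      (iff_of_false (fun h => htE (memA _ h)) fun h => hxe (memA _ h)))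
  have cj : t * e * t⁻¹ = e * z := by
    have hn : A.Normal := Subgroup.normal_of_index_eq_two hidx
    have hm := memA _ (hn.conj_mem ⟨e, he⟩ (Subgroup.mem_zpowers _) ⟨t, ht⟩)
    have sq : t * e * t⁻¹ * (t * e * t⁻¹) = z := by
      rw [show t * e * t⁻¹ * (t * e * t⁻¹) = t * (e * e) * t⁻¹ by group, hez, ← (z_comm t ht).eq]
      group
    rcases zm _ hm with h | h | h | h
    · simp only [Subgroup.coe_mul, InvMemClass.coe_inv] at h
      rw [h] at sq
      exact absurd (by simpa using sq) (Ne.symm z_ne)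
    · exfalso
      simp only [Subgroup.coe_mul, InvMemClass.coe_inv] at h
      have hte : t * e = e * t := mul_inv_eq_iff_eq_mul.1 h
      obtain ⟨a, ha, b, hb, hab⟩ := nc
      have comm : ∀ x ∈ D, Commute t x ∧ Commute e x := by
        intro x hx
        by_cases hxe : x ∈ Subgroup.zpowers e
        · obtain ⟨n, rfl⟩ := hxe
          exact ⟨(show Commute t e from hte).zpow_right n, (Commute.refl e).zpow_right n⟩
        · obtain ⟨n, hn⟩ := out x hx hxe
          have hxv : x = t * e ^ n := by rw [show e ^ n = t * x from hn, ← mul_assoc, tt, one_mul]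
          subst hxv
          exact ⟨(Commute.refl t).mul_right ((show Commute t e from hte).zpow_right n),
            (show Commute e t from hte.symm).mul_right ((Commute.refl e).zpow_right n)⟩
      by_cases hae : a ∈ Subgroup.zpowers e
      · obtain ⟨n, rfl⟩ := hae
        exact hab (((comm b hb).2).zpow_left n).eq
      · obtain ⟨n, hn⟩ := out a ha hae
        have hav : a = t * e ^ n := by rw [show e ^ n = t * a from hn, ← mul_assoc, tt, one_mul]
        subst hav
        exact hab ((comm b hb).1.mul_left ((comm b hb).2.zpow_left n)).eq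
    · simp only [Subgroup.coe_mul, InvMemClass.coe_inv] at h
      rw [h, z_sq] at sq
      exact absurd sq.symm z_ne
    · simpa using h
  have sqE : ∀ x ∈ D, x * x = z → x ∈ Subgroup.zpowers e := by
    intro x hx hxz
    by_contra hxe
    obtain ⟨n, hn⟩ := out x hx hxe
    have hxv : x = t * e ^ n := by rw [show e ^ n = t * x from hn, ← mul_assoc, tt, one_mul]
    apply z_ne
    have he' : e * z = e⁻¹ := by
      apply eq_inv_of_mul_eq_one_left
      rw [mul_assoc, (z_comm e he).eq, ← mul_assoc, hez, z_sq]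
    have hcn : t * e ^ n * t⁻¹ = (e ^ n)⁻¹ := by rw [← conj_zpow, cj, he', inv_zpow]
    rw [← hxz, hxv]
    calc t * e ^ n * (t * e ^ n) = t * e ^ n * t⁻¹ * (t * t) * e ^ n := by group
      _ = 1 := by rw [hcn, tt]; group
  refine ⟨Subgroup.zpowers e, Subgroup.zpowers_le.2 he, fun g hg x hx => ?_, ⟨e, Subgroup.mem_zpowers e, hez⟩,
    fun x hx => ?_, ?_⟩
  · have hge : g * e * g⁻¹ ∈ Subgroup.zpowers e := by
      refine sqE _ (D_normal g hg e he) ?_
      rw [show g * e * g⁻¹ * (g * e * g⁻¹) = g * (e * e) * g⁻¹ by group, hez,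
        mem_centralizer_singleton_iff.1 hg]
      group
    obtain ⟨n, rfl⟩ := hx
    rw [← conj_zpow]
    exact zpow_mem hge n
  · rcases zm x hx with rfl | rfl | rfl | rfl
    · exact Or.inl rfl
    · exact Or.inr (Or.inr hez)
    · exact Or.inr (Or.inl rfl)
    · refine Or.inr (Or.inr ?_)
      calc e * z * (e * z) = e * (z * e) * z := by group
        _ = e * e * (z * z) := by rw [(z_comm e he).eq]; group
        _ = z := by rw [hez, z_sq, mul_one]
  · rw [Nat.card_zpowers, ord4]; norm_num

end CfsgLib.Recog.U6Cent
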