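import Cfsg.Agent.Lib.Recog.U6Cent.RedData

/-!
Elementary identities of the quadratic form `q6` and its polar form `b6`.
-/

set_option autoImplicit false

namespace CfsgLib.Recog.U6Cent.Red

theorem two_zero : (2 : ZMod 2) = 0 := rfl

theorem v6_add_self (v : V6) : v + v = 0 := funext fun _ => CharTwo.add_self_eq_zero _

theorem v6_eq_of_add {v w : V6} (h : v + w = 0) : v = w := by
  rw [← add_zero v, ← v6_add_self w, ← add_assoc, h, zero_add]

theorem zmod2_cases (a : ZMod 2) : a = 0 ∨ a = 1 := by
  revert a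
  decide

theorem q6_add (v w : V6) : q6 (v + w) = q6 v + q6 w + b6 v w := by
  simp only [q6, b6, Pi.add_apply]
  linear_combination
    (v 0 * w 0 + v 1 * w 1 + v 2 * w 2 + v 3 * w 3 + v 4 * w 4 + v 5 * w 5) * two_zero

theorem q6_zero : q6 0 = 0 := by decide

theorem b6_comm (v w : V6) : b6 v w = b6 w v := by simp only [b6]; ring

theorem b6_self (v : V6) : b6 v v = 0 := by
  simp only [b6]
  linear_combination (v 0 * v 1 + v 2 * v 3 + v 4 * v 5) * two_zero

theorem b6_add_left (u v w : V6) : b6 (u + v) w = b6 u w + b6 v w := by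
  simp only [b6, Pi.add_apply]; ring

theorem b6_add_right (u v w : V6) : b6 u (v + w) = b6 u v + b6 u w := by
  simp only [b6, Pi.add_apply]; ring

theorem b6_zero_right (v : V6) : b6 v 0 = 0 := by simp [b6]

theorem b6_zero_left (v : V6) : b6 0 v = 0 := by simp [b6]

theorem b6_smul_left (c : ZMod 2) (v w : V6) : b6 (c • v) w = c * b6 v w := by
  simp only [b6, Pi.smul_apply, smul_eq_mul]; ring

theorem b6_smul_right (c : ZMod 2) (v w : V6) : b6 v (c • w) = c * b6 v w := by
  simp only [b6, Pi.smul_apply, smul_eq_mul]; ring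

theorem eq_zero_of_b6 {v : V6} (h : ∀ w, b6 v w = 0) : v = 0 := by
  have h0 := h (Pi.single 1 1)
  have h1 := h (Pi.single 0 1)
  have h2 := h (Pi.single 3 1)
  have h3 := h (Pi.single 2 1)
  have h4 := h (Pi.single 5 1)
  have h5 := h (Pi.single 4 1)
  simp [b6, Pi.single_apply] at h0 h1 h2 h3 h4 h5
  funext i
  fin_cases i <;> assumption

end CfsgLib.Recog.U6Cent.Red
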