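import Cfsg.Prelude.Def_Classical
import Cfsg.Agent.Lib.Classical.SUOrder
import Cfsg.Agent.Lib.Recog.U6Cent.RedBase

/-!
Rotations of anisotropic planes lie in every faithful image of `SU₄(2)` in the isometry group of `q6`: this group has
order at most `51840`, so the image has index at most two and contains every element of order three.
-/

set_option autoImplicit false

namespace CfsgLib.Recog.U6Cent.Red

open Subgroup

/-- The isometry group of `q6`, as permutations. -/
def iso6 : Subgroup (Equiv.Perm V6) where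
  carrier := {f | (∀ v w, f (v + w) = f v + f w) ∧ ∀ v, q6 (f v) = q6 v}
  one_mem' := ⟨fun _ _ => rfl, fun _ => rfl⟩
  mul_mem' := by
    rintro f g ⟨fa, fq⟩ ⟨ga, gq⟩
    exact ⟨fun v w => by simp [Equiv.Perm.mul_apply, ga, fa], fun v => by simp [Equiv.Perm.mul_apply, fq, gq]⟩
  inv_mem' := by
    rintro f ⟨fa, fq⟩
    refine ⟨fun v w => f.injective ?_, fun v => ?_⟩
    · rw [fa]; simp
    · rw [← fq (f⁻¹ v)]; simp

theorem mem_iso6 {f : Equiv.Perm V6} :
    f ∈ iso6 ↔ (∀ v w, f (v + w) = f v + f w) ∧ ∀ v, q6 (f v) = q6 v := Iff.rfl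

theorem b6_perm {f : Equiv.Perm V6} (hf : f ∈ iso6) (x y : V6) : b6 (f x) (f y) = b6 x y := by
  have h := q6_add (f x) (f y)
  rw [← hf.1, hf.2, hf.2, hf.2, q6_add x y] at h
  exact (add_left_cancel h).symm

theorem perm_zero {f : Equiv.Perm V6} (hf : f ∈ iso6) : f 0 = 0 := by
  simpa using hf.1 0 0

/-- The standard basis vectors. -/
def e6 (i : Fin 6) : V6 := fun j => if j = i then 1 else 0

theorem perm_eq_one {f : Equiv.Perm V6} (hf : f ∈ iso6) (h : ∀ i, f (e6 i) = e6 i) : f = 1 := by
  let F : V6 →+ V6 := AddMonoidHom.mk' f hf.1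
  have hF : F.toZModLinearMap 2 = LinearMap.id := by
    refine (Pi.basisFun (ZMod 2) (Fin 6)).ext fun i => ?_
    have he : (Pi.basisFun (ZMod 2) (Fin 6)) i = e6 i := by
      funext j
      simp [e6, Pi.single_apply]
    rw [he]
    exact h i
  exact Equiv.ext fun v => LinearMap.congr_fun hF v

/-- Isometries fixing the first `k` basis vectors. -/
def stab6 (k : ℕ) : Subgroup (Equiv.Perm V6) where
  carrier := {f | f ∈ iso6 ∧ ∀ i : Fin 6, (i : ℕ) < k → f (e6 i) = e6 i}
  one_mem' := ⟨one_mem _, fun _ _ => rfl⟩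
  mul_mem' := by
    rintro f g ⟨hf, hf'⟩ ⟨hg, hg'⟩
    exact ⟨mul_mem hf hg, fun i hi => by rw [Equiv.Perm.mul_apply, hg' i hi, hf' i hi]⟩
  inv_mem' := by
    rintro f ⟨hf, hf'⟩
    refine ⟨inv_mem hf, fun i hi => f.injective ?_⟩
    rw [hf' i hi]
    simp

theorem card_stab_step {k : ℕ} (hk : k < 6) (n : ℕ)
    (hn : (Finset.univ.filter fun v : V6 => q6 v = q6 (e6 ⟨k, hk⟩) ∧
      ∀ i : Fin 6, (i : ℕ) < k → b6 (e6 i) v = b6 (e6 i) (e6 ⟨k, hk⟩)).card ≤ n) :
    Nat.card (stab6 k) ≤ n * Nat.card (stab6 (k + 1)) := by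
  classical
  let e := e6 ⟨k, hk⟩
  let S := Finset.univ.filter fun v : V6 => q6 v = q6 e ∧ ∀ i : Fin 6, (i : ℕ) < k → b6 (e6 i) v = b6 (e6 i) e
  have hS : ∀ f : stab6 k, f.1 e ∈ S := by
    intro f
    refine Finset.mem_filter.2 ⟨Finset.mem_univ _, f.2.1.2 e, fun i hi => ?_⟩
    have := b6_perm f.2.1 (e6 i) e
    rwa [f.2.2 i hi] at this
  let out : V6 → Equiv.Perm V6 := fun v => if h : ∃ f : stab6 k, f.1 e = v then h.choose.1 else 1
  have hout : ∀ f : stab6 k, out (f.1 e) ∈ stab6 k ∧ out (f.1 e) e = f.1 e := by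
    intro f
    have h : ∃ g : stab6 k, g.1 e = f.1 e := ⟨f, rfl⟩
    simp only [out, dif_pos h]
    exact ⟨h.choose.2, h.choose_spec⟩
  have hT : ∀ f : stab6 k, (out (f.1 e))⁻¹ * f.1 ∈ stab6 (k + 1) := by
    intro f
    have hm := mul_mem (inv_mem (hout f).1) f.2
    refine ⟨hm.1, fun i hi => ?_⟩
    rcases Nat.lt_succ_iff_lt_or_eq.1 hi with hi | hi
    · exact hm.2 i hi
    · have : i = ⟨k, hk⟩ := Fin.ext hi
      subst this
      apply (out (f.1 e)).injective
      rw [Equiv.Perm.mul_apply]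
      simp
      exact (hout f).2.symm
  let φ : stab6 k → S × stab6 (k + 1) := fun f => (⟨f.1 e, hS f⟩, ⟨_, hT f⟩)
  have hφ : Function.Injective φ := by
    intro f g h
    simp only [φ, Prod.mk.injEq, Subtype.mk.injEq] at h
    have h2 := h.2
    rw [h.1] at h2
    exact Subtype.ext (mul_left_cancel h2)
  refine le_trans (Nat.card_le_card_of_injective φ hφ) ?_
  rw [Nat.card_prod, Nat.card_eq_finsetCard]
  exact Nat.mul_le_mul hn le_rfl

theorem card_iso6 : Nat.card iso6 ≤ 51840 := by
  have h6 : Nat.card (stab6 6) = 1 := by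
    rw [Subgroup.card_eq_one, Subgroup.eq_bot_iff_forall]
    exact fun f hf => perm_eq_one hf.1 fun i => hf.2 i i.2
  have h0 : Nat.card iso6 ≤ Nat.card (stab6 0) :=
    Nat.card_mono (Set.toFinite _) fun f hf => ⟨hf, fun i hi => absurd hi (Nat.not_lt_zero _)⟩
  have s0 := card_stab_step (k := 0) (by norm_num) 36 (by decide +kernel)
  have s1 := card_stab_step (k := 1) (by norm_num) 20 (by decide +kernel)
  have s2 := card_stab_step (k := 2) (by norm_num) 6 (by decide +kernel)
  have s3 := card_stab_step (k := 3) (by norm_num) 2 (by decide +kernel)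
  have s4 := card_stab_step (k := 4) (by norm_num) 3 (by decide +kernel)
  have s5 := card_stab_step (k := 5) (by norm_num) 2 (by decide +kernel)
  simp only [Nat.reduceAdd] at s0 s1 s2 s3 s4 s5
  omega

/-- The rotation of the plane spanned by `p` and `p'`. -/
def turn6 (p p' v : V6) : V6 := v + b6 v p' • (p + p') + b6 v p • p

theorem turn6_fix {p p' x : V6} (h : b6 x p = 0) (h' : b6 x p' = 0) : turn6 p p' x = x := by
  simp [turn6, h, h']

theorem turn6_add (p p' v w : V6) : turn6 p p' (v + w) = turn6 p p' v + turn6 p p' w := by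
  simp only [turn6, b6_add_left, add_smul]
  abel

theorem rot_of_action {F : Type*} [Field F] [Fintype F] (hF : Fintype.card F = 4)
    (φ : Cfsg.SU 4 F 2 → V6 → V6) (hadd : ∀ s v w, φ s (v + w) = φ s v + φ s w)
    (hq : ∀ s v, q6 (φ s v) = q6 v) (hmul : ∀ s t v, φ (s * t) v = φ s (φ t v))
    (hinj : ∀ s, (∀ v, φ s v = v) → s = 1) :
    ∀ p p' : V6, q6 p = 1 → q6 p' = 1 → b6 p p' = 1 →
      ∃ s, Odd (orderOf s) ∧ φ s p = p' ∧ φ s p' = p + p' ∧
        ∀ x, b6 x p = 0 → b6 x p' = 0 → φ s x = x := by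
  intro p p' hp hp' hpp
  have inj : ∀ s, Function.Injective (φ s) := by
    intro s v w h
    refine sub_eq_zero.1 (eq_zero_of_b6 fun u => ?_)
    have e : ∀ a b, b6 (φ s a) (φ s b) = b6 a b := by
      intro a b
      have h1 := q6_add (φ s a) (φ s b)
      rw [← hadd, hq, hq, hq, q6_add a b] at h1
      exact (add_left_cancel h1).symm
    have h2 : b6 v u = b6 w u := by rw [← e v u, ← e w u, h]
    have h3 : v = w + (v - w) := by abel
    rw [h3, b6_add_left] at h2
    simpa using h2
  have one : ∀ v, φ 1 v = v := fun v => inj 1 (by rw [← hmul, one_mul])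
  let perm : Cfsg.SU 4 F 2 → Equiv.Perm V6 := fun s => Equiv.ofBijective (φ s) (Finite.injective_iff_bijective.1 (inj s))
  have pm : ∀ s, perm s ∈ iso6 := fun s => ⟨hadd s, hq s⟩
  let Φ : Cfsg.SU 4 F 2 →* iso6 :=
    { toFun := fun s => ⟨perm s, pm s⟩
      map_one' := Subtype.ext (Equiv.ext one)
      map_mul' := fun s t => Subtype.ext (Equiv.ext (hmul s t)) }
  have hΦ : Function.Injective Φ := by
    rw [injective_iff_map_eq_one]
    intro s hs
    exact hinj s fun v => congrArg (fun f : iso6 => f.1 v) hs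
  have hcard : Nat.card Φ.range = 25920 := by
    rw [Nat.card_congr (MonoidHom.ofInjective hΦ).toEquiv.symm]
    have hF' : Fintype.card F = 2 ^ 2 := by rw [hF]; norm_num
    have h := CfsgLib.Classical.card_su_mul hF' (n := 4) (by norm_num)
    rw [CfsgLib.Classical.card_gu hF'] at h
    simp [Finset.prod_range_succ, Nat.even_iff] at h
    omega
  have hidx : Φ.range.index ≤ 2 := by
    have h := Φ.range.index_mul_card
    have := card_iso6
    rw [hcard] at h
    omega
  have hsq : ∀ g : iso6, g ^ 2 ∈ Φ.range := by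
    intro g
    rcases Nat.lt_or_ge Φ.range.index 2 with h | h
    · have : Φ.range.index = 1 := by
        have := (Subgroup.index_ne_zero_of_finite (H := Φ.range))
        omega
      rw [Subgroup.index_eq_one.1 this]
      exact Subgroup.mem_top _
    · exact Subgroup.sq_mem_of_index_two (le_antisymm hidx h) g
  have hself : b6 p p = 0 := b6_self p
  have hself' : b6 p' p' = 0 := b6_self p'
  have hpp2 : b6 p' p = 1 := by rw [b6_comm]; exact hpp
  have r1 : turn6 p p' p = p' := by
    simp only [turn6, hpp, hself, one_smul, zero_smul, add_zero]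
    rw [← add_assoc, v6_add_self, zero_add]
  have r2 : turn6 p p' p' = p + p' := by
    simp only [turn6, hpp2, hself', one_smul, zero_smul, add_zero]
    exact add_comm _ _
  have lin : ∀ v, ∃ a c : ZMod 2, ∃ x, b6 x p = 0 ∧ b6 x p' = 0 ∧ v = x + a • p + c • p' := by
    intro v
    refine ⟨b6 v p', b6 v p, v + b6 v p' • p + b6 v p • p', ?_, ?_, ?_⟩
    · simp only [b6_add_left, b6_smul_left, hself, hpp2]
      linear_combination (b6 v p) * two_zero
    · simp only [b6_add_left, b6_smul_left, hself', hpp]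
      linear_combination (b6 v p') * two_zero
    · funext i
      simp only [Pi.add_apply, Pi.smul_apply, smul_eq_mul]
      linear_combination (-(b6 v p' * p i + b6 v p * p' i)) * two_zero
  have rsm : ∀ (a : ZMod 2) v, turn6 p p' (a • v) = a • turn6 p p' v := by
    intro a v
    rcases zmod2_cases a with rfl | rfl
    · simp [turn6, b6_zero_left]
    · simp
  have rval : ∀ x (a c : ZMod 2), b6 x p = 0 → b6 x p' = 0 →
      turn6 p p' (x + a • p + c • p') = x + c • p + (a + c) • p' := by
    intro x a c hx hx'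
    rw [turn6_add, turn6_add, rsm, rsm, r1, r2, turn6_fix hx hx', smul_add, add_smul]
    abel
  have r3 : ∀ v, turn6 p p' (turn6 p p' (turn6 p p' v)) = v := by
    intro v
    obtain ⟨a, c, x, hx, hx', rfl⟩ := lin v
    rw [rval x a c hx hx', rval x _ _ hx hx', rval x _ _ hx hx']
    have e1 : c + (a + c) = a := by linear_combination c * two_zero
    have e2 : a + c + (c + (a + c)) = c := by linear_combination (a + c) * two_zero
    rw [e1, show a + c + a = c by linear_combination a * two_zero]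
  have rq : ∀ v, q6 (turn6 p p' v) = q6 v := by
    intro v
    simp only [turn6]
    rcases zmod2_cases (b6 v p') with h | h <;> rcases zmod2_cases (b6 v p) with k | k <;>
      simp [h, k, q6_add, b6_add_left, b6_add_right, hp, hp', hpp, hpp2, hself] <;>
        (generalize q6 v = a; revert a; decide)
  let R : iso6 :=
    ⟨⟨turn6 p p', fun v => turn6 p p' (turn6 p p' v), fun v => r3 v, fun v => r3 v⟩, turn6_add p p', rq⟩
  have hR3 : R ^ 3 = 1 := by
    refine Subtype.ext (Equiv.ext fun v => ?_)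
    exact r3 v
  have hmem : R ∈ Φ.range := by
    have : R = (R ^ 2) ^ 2 := by rw [← pow_mul, show 2 * 2 = 3 + 1 from rfl, pow_succ, hR3, one_mul]
    rw [this]
    exact hsq _
  obtain ⟨s, hs⟩ := hmem
  have hval : ∀ v, φ s v = turn6 p p' v := fun v => congrArg (fun f : iso6 => f.1 v) hs
  refine ⟨s, ?_, by rw [hval, r1], by rw [hval, r2], fun x hx hx' => by rw [hval, turn6_fix hx hx']⟩
  have ho : orderOf s ∣ 3 := by
    rw [← orderOf_injective Φ hΦ, hs]
    exact orderOf_dvd_of_pow_eq_one hR3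
  rcases (Nat.dvd_prime Nat.prime_three).1 ho with h | h <;> rw [h] <;> decide

end CfsgLib.Recog.U6Cent.Red
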