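import Cfsg.Agent.Lib.Recog.U6Cent.Setup
import Cfsg.Agent.Lib.Recog.U6Cent.ModCoord
import Cfsg.Agent.Lib.Recog.U6Cent.ModRed
import Cfsg.Agent.Lib.Recog.U6Cent.RedRot
import Cfsg.Agent.Lib.Recog.U6Cent.RedExistsE
import Cfsg.Agent.Lib.Transfer.Extraspecial

/-!
The action of `C(z)` on `J/⟨z⟩` and the dichotomy: natural coordinates or the reducible case.
-/

set_option autoImplicit false
set_option linter.unusedSectionVars false

namespace CfsgLib.Recog.U6Cent

open Subgroup Cfsg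
open scoped commutatorElement

variable {G : Type*} [Group G] {F : Type*} [Field F] [Fintype F]

namespace CentSetup

variable (S : CentSetup G F)

theorem z_comm {g : G} (hg : g ∈ centralizer ({S.z} : Set G)) : g * S.z = S.z * g :=
  mem_centralizer_singleton_iff.1 hg

theorem J_cent {x : G} (hx : x ∈ S.J) : x ∈ centralizer ({S.z} : Set G) := S.H0_le (S.J_le hx)

theorem finite_J : Finite S.J := Nat.finite_of_card_ne_zero (by rw [S.card_J]; norm_num)

/-- `z` as an element of `J`. -/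
def zJ : S.J := ⟨S.z, S.z_mem⟩

theorem center_cases (x : S.J) : x ∈ center S.J ↔ (x : G) = 1 ∨ (x : G) = S.z := by
  have := S.finite_J
  haveI : Fact (Nat.Prime 2) := ⟨Nat.prime_two⟩
  have hz : S.zJ ∈ center S.J := mem_center_iff.2 fun y => Subtype.ext (S.z_comm (S.J_cent y.2))
  have hne : S.zJ ≠ 1 := fun h => S.z_ne (congrArg Subtype.val h)
  rw [CfsgLib.Transfer.extraspecial_center_eq_zpowers S.J_extra hz hne]
  constructor
  · rintro ⟨n, rfl⟩
    have hsq : S.zJ * S.zJ = 1 := Subtype.ext S.z_sq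
    rcases Int.even_or_odd n with ⟨m, rfl⟩ | ⟨m, rfl⟩
    · left
      show ((S.zJ ^ (m + m) : S.J) : G) = 1
      rw [← two_mul, zpow_mul, zpow_two, hsq, one_zpow]
      rfl
    · right
      show ((S.zJ ^ (2 * m + 1) : S.J) : G) = S.z
      rw [zpow_add, zpow_mul, zpow_two, hsq, one_zpow, one_mul, zpow_one]
      rfl
  · rintro (h | h)
    · rw [show x = 1 from Subtype.ext h]
      exact one_mem _
    · rw [show x = S.zJ from Subtype.ext h]
      exact mem_zpowers _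

theorem sq_cases {x : G} (hx : x ∈ S.J) : x * x = 1 ∨ x * x = S.z := by
  have := S.finite_J
  haveI : Fact (Nat.Prime 2) := ⟨Nat.prime_two⟩
  have h := CfsgLib.Transfer.pow_mem_frattini S.J_extra.1.1 (⟨x, hx⟩ : S.J)
  rw [S.J_extra.1.2.1, pow_two] at h
  simpa using (S.center_cases _).1 h

theorem comm_cases {x y : G} (hx : x ∈ S.J) (hy : y ∈ S.J) : x * y = y * x ∨ x * y = y * x * S.z := by
  have h := CfsgLib.Transfer.special_commutatorElement_mem_center S.J_extra.1 (⟨x, hx⟩ : S.J) ⟨y, hy⟩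
  rcases (S.center_cases _).1 h with e | e <;> simp only [Subgroup.coe_mul, InvMemClass.coe_inv,
    commutatorElement_def] at e
  · exact Or.inl (mul_inv_eq_iff_eq_mul.1 (mul_inv_eq_one.1 e))
  · refine Or.inr ?_
    rw [mul_assoc (y : G), S.z_comm (S.J_cent hx), ← mul_assoc, S.z_comm (S.J_cent hy)]
    have e' := mul_inv_eq_iff_eq_mul.1 (mul_inv_eq_iff_eq_mul.1 e)
    exact e'

/-- `J/⟨z⟩`. -/
def Vq (S : CentSetup G F) : Type _ := S.J ⧸ center S.J

instance : CommGroup S.Vq :=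
  show CommGroup (S.J ⧸ center S.J) from
  { (inferInstance : Group (S.J ⧸ center S.J)) with
    mul_comm := by
      intro a b
      induction a using QuotientGroup.induction_on with
      | _ x =>
        induction b using QuotientGroup.induction_on with
        | _ y =>
          refine (QuotientGroup.eq).2 ?_
          show (x * y)⁻¹ * (y * x) ∈ center S.J
          have := CfsgLib.Transfer.special_commutatorElement_mem_center S.J_extra.1 y⁻¹ x⁻¹
          rwa [show (x * y)⁻¹ * (y * x) = ⁅y⁻¹, x⁻¹⁆ by simp [commutatorElement_def, mul_assoc]] }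

/-- The projection. -/
def mkq : S.J →* S.Vq := QuotientGroup.mk' (center S.J)

theorem mkq_surj : Function.Surjective S.mkq := QuotientGroup.mk'_surjective _

open scoped _root_.Classical in
/-- The image of an element of `J`. -/
noncomputable def pr (x : G) : Additive S.Vq := if h : x ∈ S.J then Additive.ofMul (S.mkq ⟨x, h⟩) else 0

theorem pr_of_mem {x : G} (hx : x ∈ S.J) : S.pr x = Additive.ofMul (S.mkq ⟨x, hx⟩) := dif_pos hx

theorem pr_mul {x y : G} (hx : x ∈ S.J) (hy : y ∈ S.J) : S.pr (x * y) = S.pr x + S.pr y := by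
  rw [S.pr_of_mem hx, S.pr_of_mem hy, S.pr_of_mem (mul_mem hx hy), ← ofMul_mul, ← map_mul]
  rfl

theorem pr_zero_iff {x : G} (hx : x ∈ S.J) : S.pr x = 0 ↔ x = 1 ∨ x = S.z := by
  rw [S.pr_of_mem hx, ofMul_eq_zero, ← S.center_cases ⟨x, hx⟩]
  exact QuotientGroup.eq_one_iff (N := center S.J) (⟨x, hx⟩ : S.J)

theorem exists_pr (v : Additive S.Vq) : ∃ x ∈ S.J, S.pr x = v := by
  obtain ⟨⟨x, hx⟩, h⟩ := S.mkq_surj v.toMul
  exact ⟨x, hx, by rw [S.pr_of_mem hx, h]; rfl⟩

theorem two (v : Additive S.Vq) : v + v = 0 := by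
  obtain ⟨x, hx, rfl⟩ := S.exists_pr v
  rw [← S.pr_mul hx hx, S.pr_zero_iff (mul_mem hx hx)]
  exact S.sq_cases hx

theorem pr_eq_iff {x y : G} (hx : x ∈ S.J) (hy : y ∈ S.J) : S.pr x = S.pr y ↔ y = x ∨ y = x * S.z := by
  have h := S.pr_mul (inv_mem hx) hy
  have hinv : S.pr x⁻¹ = S.pr x := by
    have h2 := S.pr_mul hx (inv_mem hx)
    rw [mul_inv_cancel, (S.pr_zero_iff (one_mem _)).2 (Or.inl rfl)] at h2
    exact add_left_cancel (h2.symm.trans (S.two (S.pr x)).symm)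
  rw [hinv] at h
  rw [show S.pr x = S.pr y ↔ S.pr x + S.pr y = 0 from
    ⟨fun e => by rw [e, S.two], fun e => add_left_cancel (((S.two (S.pr x)).trans e.symm))⟩, ← h,
    S.pr_zero_iff (mul_mem (inv_mem hx) hy), inv_mul_eq_one, inv_mul_eq_iff_eq_mul, eq_comm (a := x)]

/-- A representative. -/
noncomputable def rp (v : Additive S.Vq) : G := (S.exists_pr v).choose

theorem rp_mem (v : Additive S.Vq) : S.rp v ∈ S.J := (S.exists_pr v).choose_spec.1

theorem pr_rp (v : Additive S.Vq) : S.pr (S.rp v) = v := (S.exists_pr v).choose_spec.2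

open scoped _root_.Classical in
/-- The quadratic form. -/
noncomputable def Qf (v : Additive S.Vq) : ZMod 2 := if S.rp v * S.rp v = 1 then 0 else 1

theorem rp_cases {x : G} (hx : x ∈ S.J) : S.rp (S.pr x) = x ∨ S.rp (S.pr x) = x * S.z :=
  (S.pr_eq_iff hx (S.rp_mem _)).1 (S.pr_rp _).symm

theorem Qf_pr {x : G} (hx : x ∈ S.J) : S.Qf (S.pr x) = 0 ↔ x * x = 1 := by
  have e : S.rp (S.pr x) * S.rp (S.pr x) = x * x := by
    rcases S.rp_cases hx with h | h <;> rw [h]
    rw [mul_assoc, ← mul_assoc S.z x, ← S.z_comm (S.J_cent hx), mul_assoc x S.z, S.z_sq, mul_one]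
  simp only [Qf]
  split_ifs with h <;> rw [e] at h <;> simp [h]

theorem polar_pr {x y : G} (hx : x ∈ S.J) (hy : y ∈ S.J) :
    Mod.polar S.Qf (S.pr x) (S.pr y) = 0 ↔ x * y = y * x := by
  have hQ : ∀ {a : G}, a ∈ S.J → (S.Qf (S.pr a) = 0 ∧ a * a = 1) ∨ (S.Qf (S.pr a) = 1 ∧ a * a = S.z) := by
    intro a ha
    rcases S.sq_cases ha with h | h
    · exact Or.inl ⟨(S.Qf_pr ha).2 h, h⟩
    · exact Or.inr ⟨(by decide : ∀ q : ZMod 2, q ≠ 0 → q = 1) _ fun e =>
        S.z_ne (h.symm.trans ((S.Qf_pr ha).1 e)), h⟩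
  have hzx := S.z_comm (S.J_cent hx)
  have hzy := S.z_comm (S.J_cent hy)
  simp only [Mod.polar, ← S.pr_mul hx hy]
  rcases S.comm_cases hy hx with hc | hc
  · have e : x * y * (x * y) = x * x * (y * y) := by
      rw [show x * y * (x * y) = x * (y * x) * y by group, hc]; group
    have hc' : x * y = y * x := hc.symm
    rcases hQ (mul_mem hx hy) with ⟨a, a'⟩ | ⟨a, a'⟩ <;> rcases hQ hx with ⟨b, b'⟩ | ⟨b, b'⟩ <;>
      rcases hQ hy with ⟨c, c'⟩ | ⟨c, c'⟩ <;> rw [a', b', c'] at e <;> rw [a, b, c] <;>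
      simp [S.z_ne, S.z_ne.symm, S.z_sq] at e <;>
      simp [hc', show (1 : ZMod 2) + 1 = 0 from rfl]
  · have e : x * y * (x * y) = x * x * (y * y) * S.z := by
      rw [show x * y * (x * y) = x * (y * x) * y by group, hc, mul_assoc x, mul_assoc (x * y), ← hzy]
      group
    have hc' : ¬ x * y = y * x := fun h => S.z_ne (left_eq_mul.1 (h.trans hc))
    rcases hQ (mul_mem hx hy) with ⟨a, a'⟩ | ⟨a, a'⟩ <;> rcases hQ hx with ⟨b, b'⟩ | ⟨b, b'⟩ <;>
      rcases hQ hy with ⟨c, c'⟩ | ⟨c, c'⟩ <;> rw [a', b', c'] at e <;> rw [a, b, c] <;>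
      simp [S.z_ne, S.z_ne.symm, S.z_sq] at e <;>
      simp [hc', show (1 : ZMod 2) + 1 = 0 from rfl]

theorem polar_add' (u v w : Additive S.Vq) :
    Mod.polar S.Qf (u + v) w = Mod.polar S.Qf u w + Mod.polar S.Qf v w := by
  obtain ⟨x, hx, rfl⟩ := S.exists_pr u
  obtain ⟨y, hy, rfl⟩ := S.exists_pr v
  obtain ⟨t, ht, rfl⟩ := S.exists_pr w
  rw [← S.pr_mul hx hy]
  have hval : ∀ {a b : G}, a ∈ S.J → b ∈ S.J → (Mod.polar S.Qf (S.pr a) (S.pr b) = 0 ∧ a * b = b * a) ∨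
      (Mod.polar S.Qf (S.pr a) (S.pr b) = 1 ∧ a * b = b * a * S.z) := by
    intro a b ha hb
    by_cases h : a * b = b * a
    · exact Or.inl ⟨(S.polar_pr ha hb).2 h, h⟩
    · exact Or.inr ⟨(by decide : ∀ q : ZMod 2, q ≠ 0 → q = 1) _ fun e => h ((S.polar_pr ha hb).1 e),
        (S.comm_cases ha hb).resolve_left h⟩
  have hzt := S.z_comm (S.J_cent ht)
  have hzy := S.z_comm (S.J_cent hy)
  rcases hval hx ht with ⟨e1, g1⟩ | ⟨e1, g1⟩ <;> rcases hval hy ht with ⟨e2, g2⟩ | ⟨e2, g2⟩ <;>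
    rcases hval (mul_mem hx hy) ht with ⟨e3, g3⟩ | ⟨e3, g3⟩ <;> rw [e1, e2, e3] <;>
    first
      | rfl
      | (exfalso; refine S.z_ne ?_
         have e : x * y * t = x * (y * t) := mul_assoc _ _ _
         rw [g3, g2] at e
         simp only [← mul_assoc] at e
         rw [g1] at e
         simp only [mul_assoc, ← hzy, ← hzt, S.z_sq, mul_one] at e
         first
           | exact mul_left_cancel (a := t * (x * y)) (by simpa [mul_assoc] using e)
           | exact (mul_left_cancel (a := t * (x * y)) (by simpa [mul_assoc] using e.symm)))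

theorem nondeg' (u : Additive S.Vq) (h : ∀ v, Mod.polar S.Qf u v = 0) : u = 0 := by
  obtain ⟨x, hx, rfl⟩ := S.exists_pr u
  rw [S.pr_zero_iff hx]
  refine (S.center_cases ⟨x, hx⟩).1 (mem_center_iff.2 fun y => Subtype.ext ?_)
  exact ((S.polar_pr hx y.2).1 (h _)).symm

/-- The action of `C(z)`. -/
noncomputable def Φ : centralizer ({S.z} : Set G) →* AddMonoid.End (Additive S.Vq) :=
  let f : centralizer ({S.z} : Set G) → AddMonoid.End (Additive S.Vq) := fun g =>
    AddMonoidHom.mk' (fun v => S.pr ((g : G) * S.rp v * (g : G)⁻¹)) fun u v => by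
      have hu := S.rp_mem u
      have hv := S.rp_mem v
      have h : S.pr (S.rp u * S.rp v) = u + v := by rw [S.pr_mul hu hv, S.pr_rp, S.pr_rp]
      rw [← S.pr_mul (S.J_normal _ g.2 _ hu) (S.J_normal _ g.2 _ hv), conj_mul]
      have hh := (S.pr_eq_iff (mul_mem hu hv) (S.rp_mem (u + v))).1 (h.trans (S.pr_rp _).symm)
      refine ((S.pr_eq_iff (S.J_normal _ g.2 _ (mul_mem hu hv)) (S.J_normal _ g.2 _ (S.rp_mem _))).2 ?_).symm
      rcases hh with e | e <;> rw [e]
      · exact Or.inl rfl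
      · exact Or.inr (by simp [mul_assoc, ← S.z_comm (inv_mem g.2)])
  have hf : ∀ g x, x ∈ S.J → f g (S.pr x) = S.pr ((g : G) * x * (g : G)⁻¹) := fun g x hx => by
    show S.pr _ = _
    refine ((S.pr_eq_iff (S.J_normal _ g.2 _ hx) (S.J_normal _ g.2 _ (S.rp_mem _))).2 ?_).symm
    rcases S.rp_cases hx with e | e <;> rw [e]
    · exact Or.inl rfl
    · exact Or.inr (by simp [mul_assoc, ← S.z_comm (inv_mem g.2)])
  { toFun := f
    map_one' := AddMonoidHom.ext fun v => by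
      show S.pr _ = v
      simp [S.pr_rp]
    map_mul' := fun g k => AddMonoidHom.ext fun v => by
      obtain ⟨x, hx, rfl⟩ := S.exists_pr v
      show f (g * k) (S.pr x) = f g (f k (S.pr x))
      rw [hf _ x hx, hf _ x hx, hf _ _ (S.J_normal _ k.2 _ hx)]
      simp [mul_assoc] }

theorem Φ_pr (g : centralizer ({S.z} : Set G)) {x : G} (hx : x ∈ S.J) :
    S.Φ g (S.pr x) = S.pr ((g : G) * x * (g : G)⁻¹) := by
  show S.pr _ = _
  refine ((S.pr_eq_iff (S.J_normal _ g.2 _ hx) (S.J_normal _ g.2 _ (S.rp_mem _))).2 ?_).symm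
  rcases S.rp_cases hx with e | e <;> rw [e]
  · exact Or.inl rfl
  · exact Or.inr (by simp [mul_assoc, ← S.z_comm (inv_mem g.2)])

theorem Φ_Q (g : centralizer ({S.z} : Set G)) (v : Additive S.Vq) : S.Qf (S.Φ g v) = S.Qf v := by
  obtain ⟨x, hx, rfl⟩ := S.exists_pr v
  rw [S.Φ_pr g hx]
  have h : ((g : G) * x * (g : G)⁻¹) * ((g : G) * x * (g : G)⁻¹) = 1 ↔ x * x = 1 := by
    rw [conj_mul, conj_eq_one_iff]
  rcases (by decide : ∀ q : ZMod 2, q = 0 ∨ q = 1) (S.Qf (S.pr x)) with e | e <;> rw [e]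
  · rw [S.Qf_pr (S.J_normal _ g.2 _ hx), h, ← S.Qf_pr hx, e]
  · refine (by decide : ∀ q : ZMod 2, q ≠ 0 → q = 1) _ fun e' => ?_
    rw [S.Qf_pr (S.J_normal _ g.2 _ hx), h, ← S.Qf_pr hx, e] at e'
    exact one_ne_zero e'

theorem Φ_J {g : centralizer ({S.z} : Set G)} (hg : (g : G) ∈ S.J) (v : Additive S.Vq) : S.Φ g v = v := by
  obtain ⟨x, hx, rfl⟩ := S.exists_pr v
  rw [S.Φ_pr g hx]
  refine ((S.pr_eq_iff hx (S.J_normal _ g.2 _ hx)).2 ?_).symm
  rcases S.comm_cases hg hx with e | e <;> rw [e]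
  · exact Or.inl (by group)
  · refine Or.inr ?_
    rw [mul_assoc _ S.z, ← S.z_comm (inv_mem g.2)]
    group

theorem mem_J_of_Φ {g : centralizer ({S.z} : Set G)} (h : ∀ v, S.Φ g v = v) : (g : G) ∈ S.J := by
  have := S.finite_J
  haveI : Fact (Nat.Prime 2) := ⟨Nat.prime_two⟩
  let c : S.J → S.J := fun x => ⟨(g : G) * x * (g : G)⁻¹ * (x : G)⁻¹,
    mul_mem (S.J_normal _ g.2 _ x.2) (inv_mem x.2)⟩
  have hc : ∀ x, c x ∈ center S.J := fun x => by
    rw [S.center_cases, ← S.pr_zero_iff (c x).2]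
    show S.pr ((g : G) * x * (g : G)⁻¹ * (x : G)⁻¹) = 0
    rw [S.pr_mul (S.J_normal _ g.2 _ x.2) (inv_mem x.2), ← S.Φ_pr g x.2, h, ← S.pr_mul x.2 (inv_mem x.2),
      mul_inv_cancel, S.pr_zero_iff (one_mem _)]
    exact Or.inl rfl
  let cm : S.J →* center S.J := MonoidHom.mk' (fun x => ⟨c x, hc x⟩) fun x y => Subtype.ext (by
    show c (x * y) = c x * c y
    have hh : c (x * y) = c x * (x * c y * x⁻¹) := Subtype.ext (by
      simp only [c, Subgroup.coe_mul, InvMemClass.coe_inv]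
      group)
    rw [hh, mem_center_iff.1 (hc y) x, mul_inv_cancel_right])
  obtain ⟨e, he⟩ := CfsgLib.Transfer.extraspecial_exists_commutator_eq S.J_extra cm (fun x hx => by
    refine MonoidHom.mem_ker.2 (Subtype.ext (Subtype.ext ?_))
    show (g : G) * x * (g : G)⁻¹ * (x : G)⁻¹ = 1
    rcases (S.center_cases x).1 hx with e | e <;> rw [e]
    · group
    · rw [S.z_comm g.2]; group)
  have hmem : (e : G)⁻¹ * g ∈ centralizer ({S.z} : Set G) ⊓ centralizer (S.J : Set G) := by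
    refine Subgroup.mem_inf.2 ⟨mul_mem (inv_mem (S.J_cent e.2)) g.2, mem_centralizer_iff.2 fun x hx => ?_⟩
    have h1 := congrArg (fun y : S.J => (y : G)) (he ⟨x, hx⟩)
    simp only [cm, c, MonoidHom.mk'_apply, commutatorElement_def, Subgroup.coe_mul, InvMemClass.coe_inv] at h1
    have h2 : (g : G) * x * (g : G)⁻¹ = (e : G) * x * (e : G)⁻¹ := mul_right_cancel h1
    calc x * ((e : G)⁻¹ * g) = (e : G)⁻¹ * ((e : G) * x * (e : G)⁻¹) * g := by group
      _ = (e : G)⁻¹ * ((g : G) * x * (g : G)⁻¹) * g := by rw [h2]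
      _ = (e : G)⁻¹ * g * x := by group
  have := S.self_cent hmem
  simpa using mul_mem e.2 this

/-- Lifts. -/
noncomputable def sec (s : SU 4 F 2) : centralizer ({S.z} : Set G) :=
  ⟨((S.psi_surj s).choose : S.H0), S.H0_le (S.psi_surj s).choose.2⟩

theorem sec_mem (s : SU 4 F 2) : (S.sec s : G) ∈ S.H0 := (S.psi_surj s).choose.2

theorem psi_sec (s : SU 4 F 2) : S.psi ⟨S.sec s, S.sec_mem s⟩ = s := (S.psi_surj s).choose_spec

theorem Φ_psi {g : centralizer ({S.z} : Set G)} (hg : (g : G) ∈ S.H0) :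
    S.Φ g = S.Φ (S.sec (S.psi ⟨g, hg⟩)) := by
  set k := S.sec (S.psi ⟨g, hg⟩) with hk
  have hj : ((k⁻¹ * g : centralizer ({S.z} : Set G)) : G) ∈ S.J := by
    have := (S.psi_ker (⟨k, S.sec_mem _⟩⁻¹ * ⟨g, hg⟩)).1 (by rw [map_mul, map_inv, S.psi_sec, inv_mul_cancel])
    simpa using this
  refine AddMonoidHom.ext fun v => ?_
  calc S.Φ g v = S.Φ (k * (k⁻¹ * g)) v := by rw [mul_inv_cancel_left]
    _ = S.Φ k (S.Φ (k⁻¹ * g) v) := by rw [map_mul]; rfl
    _ = S.Φ k v := by rw [S.Φ_J hj]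

/-- The action of `SU₄(2)`. -/
noncomputable def rho : SU 4 F 2 →* AddMonoid.End (Additive S.Vq) where
  toFun s := S.Φ (S.sec s)
  map_one' := by
    have hj : ((S.sec 1 : centralizer ({S.z} : Set G)) : G) ∈ S.J :=
      (S.psi_ker ⟨S.sec 1, S.sec_mem 1⟩).1 (S.psi_sec 1)
    exact AddMonoidHom.ext fun v => S.Φ_J hj v
  map_mul' s t := by
    rw [← map_mul, S.Φ_psi (g := S.sec s * S.sec t) (mul_mem (S.sec_mem s) (S.sec_mem t))]
    congr 2
    rw [← S.psi_sec s, ← S.psi_sec t, ← map_mul, S.psi_sec, S.psi_sec]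
    rfl

theorem rho_psi {g : G} (hg : g ∈ S.H0) (v : Additive S.Vq) :
    S.rho (S.psi ⟨g, hg⟩) v = S.Φ ⟨g, S.H0_le hg⟩ v :=
  congrArg (fun f : AddMonoid.End (Additive S.Vq) => f v) (S.Φ_psi (g := ⟨g, S.H0_le hg⟩) hg).symm

/-- The representation. -/
noncomputable def rep : Mod.Rep F (Additive S.Vq) where
  ρ := S.rho
  card := by
    have := S.finite_J
    show Nat.card (S.J ⧸ center S.J) = 256
    rw [← Subgroup.index_eq_card]
    have h := (center S.J).index_mul_card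
    rw [S.J_extra.2, S.card_J] at h
    omega
  two := S.two
  faithful s hs := by
    have h := (S.psi_ker ⟨S.sec s, S.sec_mem s⟩).2 (S.mem_J_of_Φ hs)
    rwa [S.psi_sec] at h
  Q := S.Qf
  polar_add := S.polar_add'
  nondeg := S.nondeg'
  inv s := S.Φ_Q _

theorem normalises (g : centralizer ({S.z} : Set G)) :
    ∀ s, ∃ s', ∀ v, S.Φ g (S.rho s v) = S.rho s' (S.Φ g v) := by
  intro s
  refine ⟨S.psi ⟨(g : G) * S.sec s * (g : G)⁻¹, S.H0_normal _ g.2 _ (S.sec_mem s)⟩, fun v => ?_⟩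
  rw [S.rho_psi]
  show (S.Φ g * S.Φ (S.sec s)) v = (S.Φ _ * S.Φ g) v
  rw [← map_mul, ← map_mul]
  refine congrArg (fun k => S.Φ k v) (Subtype.ext ?_)
  simp

open scoped _root_.Classical in
theorem natData' [Finite G] {X : Mod.Gens F} (N : Mod.NatCase S.rep X) :
    ∃ D : NatData G F, D.z = S.z ∧ D.J = S.J ∧ D.H0 = S.H0 := by
  obtain ⟨τ, hτs, hτ⟩ := N.exists_tau
  let vec : G → Fin 4 → F := fun x => N.E.symm (S.pr x)
  have hvec : ∀ x, N.E (vec x) = S.pr x := fun x => N.E.apply_symm_apply _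
  let act : G → (Fin 4 → F) → Fin 4 → F := fun g =>
    if hg : g ∈ centralizer ({S.z} : Set G) then N.cmap (S.Φ ⟨g, hg⟩) else id
  have hact : ∀ g (hg : g ∈ centralizer ({S.z} : Set G)) v, N.E (act g v) = S.Φ ⟨g, hg⟩ (N.E v) :=
    fun g hg v => by rw [show act g = N.cmap (S.Φ ⟨g, hg⟩) from dif_pos hg, N.E_cmap]
  have hinner : ∀ g (hg : g ∈ S.H0) v, act g v = Mod.act (τ (S.psi ⟨g, hg⟩)) v := fun g hg v =>
    N.E.injective (by rw [hact g (S.H0_le hg), hτ]; exact (S.rho_psi hg _).symm)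
  refine ⟨{
    hF := S.hF, z := S.z, J := S.J, H0 := S.H0, z_sq := S.z_sq, z_ne := S.z_ne, z_mem := S.z_mem
    J_le := S.J_le, H0_le := S.H0_le, J_normal := S.J_normal, H0_normal := S.H0_normal
    card_J := S.card_J, card_H0 := S.card_H0, card_H := S.card_H
    vec := vec
    vec_mul := fun x hx y hy => N.E.injective (by rw [map_add, hvec, hvec, hvec, S.pr_mul hx hy])
    vec_surj := fun v => by
      obtain ⟨x, hx, h⟩ := S.exists_pr (N.E v)
      exact ⟨x, hx, N.E.injective (by rw [hvec, h])⟩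
    vec_zero := fun x hx => by
      rw [← S.pr_zero_iff hx, ← hvec x]
      exact (AddEquiv.map_eq_zero_iff N.E).symm
    sq_iff := fun x hx => by rw [← S.Qf_pr hx, ← hvec x]; exact N.Q_zero_iff _
    sq_or := fun x hx => S.sq_cases hx
    comm_iff := fun x hx y hy => by rw [← S.polar_pr hx hy, ← hvec x, ← hvec y]; exact N.polar_iff _ _
    comm_or := fun x hx y hy => S.comm_cases hx hy
    act := act
    act_vec := fun g hg x hx => N.E.injective (by rw [hvec, hact g hg, hvec, S.Φ_pr _ hx])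
    act_one := fun g hg => by
      constructor
      · refine fun h => S.mem_J_of_Φ (g := ⟨g, hg⟩) fun v => ?_
        obtain ⟨x, rfl⟩ := N.E.surjective v
        rw [← hact g hg, h]
      · intro h v
        exact N.E.injective (by rw [hact g hg]; exact S.Φ_J (g := ⟨g, hg⟩) h _)
    act_inner := fun g hg => ⟨τ (S.psi ⟨g, hg⟩), hinner g hg⟩
    act_surj := fun M => by
      obtain ⟨s, rfl⟩ := hτs M
      refine ⟨S.sec s, S.sec_mem s, fun v => ?_⟩
      rw [hinner _ (S.sec_mem s), S.psi_sec]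
      rfl
    act_outer := ?_
    act_form := ?_ }, rfl, rfl, rfl⟩
  all_goals
    intro g hg hg0
    rcases N.normalizing (S.Φ ⟨g, hg⟩) (fun u v h => by
        have := congrArg (S.Φ ⟨g, hg⟩⁻¹) h
        change (S.Φ ⟨g, hg⟩⁻¹ * S.Φ ⟨g, hg⟩) u = (S.Φ ⟨g, hg⟩⁻¹ * S.Φ ⟨g, hg⟩) v at this
        rwa [← map_mul, inv_mul_cancel, map_one] at this)
      (S.Φ_Q _) (S.normalises _) with ⟨r, hr⟩ | h
  case refine_1.inl | refine_2.inl =>
    exfalso
    refine hg0 ?_
    let k : centralizer ({S.z} : Set G) := S.sec r * ⟨g, hg⟩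
    have hk : (k : G) ∈ S.J := by
      refine S.outer_faithful _ k.2 fun h hh => ?_
      let hq : centralizer ({S.z} : Set G) := ⟨h, S.H0_le hh⟩
      refine S.mem_J_of_Φ (g := k * hq * k⁻¹ * hq⁻¹) fun v => ?_
      have hcomm : ∀ v, S.Φ k (S.Φ hq v) = S.Φ hq (S.Φ k v) := by
        intro v
        rw [← S.rho_psi hh, ← S.rho_psi hh]
        show (S.Φ (S.sec r * ⟨g, hg⟩)) _ = _
        rw [map_mul]
        exact hr _ v
      have e2 : S.Φ (k * hq) = S.Φ (hq * k) := AddMonoidHom.ext fun v => by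
        rw [S.Φ.map_mul k hq, S.Φ.map_mul hq k]
        exact hcomm v
      rw [map_mul, map_mul, e2, ← map_mul, ← map_mul, mul_inv_cancel_right, mul_inv_cancel, map_one]
      rfl
    have := mul_mem (inv_mem (S.sec_mem r)) (S.J_le hk)
    simpa [k] using this
  · exact fun k v => by
      rw [show act g = N.cmap (S.Φ ⟨g, hg⟩) from dif_pos hg]
      exact h.1 k v
  · exact fun v w => by
      rw [show act g = N.cmap (S.Φ ⟨g, hg⟩) from dif_pos hg]
      exact h.2 v w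

open scoped _root_.Classical in
theorem redData' [Finite G] {X : Mod.Gens F} (R : Mod.RedCase S.rep X) :
    ∃ D : RedData G, D.z = S.z ∧ D.J = S.J := by
  obtain ⟨f, hfi, hfr, hfQ, hfB⟩ := R.exists_coords
  let V0 := S.rep.V0 X
  have hfixg : ∀ (g : centralizer ({S.z} : Set G)) v, v ∈ V0 → S.Φ g v ∈ V0 := by
    intro g v hv
    refine (R.fixed_iff _).2 fun s => ?_
    obtain ⟨s', hs'⟩ := S.normalises g⁻¹ s
    have e : ∀ u, S.Φ g (S.Φ g⁻¹ u) = u := fun u => by
      show (S.Φ g * S.Φ g⁻¹) u = u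
      rw [← map_mul, mul_inv_cancel, map_one]; rfl
    have e' : ∀ u, S.Φ g⁻¹ (S.Φ g u) = u := fun u => by
      show (S.Φ g⁻¹ * S.Φ g) u = u
      rw [← map_mul, inv_mul_cancel, map_one]; rfl
    have h := hs' (S.Φ g v)
    rw [e', show S.rho s' v = v from (R.fixed_iff v).1 hv s'] at h
    show S.rho s _ = _
    rw [← e (S.rho s _), h]
  have hA_of_orth : ∀ v, (∀ u ∈ V0, Mod.polar S.Qf v u = 0) → S.rep.pA X v = 0 := by
    intro v hv
    refine R.eq_zero_of_orth (fun u hu => ?_) (S.rep.pA_pA X v)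
    have hd : S.rep.pA X v = (v + S.rep.pA X v) + v := by
      rw [add_comm v, add_assoc, S.two, add_zero]
    show Mod.polar S.Qf _ u = 0
    rw [hd, S.polar_add', hv u hu, add_zero]
    exact R.orth_pA (by rw [map_add, S.rep.pA_pA, S.two]) hu
  let D : Subgroup G :=
    { carrier := {x | x ∈ S.J ∧ S.pr x ∈ V0}
      one_mem' := ⟨one_mem _, by rw [(S.pr_zero_iff (one_mem _)).2 (Or.inl rfl)]; exact zero_mem _⟩
      mul_mem' := fun {a b} ha hb => ⟨mul_mem ha.1 hb.1, by rw [S.pr_mul ha.1 hb.1]; exact add_mem ha.2 hb.2⟩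
      inv_mem' := fun {a} ha => ⟨inv_mem ha.1, by
        have h2 := S.pr_mul ha.1 (inv_mem ha.1)
        rw [mul_inv_cancel, (S.pr_zero_iff (one_mem _)).2 (Or.inl rfl)] at h2
        rw [← add_eq_zero_iff_neg_eq.1 h2.symm]
        exact neg_mem ha.2⟩ }
  have hDJ : D ≤ S.J := fun x hx => hx.1
  have hcent : ∀ y, y ∈ S.J ⊓ centralizer (D : Set G) ↔ y ∈ S.J ∧ S.rep.pA X (S.pr y) = 0 := by
    intro y
    constructor
    · rintro ⟨hy, hyD⟩
      refine ⟨hy, hA_of_orth _ fun u hu => ?_⟩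
      obtain ⟨d, hd, rfl⟩ := S.exists_pr u
      exact (S.polar_pr hy hd).2 (mem_centralizer_iff.1 hyD d ⟨hd, hu⟩).symm
    · rintro ⟨hy, hA⟩
      exact ⟨hy, mem_centralizer_iff.2 fun d hd => ((S.polar_pr hy hd.1).1 (R.orth_pA hA hd.2)).symm⟩
  have hzD : S.z ∈ D := ⟨S.z_mem, by rw [(S.pr_zero_iff S.z_mem).2 (Or.inr rfl)]; exact zero_mem _⟩
  have hDn : ∀ g ∈ centralizer ({S.z} : Set G), ∀ x ∈ D, g * x * g⁻¹ ∈ D := fun g hg x hx =>
    ⟨S.J_normal g hg x hx.1, by rw [← S.Φ_pr ⟨g, hg⟩ hx.1]; exact hfixg _ _ hx.2⟩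
  have hcardD : Nat.card D = 8 := by
    have := S.finite_J
    let W : Subgroup S.Vq := AddSubgroup.toSubgroup' V0
    have hW : W.index = 64 := by
      have hWc : Nat.card W = 4 := by
        rw [← R.card_V0]
        exact Nat.card_congr ⟨fun w => ⟨Additive.ofMul w.1, w.2⟩, fun w => ⟨w.1.toMul, w.2⟩,
          fun _ => rfl, fun _ => rfl⟩
      have h1 := W.index_mul_card
      have h2 : Nat.card S.Vq = 256 := S.rep.card
      rw [hWc, h2] at h1
      omega
    have hi : (W.comap S.mkq).index = 64 := by rw [Subgroup.index_comap_of_surjective _ S.mkq_surj, hW]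
    have h3 := (W.comap S.mkq).index_mul_card
    rw [hi, S.card_J] at h3
    have : Nat.card D = Nat.card (W.comap S.mkq) := Nat.card_congr
      ⟨fun x => ⟨⟨x, x.2.1⟩, by
          show Additive.ofMul (S.mkq ⟨x, x.2.1⟩) ∈ V0
          rw [← S.pr_of_mem]; exact x.2.2⟩,
        fun y => ⟨y.1, y.1.2, by rw [S.pr_of_mem y.1.2]; exact y.2⟩, fun _ => rfl, fun _ => rfl⟩
    omega
  obtain ⟨a, b, ha, hb, hab⟩ := R.exists_pair
  obtain ⟨ga, hga, rfl⟩ := S.exists_pr a
  obtain ⟨gb, hgb, rfl⟩ := S.exists_pr b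
  have hnc : ga * gb ≠ gb * ga := fun h => by
    have := (S.polar_pr hga hgb).2 h
    rw [show Mod.polar S.Qf (S.pr ga) (S.pr gb) = 1 from hab] at this
    exact one_ne_zero this
  obtain ⟨E, hE1, hE2, hE3, hE4, hE5⟩ := exists_E S.z_sq S.z_ne hzD hcardD (fun x hx => S.sq_cases hx.1)
    (fun x hx => (S.z_comm (S.J_cent hx.1)).symm) ⟨ga, ⟨hga, ha⟩, gb, ⟨hgb, hb⟩, hnc⟩ hDn
  let inv : Additive S.Vq → V6 := Function.invFun f
  have hinv : ∀ v, S.rep.pA X v = 0 → f (inv v) = v := fun v hv => Function.invFun_eq ((hfr v).1 hv)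
  have hAg : ∀ (g : centralizer ({S.z} : Set G)) v, S.rep.pA X v = 0 → S.rep.pA X (S.Φ g v) = 0 := by
    intro g v hv
    refine hA_of_orth _ fun u hu => ?_
    have e : S.Φ g (S.Φ g⁻¹ u) = u := by
      show (S.Φ g * S.Φ g⁻¹) u = u
      rw [← map_mul, mul_inv_cancel, map_one]; rfl
    rw [← e]
    simp only [Mod.polar, ← map_add, S.Φ_Q]
    have h' : Mod.polar S.Qf v (S.Φ g⁻¹ u) = 0 := R.orth_pA hv (hfixg g⁻¹ _ hu)
    simpa only [Mod.polar, S.Φ_Q] using h'
  let act : G → V6 → V6 := fun g =>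
    if hg : g ∈ centralizer ({S.z} : Set G) then fun x => inv (S.Φ ⟨g, hg⟩ (f x)) else id
  have hact : ∀ g (hg : g ∈ centralizer ({S.z} : Set G)) x, f (act g x) = S.Φ ⟨g, hg⟩ (f x) := fun g hg x => by
    simp only [act, dif_pos hg]
    exact hinv _ (hAg _ _ ((hfr _).2 ⟨x, rfl⟩))
  have hvec : ∀ y, y ∈ S.J ⊓ centralizer (D : Set G) → f (inv (S.pr y)) = S.pr y :=
    fun y hy => hinv _ ((hcent y).1 hy).2
  have hidx : ∀ g ∈ centralizer ({S.z} : Set G), Odd (orderOf g) → g ∈ S.H0 := by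
    intro g hg hodd
    let M := S.H0.subgroupOf (centralizer ({S.z} : Set G))
    have hM := M.index_mul_card
    rw [show Nat.card M = 13271040 from
      (Nat.card_congr (Subgroup.subgroupOfEquivOfLe S.H0_le).toEquiv).trans S.card_H0] at hM
    rcases S.card_H with h | h <;> rw [h] at hM
    · have : M = ⊤ := Subgroup.index_eq_one.1 (by omega)
      exact (this ▸ Subgroup.mem_top _ : (⟨g, hg⟩ : centralizer ({S.z} : Set G)) ∈ M)
    · have h2 : M.index = 2 := by omega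
      have h3 : g ^ 2 ∈ S.H0 := by
        have := Subgroup.sq_mem_of_index_two h2 (⟨g, hg⟩ : centralizer ({S.z} : Set G))
        simpa [M, Subgroup.mem_subgroupOf] using this
      obtain ⟨m, hm⟩ := hodd
      have hgg : g = (g ^ 2) ^ (m + 1) := by
        rw [← pow_mul, show 2 * (m + 1) = orderOf g + 1 by omega, pow_succ, pow_orderOf_eq_one, one_mul]
      rw [hgg]
      exact pow_mem h3 _
  refine ⟨{
    z := S.z, J := S.J, D := D, E := E, z_sq := S.z_sq, z_ne := S.z_ne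
    J_le := fun x hx => S.J_cent hx
    J_normal := S.J_normal, J_sq := fun x hx => S.sq_cases hx
    D_le := hDJ, z_mem := hzD, D_normal := hDn
    split := fun x hx => ?_
    E_le := hE1, E_normal := hE2, E_four := hE3, E_sq := hE4, E_card := hE5
    vec := fun y => inv (S.pr y)
    vec_mul := fun x hx y hy => hfi (by
      rw [hvec _ (mul_mem hx hy), map_add, hvec x hx, hvec y hy, S.pr_mul hx.1 hy.1])
    vec_surj := fun v => by
      obtain ⟨x, hx, h⟩ := S.exists_pr (f v)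
      refine ⟨x, (hcent x).2 ⟨hx, (hfr _).2 ⟨v, h.symm⟩⟩, ?_⟩
      show inv (S.pr x) = v
      rw [h]; exact Function.leftInverse_invFun hfi v
    vec_zero := fun x hx => by
      rw [← S.pr_zero_iff hx.1, ← hvec x hx, map_eq_zero_iff f hfi, hvec x hx]
    sq_iff := fun x hx => by rw [← S.Qf_pr hx.1, ← hfQ, hvec x hx]; rfl
    comm_iff := fun x hx y hy => by rw [← S.polar_pr hx.1 hy.1, ← hfB, hvec x hx, hvec y hy]; rfl
    comm_or := fun x hx y hy => S.comm_cases hx.1 hy.1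
    act := act
    act_vec := fun g hg x hx => hfi (by
      have hm : g * x * g⁻¹ ∈ S.J ⊓ centralizer (D : Set G) := (hcent _).2
        ⟨S.J_normal g hg x hx.1, by rw [← S.Φ_pr ⟨g, hg⟩ hx.1]; exact hAg _ _ ((hcent x).1 hx).2⟩
      show f (inv (S.pr (g * x * g⁻¹))) = f (act g (inv (S.pr x)))
      rw [hvec _ hm, hact g hg, hvec x hx, S.Φ_pr _ hx.1])
    act_one := ?_
    odd_cent := ?_
    rot := ?_ }, rfl, rfl⟩
  · -- split
    obtain ⟨d, hd, hdv⟩ := S.exists_pr (S.rep.pA X (S.pr x))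
    refine ⟨d, ⟨hd, by rw [hdv]; exact S.rep.pA_pA X _⟩, d⁻¹ * x, (hcent _).2
      ⟨mul_mem (inv_mem hd) hx, ?_⟩, by group⟩
    have hinvd : S.pr d⁻¹ = S.pr d := by
      have h2 := S.pr_mul hd (inv_mem hd)
      rw [mul_inv_cancel, (S.pr_zero_iff (one_mem _)).2 (Or.inl rfl)] at h2
      exact add_left_cancel (h2.symm.trans (S.two (S.pr d)).symm)
    rw [S.pr_mul (inv_mem hd) hx, hinvd, map_add, hdv, S.rep.pA_pA, S.two]
  · -- act_one
    intro g hg h
    have h6 : ∀ v, S.rep.pA X v = 0 → S.Φ ⟨g, hg⟩ v = v := fun v hv => by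
      obtain ⟨x, rfl⟩ := (hfr v).1 hv
      rw [← hact g hg, h]
    refine S.outer_faithful g hg fun k hk => ?_
    let gq : centralizer ({S.z} : Set G) := ⟨g, hg⟩
    let kq : centralizer ({S.z} : Set G) := ⟨k, S.H0_le hk⟩
    refine S.mem_J_of_Φ (g := gq * kq * gq⁻¹ * kq⁻¹) fun v => ?_
    have hk0 : ∀ q : centralizer ({S.z} : Set G), (q : G) ∈ S.H0 → ∀ u ∈ V0, S.Φ q u = u := fun q hq u hu => by
      rw [← S.rho_psi hq]; exact R.ρ_fix _ hu
    have hgk : ((gq * kq * gq⁻¹ : centralizer ({S.z} : Set G)) : G) ∈ S.H0 := S.H0_normal g hg k hk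
    have hinvg : ∀ u, S.rep.pA X u = 0 → S.Φ gq⁻¹ u = u := fun u hu => by
      conv_lhs => rw [← h6 u hu]
      show (S.Φ gq⁻¹ * S.Φ gq) u = u
      rw [← map_mul, inv_mul_cancel, map_one]; rfl
    have hkinv : ∀ u, S.Φ kq (S.Φ kq⁻¹ u) = u := fun u => by
      show (S.Φ kq * S.Φ kq⁻¹) u = u
      rw [← map_mul, mul_inv_cancel, map_one]; rfl
    have h0 : S.Φ (gq * kq * gq⁻¹ * kq⁻¹) (S.rep.pA X v) = S.rep.pA X v :=
      hk0 _ (mul_mem hgk (inv_mem hk)) _ (S.rep.pA_pA X v)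
    have h1 : S.Φ (gq * kq * gq⁻¹ * kq⁻¹) (v + S.rep.pA X v) = v + S.rep.pA X v := by
      have hw : S.rep.pA X (v + S.rep.pA X v) = 0 := by rw [map_add, S.rep.pA_pA, S.two]
      simp only [map_mul]
      show S.Φ gq (S.Φ kq (S.Φ gq⁻¹ (S.Φ kq⁻¹ _))) = _
      rw [hinvg _ (hAg _ _ hw), hkinv, h6 _ hw]
    calc S.Φ (gq * kq * gq⁻¹ * kq⁻¹) v = S.Φ (gq * kq * gq⁻¹ * kq⁻¹) ((v + S.rep.pA X v) + S.rep.pA X v) := by
          rw [add_assoc, S.two, add_zero]
      _ = v := by rw [map_add, h1, h0, add_assoc, S.two, add_zero]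
  · -- odd_cent
    intro g hg hodd
    have hg0 := hidx g hg hodd
    refine mem_centralizer_iff.2 fun d hd => ?_
    have e : S.pr (g * d * g⁻¹) = S.pr d := by
      rw [← S.Φ_pr ⟨g, hg⟩ hd.1, ← S.rho_psi hg0]
      exact R.ρ_fix _ hd.2
    rcases (S.pr_eq_iff hd.1 (S.J_normal g hg d hd.1)).1 e.symm with h | h
    · exact (mul_inv_eq_iff_eq_mul.1 h).symm
    · exfalso
      have hp : ∀ n : ℕ, g ^ n * d * (g ^ n)⁻¹ = if Even n then d else d * S.z := by
        intro n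
        induction n with
        | zero => simp
        | succ n ih =>
          rw [pow_succ', show g * g ^ n * d * (g * g ^ n)⁻¹ = g * (g ^ n * d * (g ^ n)⁻¹) * g⁻¹ by group, ih]
          by_cases hev : Even n
          · rw [if_pos hev, if_neg (fun h' => (Nat.even_add_one.1 h') hev), h]
          · rw [if_neg hev, if_pos (Nat.even_add_one.2 hev),
              show g * (d * S.z) * g⁻¹ = g * d * g⁻¹ * (g * S.z * g⁻¹) by group, h, S.z_comm hg]
            simp [mul_assoc, S.z_sq]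
      have := hp (orderOf g)
      rw [pow_orderOf_eq_one, if_neg (Nat.not_even_iff_odd.2 hodd), one_mul, inv_one, mul_one] at this
      exact S.z_ne (mul_eq_left.1 this.symm)
  · -- rot
    intro p p' hp hp' hpp
    let φ : SU 4 F 2 → V6 → V6 := fun s x => inv (S.rho s (f x))
    have hA : ∀ s x, S.rep.pA X (S.rho s (f x)) = 0 := fun s x => hAg _ _ ((hfr _).2 ⟨x, rfl⟩)
    have hφ : ∀ s x, f (φ s x) = S.rho s (f x) := fun s x => hinv _ (hA s x)
    obtain ⟨s, hs1, hs2, hs3, hs4⟩ := Red.rot_of_action S.hF φ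
      (fun s v w => hfi (by rw [hφ, map_add, map_add, map_add, hφ, hφ]))
      (fun s v => by rw [← hfQ, ← hfQ, hφ]; exact S.rep.inv s _)
      (fun s t v => hfi (by rw [hφ, hφ, hφ]; exact S.rep.ρ_mul s t _))
      (fun s h => S.rep.faithful s fun v => by
        have h' : ∀ x, S.rho s (f x) = f x := fun x => by rw [← hφ, h]
        obtain ⟨x, hx⟩ := (hfr (v + S.rep.pA X v)).1 (by rw [map_add, S.rep.pA_pA, S.two])
        have hv : v = f x + S.rep.pA X v := by rw [hx, add_assoc, S.two, add_zero]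
        show S.rho s v = v
        rw [hv, map_add, h']
        exact congrArg (_ + ·) (R.ρ_fix s (S.rep.pA_pA X v)))
      p p' hp hp' hpp
    -- a lift of odd order
    let g0 : S.H0 := ⟨S.sec s, S.sec_mem s⟩
    obtain ⟨k, o, ho, hn⟩ := Nat.exists_eq_two_pow_mul_odd (orderOf_pos g0).ne'
    have hdvd : orderOf s ∣ o := by
      have h1 : orderOf s ∣ 2 ^ k * o := by rw [← hn, ← S.psi_sec s]; exact orderOf_map_dvd _ _
      exact (Nat.Coprime.pow_right k (Nat.coprime_two_right.2 hs1)).dvd_of_dvd_mul_left h1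
    obtain ⟨e, he1, he2⟩ := Nat.chineseRemainder (Nat.Coprime.pow_right k (Nat.coprime_two_right.2 hs1)) 1 0
    have hpow : ((g0 ^ e : S.H0) : G) ^ o = 1 := by
      have : g0 ^ (e * o) = 1 := orderOf_dvd_iff_pow_eq_one.1
        (hn ▸ Nat.mul_dvd_mul_right (Nat.modEq_zero_iff_dvd.1 he2) o)
      rw [← Subgroup.coe_pow, ← pow_mul, this]
      rfl
    have hpsi : S.psi (g0 ^ e) = s := by
      rw [map_pow, S.psi_sec]
      exact (pow_eq_pow_iff_modEq.2 he1).trans (pow_one s)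
    have hcg : ((g0 ^ e : S.H0) : G) ∈ centralizer ({S.z} : Set G) := S.H0_le (g0 ^ e).2
    refine ⟨(g0 ^ e : S.H0), hcg, Odd.of_dvd_nat ho (orderOf_dvd_of_pow_eq_one hpow), ?_⟩
    have hag : ∀ x, act ((g0 ^ e : S.H0) : G) x = φ s x := fun x => hfi (by
      rw [hact _ hcg, hφ, ← S.rho_psi (g0 ^ e).2, Subtype.coe_eta, hpsi])
    refine ⟨by rw [hag, hs2], by rw [hag, hs3], fun x h1 h2 => by rw [hag, hs4 x h1 h2]⟩

theorem redData [Finite G] {X : Mod.Gens F} (R : Mod.RedCase S.rep X) : ∃ D : RedData G, D.z = S.z :=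
  let ⟨D, h, _⟩ := S.redData' R
  ⟨D, h⟩

theorem natData [Finite G] {X : Mod.Gens F} (N : Mod.NatCase S.rep X) : ∃ D : NatData G F, D.z = S.z :=
  let ⟨D, h, _⟩ := S.natData' N
  ⟨D, h⟩

/-- The natural module or the orthogonal one. -/
theorem dichotomy [Finite G] (S : CentSetup G F) :
    (∃ N : NatData G F, N.z = S.z) ∨ ∃ R : RedData G, R.z = S.z := by
  obtain ⟨X⟩ := Mod.exists_gens S.hF
  rcases S.rep.cases_of_dichotomy X with h | h
  · exact Or.inl (S.natData h)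
  · exact Or.inr (S.redData h)

/-- The dichotomy, with the subgroups. -/
theorem dichotomy' [Finite G] (S : CentSetup G F) :
    (∃ N : NatData G F, N.z = S.z ∧ N.J = S.J ∧ N.H0 = S.H0) ∨ ∃ R : RedData G, R.z = S.z ∧ R.J = S.J := by
  obtain ⟨X⟩ := Mod.exists_gens S.hF
  rcases S.rep.cases_of_dichotomy X with h | h
  · exact Or.inl (S.natData' h)
  · exact Or.inr (S.redData' h)

end CentSetup

end CfsgLib.Recog.U6Cent
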