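import Cfsg.Prelude.Def_Classical
import Cfsg.Prelude.Def_Involutions
import Mathlib

/-!
An involution `z` with `O₂(C(z)) = J` extraspecial of order `2⁹` on whose quotient `U₄(2)` acts as on the natural
four-dimensional unitary module: coordinates, the class of `z` in `C(z)`, and the conditions on the class which
lead to `PSU₆(2)`.
-/

set_option autoImplicit false

namespace CfsgLib.Recog.U6Cent

open Subgroup Cfsg

variable {G : Type*} [Group G]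

/-- The transvection with centre `v`. -/
def transvec {F : Type*} [Field F] (v x : Fin 4 → F) : Fin 4 → F := x + hermForm 4 F 2 x v • v

/-- Coordinates for the natural case; `H0` is `C(z)` or its subgroup of index two with quotient `U₄(2)`. -/
structure NatData (G : Type*) [Group G] (F : Type*) [Field F] [Fintype F] where
  hF : Fintype.card F = 4
  z : G
  J : Subgroup G
  H0 : Subgroup G
  z_sq : z * z = 1
  z_ne : z ≠ 1
  z_mem : z ∈ J
  J_le : J ≤ H0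
  H0_le : H0 ≤ centralizer ({z} : Set G)
  J_normal : ∀ g ∈ centralizer ({z} : Set G), ∀ x ∈ J, g * x * g⁻¹ ∈ J
  H0_normal : ∀ g ∈ centralizer ({z} : Set G), ∀ x ∈ H0, g * x * g⁻¹ ∈ H0
  card_J : Nat.card J = 512
  card_H0 : Nat.card H0 = 13271040
  card_H : Nat.card (centralizer ({z} : Set G)) = 13271040 ∨
    Nat.card (centralizer ({z} : Set G)) = 26542080
  /-- Coordinates on `J` modulo `⟨z⟩`. -/
  vec : G → Fin 4 → F
  vec_mul : ∀ x ∈ J, ∀ y ∈ J, vec (x * y) = vec x + vec y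
  vec_surj : ∀ v, ∃ x ∈ J, vec x = v
  vec_zero : ∀ x ∈ J, vec x = 0 ↔ x = 1 ∨ x = z
  sq_iff : ∀ x ∈ J, x * x = 1 ↔ hermForm 4 F 2 (vec x) (vec x) = 0
  sq_or : ∀ x ∈ J, x * x = 1 ∨ x * x = z
  comm_iff : ∀ x ∈ J, ∀ y ∈ J,
    x * y = y * x ↔ hermForm 4 F 2 (vec x) (vec y) + hermForm 4 F 2 (vec x) (vec y) ^ 2 = 0
  comm_or : ∀ x ∈ J, ∀ y ∈ J, x * y = y * x ∨ x * y = y * x * z
  /-- The action of `C(z)`. -/
  act : G → (Fin 4 → F) → Fin 4 → F
  act_vec : ∀ g ∈ centralizer ({z} : Set G), ∀ x ∈ J, vec (g * x * g⁻¹) = act g (vec x)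
  act_one : ∀ g ∈ centralizer ({z} : Set G), (∀ v, act g v = v) ↔ g ∈ J
  act_inner : ∀ g ∈ H0, ∃ M : SU 4 F 2, ∀ v, act g v = Matrix.mulVec (slToMat 4 F M) v
  act_surj : ∀ M : SU 4 F 2, ∃ g ∈ H0, ∀ v, act g v = Matrix.mulVec (slToMat 4 F M) v
  act_outer : ∀ g ∈ centralizer ({z} : Set G), g ∉ H0 → ∀ (k : F) v, act g (k • v) = k ^ 2 • act g v
  act_form : ∀ g ∈ centralizer ({z} : Set G), g ∉ H0 → ∀ v w,
    hermForm 4 F 2 (act g v) (act g w) = hermForm 4 F 2 v w ^ 2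

namespace NatData

variable {F : Type*} [Field F] [Fintype F] (N : NatData G F)

/-- The other conjugates of `z` in its centralizer. -/
def dset : Set G := {t | IsConj N.z t ∧ t * N.z = N.z * t ∧ t ≠ N.z}

/-- `dset` is one orbit of 180 lifts of transvections. -/
structure Orbit : Prop where
  nonempty : N.dset.Nonempty
  inner : ∀ t ∈ N.dset, t ∈ N.H0
  transv : ∀ t ∈ N.dset, ∃ v : Fin 4 → F, v ≠ 0 ∧ hermForm 4 F 2 v v = 0 ∧
    ∀ x, N.act t x = transvec v x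
  cover : ∀ v : Fin 4 → F, v ≠ 0 → hermForm 4 F 2 v v = 0 →
    {t | t ∈ N.dset ∧ ∀ x, N.act t x = transvec v x}.ncard = 4
  exclusive : ∀ t ∈ N.dset, ¬ IsConj N.z (t * N.z)
  cent : ∀ t ∈ N.dset, ∀ v : Fin 4 → F, (∀ x, N.act t x = transvec v x) →
    ∀ x ∈ N.J, x * t = t * x ↔ hermForm 4 F 2 (N.vec x) v = 0
  trans : ∀ t ∈ N.dset, ∀ t' ∈ N.dset, ∃ g ∈ N.H0, g * t * g⁻¹ = t'

end NatData

/-- The members other than `a` commuting with `a`. -/
def nbrs (D : Set G) (a : G) : Set G := {b | b ∈ D ∧ b ≠ a ∧ Commute a b}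

/-- A class of involutions with the graph of the transvections of `PSU₆(2)` around each member. -/
structure Base (D : Set G) (P : Type*) (col : P → P → Prop) (f : G → G → P) : Prop where
  nonempty : D.Nonempty
  invol : ∀ a ∈ D, orderOf a = 2
  isClass : ∀ a ∈ D, D = {y | IsConj a y}
  col_irrefl : ∀ p, ¬ col p p
  col_symm : ∀ p q, col p q → col q p
  card_points : Nat.card P = 45
  degree : ∀ p, {q | col p q}.ncard = 12
  perp : ∀ p q, p ≠ q → ¬ col p q → {r | col p r ∧ col q r}.ncard = 3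
  perp_col : ∀ p q, col p q → {r | col p r ∧ col q r}.ncard = 3
  conn : ∀ S : Set P, S.Nonempty → (∀ p ∈ S, ∀ q, col p q → q ∈ S) → S = Set.univ
  fibre_card : ∀ a ∈ D, ∀ p, {b | b ∈ nbrs D a ∧ f a b = p}.ncard = 4
  comm : ∀ a ∈ D, ∀ b ∈ nbrs D a, ∀ c ∈ nbrs D a, (Commute b c ↔ f a b = f a c ∨ col (f a b) (f a c))
  braid : ∀ a ∈ D, ∀ b ∈ nbrs D a, ∀ c ∈ nbrs D a, ¬ Commute b c → (b * c) ^ 3 = 1
  line_prod : ∀ a ∈ D, ∀ b ∈ nbrs D a, ∀ c ∈ nbrs D a, ∀ d ∈ nbrs D a, ∀ e ∈ nbrs D a,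
    f a c = f a b → f a d = f a b → f a e = f a b → b ≠ c → b ≠ d → b ≠ e → c ≠ d → c ≠ e → d ≠ e →
    a * b * c * d * e = 1
  gen_card : ∀ a ∈ D, Nat.card (closure (nbrs D a)) = 13271040
  cent_card : ∀ a ∈ D, Nat.card (centralizer ({a} : Set G)) = 13271040 ∨
    Nat.card (centralizer ({a} : Set G)) = 26542080
  cent_two : ∀ a ∈ D, ∀ N : Subgroup G, N ≤ centralizer ({a} : Set G) → IsPGroup 2 N → N ≠ ⊥ →
    (∀ g ∈ closure (nbrs D a), ∀ n ∈ N, g * n * g⁻¹ ∈ N) → a ∈ N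
  cent_odd : ∀ a ∈ D, ∀ N : Subgroup G, N ≤ centralizer ({a} : Set G) → Odd (Nat.card N) →
    (∀ g ∈ closure (nbrs D a), ∀ n ∈ N, g * n * g⁻¹ ∈ N) → N = ⊥
  pair_odd : ∀ a ∈ D, ∀ b ∈ nbrs D a, ∀ N : Subgroup G,
    N ≤ centralizer ({a} : Set G) ⊓ centralizer ({b} : Set G) → Odd (Nat.card N) →
    (∀ g ∈ centralizer ({a} : Set G) ⊓ centralizer ({b} : Set G), ∀ n ∈ N, g * n * g⁻¹ ∈ N) → N = ⊥
  cent_center : ∀ a ∈ D, ∀ x ∈ centralizer ({a} : Set G),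
    (∀ b ∈ nbrs D a, Commute x b) → x = 1 ∨ x = a

end CfsgLib.Recog.U6Cent
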