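import Cfsg.Agent.Lib.Recog.U6Cent.Pts
import Cfsg.Agent.Lib.Classical.SUCenter
import Cfsg.Agent.Lib.Classical.UnitaryGen

/-!
The action of `C(z)` in coordinates.
-/

set_option autoImplicit false

namespace CfsgLib.Recog.U6Cent

open Subgroup Cfsg
open scoped Matrix

variable {G : Type*} [Group G] {F : Type*} [Field F] [Fintype F]

namespace NatData

variable (N : NatData G F)

theorem J_cent {x : G} (hx : x ∈ N.J) : x ∈ centralizer ({N.z} : Set G) := N.H0_le (N.J_le hx)

theorem J_z {x : G} (hx : x ∈ N.J) : x * N.z = N.z * x := mem_centralizer_singleton_iff.1 (N.J_cent hx)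

theorem z_cent : N.z ∈ centralizer ({N.z} : Set G) := mem_centralizer_singleton_iff.2 rfl

theorem z_inv : N.z⁻¹ = N.z := inv_eq_of_mul_eq_one_right N.z_sq

theorem vec_one : N.vec 1 = 0 := (N.vec_zero 1 (one_mem _)).2 (Or.inl rfl)

theorem vec_z : N.vec N.z = 0 := (N.vec_zero _ N.z_mem).2 (Or.inr rfl)

theorem vec_inv {x : G} (hx : x ∈ N.J) : N.vec x⁻¹ = N.vec x := by
  have h := N.vec_mul x hx x⁻¹ (inv_mem hx)
  rw [mul_inv_cancel, N.vec_one] at h
  have h2 : N.vec x + N.vec x = 0 := funext fun i => f4_add_self N.hF _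
  exact (add_left_cancel (h2.trans h)).symm

theorem act_mul {g h : G} (hg : g ∈ centralizer ({N.z} : Set G)) (hh : h ∈ centralizer ({N.z} : Set G))
    (v : Fin 4 → F) : N.act (g * h) v = N.act g (N.act h v) := by
  obtain ⟨x, hx, rfl⟩ := N.vec_surj v
  rw [← N.act_vec _ (mul_mem hg hh) x hx, ← N.act_vec h hh x hx,
    ← N.act_vec g hg _ (N.J_normal h hh x hx)]
  congr 1
  group

theorem act_one_elt (v : Fin 4 → F) : N.act 1 v = v := (N.act_one 1 (one_mem _)).2 (one_mem _) v

theorem act_J {x : G} (hx : x ∈ N.J) (v : Fin 4 → F) : N.act x v = v :=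
  (N.act_one x (N.J_cent hx)).2 hx v

theorem act_add {g : G} (hg : g ∈ centralizer ({N.z} : Set G)) (v w : Fin 4 → F) :
    N.act g (v + w) = N.act g v + N.act g w := by
  obtain ⟨x, hx, rfl⟩ := N.vec_surj v
  obtain ⟨y, hy, rfl⟩ := N.vec_surj w
  rw [← N.vec_mul x hx y hy, ← N.act_vec g hg _ (mul_mem hx hy), ← N.act_vec g hg x hx,
    ← N.act_vec g hg y hy, ← N.vec_mul _ (N.J_normal g hg x hx) _ (N.J_normal g hg y hy)]
  congr 1
  group

theorem act_zero {g : G} (hg : g ∈ centralizer ({N.z} : Set G)) : N.act g 0 = 0 := by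
  have h := N.act_add hg 0 0
  rw [add_zero] at h
  simpa using h

theorem act_inv_act {g : G} (hg : g ∈ centralizer ({N.z} : Set G)) (v : Fin 4 → F) :
    N.act g (N.act g⁻¹ v) = v := by
  rw [← N.act_mul hg (inv_mem hg), mul_inv_cancel, N.act_one_elt]

theorem act_act_inv {g : G} (hg : g ∈ centralizer ({N.z} : Set G)) (v : Fin 4 → F) :
    N.act g⁻¹ (N.act g v) = v := by
  rw [← N.act_mul (inv_mem hg) hg, inv_mul_cancel, N.act_one_elt]

theorem act_smul {g : G} (hg : g ∈ N.H0) (k : F) (v : Fin 4 → F) : N.act g (k • v) = k • N.act g v := by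
  obtain ⟨M, hM⟩ := N.act_inner g hg
  rw [hM, hM, Matrix.mulVec_smul]

theorem act_herm {g : G} (hg : g ∈ N.H0) (v w : Fin 4 → F) :
    hermForm 4 F 2 (N.act g v) (N.act g w) = hermForm 4 F 2 v w := by
  obtain ⟨M, hM⟩ := N.act_inner g hg
  rw [hM, hM]
  exact M.2 v w

/-- `C(z)` maps transvections to transvections. -/
theorem act_transvec {g : G} (hg : g ∈ centralizer ({N.z} : Set G)) (v x : Fin 4 → F) :
    N.act g (transvec v x) = transvec (N.act g v) (N.act g x) := by
  unfold transvec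
  rw [N.act_add hg]
  by_cases h0 : g ∈ N.H0
  · rw [N.act_smul h0, N.act_herm h0]
  · rw [N.act_outer g hg h0, N.act_form g hg h0]

theorem act_orth {g : G} (hg : g ∈ centralizer ({N.z} : Set G)) (v w : Fin 4 → F) :
    hermForm 4 F 2 (N.act g v) (N.act g w) = 0 ↔ hermForm 4 F 2 v w = 0 := by
  by_cases h0 : g ∈ N.H0
  · rw [N.act_herm h0]
  · rw [N.act_form g hg h0]
    exact ⟨fun h => pow_eq_zero_iff two_ne_zero |>.1 h, fun h => by rw [h, zero_pow two_ne_zero]⟩

theorem act_inj {g : G} (hg : g ∈ centralizer ({N.z} : Set G)) {v w : Fin 4 → F}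
    (h : N.act g v = N.act g w) : v = w := by
  rw [← N.act_act_inv hg v, h, N.act_act_inv hg]

theorem act_ne_zero {g : G} (hg : g ∈ centralizer ({N.z} : Set G)) {v : Fin 4 → F} (hv : v ≠ 0) :
    N.act g v ≠ 0 := fun h => hv (N.act_inj hg (h.trans (N.act_zero hg).symm))

/-- The action of a conjugate. -/
theorem act_conj_transvec {g t : G} (hg : g ∈ centralizer ({N.z} : Set G))
    (ht : t ∈ centralizer ({N.z} : Set G)) {v : Fin 4 → F} (h : ∀ x, N.act t x = transvec v x)
    (x : Fin 4 → F) : N.act (g * t * g⁻¹) x = transvec (N.act g v) x := by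
  rw [N.act_mul (mul_mem hg ht) (inv_mem hg), N.act_mul hg ht, h, N.act_transvec hg, N.act_inv_act hg]

omit [Fintype F] in
theorem su_ext {M M' : SU 4 F 2}
    (h : ∀ v : Fin 4 → F, slToMat 4 F M *ᵥ v = slToMat 4 F M' *ᵥ v) : M = M' :=
  Subtype.ext (Subtype.ext (Matrix.mulVec_injective (funext h)))

/-- The homomorphism to `SU₄(2)`. -/
noncomputable def rho : N.H0 →* SU 4 F 2 where
  toFun g := (N.act_inner g g.2).choose
  map_one' := su_ext fun v => by
    refine ((N.act_inner _ (1 : N.H0).2).choose_spec v).symm.trans ?_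
    show N.act 1 v = _
    rw [N.act_one_elt]
    simp
  map_mul' g h := su_ext fun v => by
    refine ((N.act_inner _ (g * h).2).choose_spec v).symm.trans ?_
    show N.act ((g : G) * h) v = _
    rw [N.act_mul (N.H0_le g.2) (N.H0_le h.2), (N.act_inner g g.2).choose_spec,
      (N.act_inner h h.2).choose_spec]
    simp [Matrix.mulVec_mulVec]

theorem rho_spec (g : N.H0) (v : Fin 4 → F) : N.act g v = slToMat 4 F (N.rho g) *ᵥ v :=
  (N.act_inner g g.2).choose_spec v

theorem rho_surj : Function.Surjective N.rho := fun M => by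
  obtain ⟨g, hg, h⟩ := N.act_surj M
  exact ⟨⟨g, hg⟩, su_ext fun v => by rw [← h v, ← N.rho_spec]⟩

theorem rho_ker (g : N.H0) : N.rho g = 1 ↔ (g : G) ∈ N.J := by
  rw [← N.act_one g (N.H0_le g.2)]
  constructor
  · intro h v
    rw [N.rho_spec, h]
    simp
  · intro h
    refine su_ext fun v => ?_
    rw [← N.rho_spec, h]
    simp

/-- A subgroup containing `J` normalised by `H0` and larger than `J` is all of `H0`. -/
theorem H0_max (K : Subgroup G) (hJK : N.J ≤ K) (hK : K ≤ N.H0)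
    (hn : ∀ g ∈ N.H0, ∀ x ∈ K, g * x * g⁻¹ ∈ K) (hne : ¬ K ≤ N.J) : K = N.H0 := by
  haveI : IsSimpleGroup (SU 4 F 2) := by
    have hF' : Fintype.card F = 2 ^ 2 := N.hF
    haveI := CfsgLib.Classical.isSimpleGroup_psu hF' (n := 4) (by norm_num) (by norm_num)
    have hc : center (SU 4 F 2) = ⊥ := by
      rw [← card_eq_one, CfsgLib.Classical.card_center_su hF' (by norm_num)]
      rfl
    exact ((QuotientGroup.quotientMulEquivOfEq hc).trans QuotientGroup.quotientBot).symm.isSimpleGroup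
  let K' : Subgroup N.H0 := K.subgroupOf N.H0
  haveI : K'.Normal := ⟨fun x hx g => hn g g.2 x hx⟩
  have hnorm : (K'.map N.rho).Normal := Subgroup.Normal.map inferInstance _ N.rho_surj
  rcases hnorm.eq_bot_or_eq_top with h | h
  · exfalso
    refine hne fun x hx => (N.rho_ker ⟨x, hK hx⟩).1 ?_
    have : N.rho ⟨x, hK hx⟩ ∈ K'.map N.rho := mem_map_of_mem _ hx
    rwa [h, mem_bot] at this
  · refine le_antisymm hK fun x hx => ?_
    obtain ⟨k, hk, e⟩ := (h ▸ mem_top (N.rho ⟨x, hx⟩) : N.rho ⟨x, hx⟩ ∈ K'.map N.rho)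
    have h1 : N.rho (k⁻¹ * ⟨x, hx⟩) = 1 := by rw [map_mul, map_inv, e, inv_mul_cancel]
    have := mul_mem (mem_subgroupOf.1 hk) (hJK ((N.rho_ker _).1 h1))
    simpa using this

end NatData

end CfsgLib.Recog.U6Cent
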