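import Cfsg.Agent.Lib.Recog.U6Cent.Setup
import Cfsg.Agent.Lib.PLocal.LargeExtra
import Cfsg.Agent.Lib.Classical.SUCenter
import Cfsg.Agent.Lib.Classical.HermOrder

/-!
`CentSetup` from `O₂(C(z))` and a map of `C(z)` onto a group with a subgroup `≅ SU₄(2)` of index at most two.
-/

set_option autoImplicit false

namespace CfsgLib.Recog.U6Cent

open Subgroup Cfsg

variable {G : Type*} [Group G] [Finite G] {F : Type*} [Field F] [Fintype F]

theorem card_su_four (hF : Fintype.card F = 4) : Nat.card (SU 4 F 2) = 25920 := by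
  have hF' : Fintype.card F = 2 ^ 2 := hF
  have h := CfsgLib.Classical.card_su_mul hF' (n := 4) (by norm_num)
  rw [CfsgLib.Classical.card_gu hF'] at h
  simp [Finset.prod_range_succ, Nat.even_iff] at h
  omega

theorem nonempty_psu_four (hF : Fintype.card F = 4) : Nonempty (PSU 4 F 2 ≃* SU 4 F 2) := by
  have hF' : Fintype.card F = 2 ^ 2 := hF
  have hc : center (SU 4 F 2) = ⊥ := by
    rw [← card_eq_one, CfsgLib.Classical.card_center_su hF' (by norm_num)]
    rfl
  exact ⟨(QuotientGroup.quotientMulEquivOfEq hc).trans QuotientGroup.quotientBot⟩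

theorem exists_setup (hF : Fintype.card F = 4) (z : G) (hz : orderOf z = 2)
    (H : Subgroup G) (hH : H = centralizer ({z} : Set G))
    (hJ : IsExtraspecial 2 (pCore 2 H))
    (hJc : Nat.card (pCore 2 H) = 2 ^ 9)
    (hCJ : centralizer (pCore 2 H : Set H) ≤
      pCore 2 H)
    {Q : Type*} [Group Q] (q : H →* Q) (hq : Function.Surjective q)
    (hker : q.ker = pCore 2 H) (N0 : Subgroup Q) [N0.Normal]
    (ι : N0 ≃* SU 4 F 2) (hidx : N0.index = 1 ∨ N0.index = 2)
    (hfaith : ∀ a, (∀ b ∈ N0, a * b = b * a) → a = 1) :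
    ∃ S : CentSetup G F, S.z = z ∧
      Nat.card (centralizer ({z} : Set G)) = N0.index * 13271040 := by
  have hzz : z * z = 1 := by rw [← pow_two, ← hz, pow_orderOf_eq_one]
  have hzH : z ∈ H := hH ▸ mem_centralizer_singleton_iff.2 rfl
  have hzJ : (⟨z, hzH⟩ : H) ∈ pCore 2 H := hCJ <| mem_centralizer_iff.2 fun y _ =>
    Subtype.ext (mem_centralizer_singleton_iff.1 (hH ▸ y.2))
  let J : Subgroup G := (pCore 2 H).map H.subtype
  let H0 : Subgroup G := (N0.comap q).map H.subtype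
  have hmemJ : ∀ (x : G) (hx : x ∈ H), x ∈ J ↔ q ⟨x, hx⟩ = 1 := fun x hx => by
    rw [← MonoidHom.mem_ker, hker]
    exact mem_map_iff_mem H.subtype_injective (x := (⟨x, hx⟩ : H))
  have hmem0 : ∀ (x : G) (hx : x ∈ H), x ∈ H0 ↔ q ⟨x, hx⟩ ∈ N0 := fun x hx =>
    mem_map_iff_mem H.subtype_injective (x := (⟨x, hx⟩ : H))
  have hJH : J ≤ H := map_subtype_le _
  have h0H : H0 ≤ H := map_subtype_le _
  let ψ : H0 →* SU 4 F 2 := ι.toMonoidHom.comp
    ((q.comp (inclusion h0H)).codRestrict N0 fun g => (hmem0 g (h0H g.2)).1 g.2)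
  have ψ_ker : ∀ g : H0, ψ g = 1 ↔ (g : G) ∈ J := fun g => by
    rw [hmemJ _ (h0H g.2)]
    simp only [ψ, MonoidHom.comp_apply, MulEquiv.coe_toMonoidHom, map_eq_one_iff ι ι.injective]
    exact Subtype.ext_iff
  have ψ_surj : Function.Surjective ψ := fun s => by
    obtain ⟨⟨x, hx⟩, e⟩ := hq (ι.symm s : Q)
    refine ⟨⟨x, (hmem0 x hx).2 (e ▸ (ι.symm s).2)⟩, ?_⟩
    simp only [ψ, MonoidHom.comp_apply, MulEquiv.coe_toMonoidHom]
    rw [← ι.eq_symm_apply]
    exact Subtype.ext e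
  have cardJ : Nat.card J = 512 := by
    rw [← Nat.card_congr ((pCore 2 H).equivMapOfInjective H.subtype H.subtype_injective).toEquiv, hJc]
    norm_num
  have cardN : Nat.card N0 = 25920 := by rw [Nat.card_congr ι.toEquiv, card_su_four hF]
  have cardH : Nat.card H = N0.index * 13271040 := by
    have h := card_eq_card_quotient_mul_card_subgroup q.ker
    rw [Nat.card_congr (QuotientGroup.quotientKerEquivOfSurjective q hq).toEquiv, hker, hJc,
      ← N0.index_mul_card, cardN] at h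
    rw [h]; ring
  have cardH0 : Nat.card H0 = 13271040 := by
    have h := card_eq_card_quotient_mul_card_subgroup ψ.ker
    rw [Nat.card_congr (QuotientGroup.quotientKerEquivOfSurjective ψ ψ_surj).toEquiv, card_su_four hF,
      show ψ.ker = J.subgroupOf H0 from Subgroup.ext fun g => by
        rw [MonoidHom.mem_ker, mem_subgroupOf]; exact ψ_ker g,
      Nat.card_congr (subgroupOfEquivOfLe (show J ≤ H0 from fun x hx =>
        (hmem0 x (hJH hx)).2 ((hmemJ x (hJH hx)).1 hx ▸ one_mem _))).toEquiv, cardJ] at h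
    rw [h]
  refine ⟨{
    hF := hF, z := z, J := J, H0 := H0, z_sq := hzz
    z_ne := fun e => by rw [e, orderOf_one] at hz; norm_num at hz
    z_mem := mem_map_of_mem H.subtype hzJ
    J_le := fun x hx => (hmem0 x (hJH hx)).2 ((hmemJ x (hJH hx)).1 hx ▸ one_mem _)
    H0_le := hH ▸ h0H
    J_normal := fun g hg x hx => by
      rw [← hH] at hg
      have hxH := hJH hx
      rw [hmemJ _ (mul_mem (mul_mem hg hxH) (inv_mem hg))]
      rw [hmemJ _ hxH] at hx
      rw [show (⟨g * x * g⁻¹, mul_mem (mul_mem hg hxH) (inv_mem hg)⟩ : H) =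
        ⟨g, hg⟩ * ⟨x, hxH⟩ * ⟨g, hg⟩⁻¹ from rfl, map_mul, map_mul, map_inv, hx, mul_one, mul_inv_cancel]
    H0_normal := fun g hg x hx => by
      rw [← hH] at hg
      have hxH := h0H hx
      rw [hmem0 _ (mul_mem (mul_mem hg hxH) (inv_mem hg))]
      rw [hmem0 _ hxH] at hx
      rw [show (⟨g * x * g⁻¹, mul_mem (mul_mem hg hxH) (inv_mem hg)⟩ : H) =
        ⟨g, hg⟩ * ⟨x, hxH⟩ * ⟨g, hg⟩⁻¹ from rfl, map_mul, map_mul, map_inv]
      exact Normal.conj_mem inferInstance _ hx _
    card_J := cardJ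
    card_H0 := cardH0
    card_H := by rcases hidx with h | h <;> simp [← hH, cardH, h]
    J_extra := CfsgLib.PLocal.LargeExtra.isExtraspecial_equiv
      ((pCore 2 H).equivMapOfInjective H.subtype H.subtype_injective) hJ
    self_cent := fun x hx => by
      have hxH : x ∈ H := hH ▸ (mem_inf.1 hx).1
      refine mem_map_of_mem H.subtype (x := (⟨x, hxH⟩ : H)) (hCJ ?_)
      exact mem_centralizer_iff.2 fun y hy =>
        Subtype.ext (mem_centralizer_iff.1 (mem_inf.1 hx).2 y (mem_map_of_mem H.subtype hy))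
    psi := ψ, psi_surj := ψ_surj, psi_ker := ψ_ker
    outer_faithful := fun g hg h => by
      rw [← hH] at hg
      rw [hmemJ g hg]
      refine hfaith _ fun b hb => ?_
      obtain ⟨⟨x, hx⟩, rfl⟩ := hq b
      have := (hmemJ _ (mul_mem (mul_mem (mul_mem hg hx) (inv_mem hg)) (inv_mem hx))).1
        (h x ((hmem0 x hx).2 hb))
      rw [show (⟨g * x * g⁻¹ * x⁻¹, _⟩ : H) = ⟨g, hg⟩ * ⟨x, hx⟩ * ⟨g, hg⟩⁻¹ * ⟨x, hx⟩⁻¹ from rfl,
        map_mul, map_mul, map_mul, map_inv, map_inv, mul_inv_eq_one, mul_inv_eq_iff_eq_mul] at this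
      exact this }, rfl, hH ▸ cardH⟩

end CfsgLib.Recog.U6Cent
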