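import Cfsg.Agent.Lib.Recog.U6Cent.NatFibre

/-!
Geometry of the four-dimensional Hermitian space over four elements used to find the classes of
involutions outside the normal extraspecial subgroup: isotropic vectors, transvections, bounds for
the semilinear isometries fixing a large set.
-/

set_option autoImplicit false
set_option linter.unusedSectionVars false

namespace CfsgLib.Recog.U6Cent

open Subgroup Cfsg
open scoped Matrix

variable {G : Type*} [Group G] {F : Type*} [Field F] [Fintype F] (hF : Fintype.card F = 4)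
include hF

theorem vadd_self (v : Fin 4 → F) : v + v = 0 := funext fun _ => f4_add_self hF _

theorem vadd_cancel (v w : Fin 4 → F) : v + (v + w) = w := by rw [← add_assoc, vadd_self hF, zero_add]

theorem v_eq_of_add_zero {v w : Fin 4 → F} (h : v + w = 0) : v = w := by
  have := congrArg (· + w) h
  simp only [add_assoc, vadd_self hF, add_zero, zero_add] at this
  exact this

theorem f4_eq_of_add_zero {a b : F} (h : a + b = 0) : a = b := by
  have := congrArg (· + b) h
  simp only [add_assoc, f4_add_self hF, add_zero, zero_add] at this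
  exact this

omit [Fintype F] hF in
theorem f4_bool {c : F} (h : c ^ 2 = c) : c = 0 ∨ c = 1 := by
  by_cases hc : c = 0
  · exact Or.inl hc
  · exact Or.inr (mul_left_cancel₀ hc (by rw [← pow_two, h, mul_one]))

theorem f4_cube {k : F} (hk : k ≠ 0) : k * k ^ 2 = 1 :=
  mul_left_cancel₀ hk (by rw [mul_one]; exact (by ring : k * (k * k ^ 2) = k ^ 4).trans (f4_pow hF k))

omit hF [Fintype F] in
theorem herm_zero_right (u : Fin 4 → F) : hermForm 4 F 2 u 0 = 0 := by simp [hermForm]

/-- The values `h(v, v)` are `0` and `1`. -/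
theorem herm_self_cases (v : Fin 4 → F) : hermForm 4 F 2 v v = 0 ∨ hermForm 4 F 2 v v = 1 :=
  f4_bool (herm_swap hF v v).symm

/-- A trace form with all values zero comes from zero. -/
theorem eq_zero_of_trace {c : F} (h : ∀ k : F, k * c + (k * c) ^ 2 = 0) : c = 0 := by
  by_contra hc
  obtain ⟨a, ha⟩ := exists_trace_one hF
  have := h (a / c)
  rw [div_mul_cancel₀ _ hc, ha] at this
  exact one_ne_zero this

/-- A vector orthogonal to everything is zero. -/
theorem eq_zero_of_herm {v : Fin 4 → F} (h : ∀ x, hermForm 4 F 2 x v = 0) : v = 0 := by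
  by_contra hv
  obtain ⟨x, hx⟩ := exists_pairing hv (1 : F)
  rw [h x] at hx
  exact zero_ne_one hx

/-- A vector orthogonal to all vectors orthogonal to `v` is a multiple of `v`. -/
theorem mem_line {v w : Fin 4 → F} (hv : v ≠ 0)
    (h : ∀ x, hermForm 4 F 2 x v = 0 → hermForm 4 F 2 x w = 0) : ∃ k : F, w = k • v := by
  by_contra hne
  push Not at hne
  obtain ⟨x, h1, h2⟩ := exists_orth_pairing hF hv hne 1
  rw [h x h1] at h2
  exact zero_ne_one h2

/-- Hermitian forms with no isotropic vector outside a hyperplane are degenerate. -/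
theorem exists_iso (φ : (Fin 4 → F) → (Fin 4 → F) → F) (f : (Fin 4 → F) → F) (S : Set (Fin 4 → F))
    (φadd : ∀ u v w, φ (u + v) w = φ u w + φ v w) (φsmul : ∀ (k : F) u w, φ (k • u) w = k * φ u w)
    (φswap : ∀ u w, φ w u = φ u w ^ 2)
    (fadd : ∀ u w, f (u + w) = f u + f w) (fsmul : ∀ (k : F) u, f u ≠ 0 → k ≠ 0 → f (k • u) ≠ 0)
    (Sadd : ∀ u ∈ S, ∀ w ∈ S, u + w ∈ S) (Ssmul : ∀ (k : F), ∀ u ∈ S, k • u ∈ S)
    {s : Fin 4 → F} (hs : s ∈ S) (hfs : f s ≠ 0) {z : Fin 4 → F} (hz : z ∈ S) (hfz : f z = 0)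
    {s' : Fin 4 → F} (hs' : s' ∈ S) (hzs : φ z s' ≠ 0) :
    ∃ u ∈ S, f u ≠ 0 ∧ φ u u = 0 := by
  by_contra hne
  push Not at hne
  have φaddr : ∀ u v w, φ u (v + w) = φ u v + φ u w := fun u v w => by
    rw [φswap (v + w) u, φadd, f4_frob hF, ← φswap v u, ← φswap w u]
  have φsmulr : ∀ (k : F) u w, φ u (k • w) = k ^ 2 * φ u w := fun k u w => by
    rw [φswap (k • w) u, φsmul, mul_pow, ← φswap w u]
  have hone : ∀ u ∈ S, f u ≠ 0 → φ u u = 1 := fun u hu h =>
    (f4_bool (φswap u u).symm).resolve_left (hne u hu h)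
  have key : ∀ u ∈ S, f u ≠ 0 → ∀ w ∈ S, f w = 0 → φ u w = 0 ∧ φ w w = 0 := by
    intro u hu hfu w hw hfw
    have ht : ∀ k : F, k ≠ 0 → φ w w = k * φ u w + (k * φ u w) ^ 2 := by
      intro k hk
      have h1 : f (k • u + w) ≠ 0 := by rw [fadd, hfw, add_zero]; exact fsmul k u hfu hk
      have h2 := hone _ (Sadd _ (Ssmul k u hu) _ hw) h1
      rw [φadd, φaddr, φaddr, φsmul, φsmul, φsmulr, φsmulr, hone u hu hfu, mul_one,
        f4_cube hF hk, φswap u w] at h2
      refine (f4_eq_of_add_zero hF ?_).symm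
      linear_combination h2
    obtain ⟨a, ha⟩ := exists_trace_one hF
    have ha0 : a ≠ 0 := fun e => by simp [e] at ha
    have ha1 : 1 + a ≠ 0 := fun e => by
      rw [← f4_eq_of_add_zero hF e, one_pow, f4_add_self hF] at ha
      exact zero_ne_one ha
    have e1 := ht 1 one_ne_zero
    have e2 := ht a ha0
    have e3 := ht (1 + a) ha1
    have hq : φ w w = 0 := by
      rw [add_mul, f4_frob hF, add_add_add_comm, ← e1, ← e2, f4_add_self hF] at e3
      exact e3
    refine ⟨eq_zero_of_trace hF fun k => ?_, hq⟩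
    by_cases hk : k = 0
    · simp [hk]
    · rw [← ht k hk, hq]
  have hker : ∀ w ∈ S, f w = 0 → φ z w = 0 := by
    intro w hw hfw
    have h1 := (key (s + z) (Sadd _ hs _ hz) (by rwa [fadd, hfz, add_zero]) w hw hfw).1
    rwa [φadd, (key s hs hfs w hw hfw).1, zero_add] at h1
  by_cases h : f s' = 0
  · exact hzs (hker s' hs' h)
  · exact hzs (by rw [φswap s' z, (key s' hs' h z hz hfz).1, zero_pow two_ne_zero])

/-- A transvection lies in `SU₄(2)`. -/
theorem exists_transvec_su {v : Fin 4 → F} (hv : hermForm 4 F 2 v v = 0) :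
    ∃ M : SU 4 F 2, ∀ x, slToMat 4 F M *ᵥ x = transvec v x := by
  classical
  set A : Matrix (Fin 4) (Fin 4) F := 1 + Matrix.vecMulVec v (fun j => v j ^ 2) with hA
  have hmul : ∀ x, A *ᵥ x = transvec v x := fun x => by
    rw [hA, Matrix.add_mulVec, Matrix.one_mulVec, Matrix.vecMulVec_mulVec]
    unfold transvec
    congr 1
    ext i
    simp only [Pi.smul_apply, hermForm, dotProduct, smul_eq_mul, op_smul_eq_mul]
    rw [mul_comm (v i)]
    congr 1
    exact Finset.sum_congr rfl fun j _ => mul_comm _ _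
  have hdet : A.det = 1 := by
    rw [hA, Matrix.vecMulVec_eq Unit, Matrix.det_one_add_replicateCol_mul_replicateRow]
    have : (fun j => v j ^ 2) ⬝ᵥ v = hermForm 4 F 2 v v :=
      Finset.sum_congr rfl fun j _ => mul_comm _ _
    rw [this, hv, add_zero]
  refine ⟨⟨⟨A, hdet⟩, fun x y => ?_⟩, fun x => hmul x⟩
  show hermForm 4 F 2 (A *ᵥ x) (A *ᵥ y) = hermForm 4 F 2 x y
  rw [hmul, hmul]
  unfold transvec
  rw [herm_add_left hF, herm_add_right hF, herm_add_right hF, herm_smul_left hF, herm_smul_left hF,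
    herm_smul_right hF, herm_smul_right hF, hv, herm_swap hF y v]
  linear_combination (hermForm 4 F 2 x v * hermForm 4 F 2 y v ^ 2) * f4_char hF

omit hF in
/-- A map fixing a set fixes its span, when it is linear. -/
theorem linear_fix (f : (Fin 4 → F) → Fin 4 → F) (fadd : ∀ x y, f (x + y) = f x + f y)
    (fsmul : ∀ (k : F) x, f (k • x) = k • f x) {U : Set (Fin 4 → F)} (hU : ∀ u ∈ U, f u = u)
    {w : Fin 4 → F} (hw : w ∈ Submodule.span F U) : f w = w := by
  induction hw using Submodule.span_induction with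
  | mem u hu => exact hU u hu
  | zero => simpa using fsmul 0 0
  | add x y _ _ hx hy => rw [fadd, hx, hy]
  | smul k x _ hx => rw [fsmul, hx]

/-- The isometries that are linear and fix `U`. -/
def linFix (U : Set (Fin 4 → F)) : Set ((Fin 4 → F) → Fin 4 → F) :=
  {f | (∀ x y, f (x + y) = f x + f y) ∧ (∀ (k : F) x, f (k • x) = k • f x) ∧
    (∀ x y, hermForm 4 F 2 (f x) (f y) = hermForm 4 F 2 x y) ∧ ∀ u ∈ U, f u = u}

omit hF in
theorem shift_orth {U : Set (Fin 4 → F)} {f : (Fin 4 → F) → Fin 4 → F}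
    (hF : Fintype.card F = 4) (hf : f ∈ linFix U) {r : Fin 4 → F} (hr : r ∈ Submodule.span F U)
    (x : Fin 4 → F) : hermForm 4 F 2 (f x + x) r = 0 := by
  have h := hf.2.2.1 x r
  rw [linear_fix f hf.1 hf.2.1 hf.2.2.2 hr] at h
  rw [herm_add_left hF, h, f4_add_self hF]

/-- The linear isometries fixing a hyperplane are at most four. -/
theorem card_linFix_le {U : Set (Fin 4 → F)} (hU : 32 ≤ Nat.card (Submodule.span F U)) :
    (linFix U).ncard ≤ 4 := by
  classical
  set R := Submodule.span F U with hR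
  have hc : ∀ S : Submodule F (Fin 4 → F), Nat.card S = 4 ^ Module.finrank F S := fun S => by
    rw [Module.natCard_eq_pow_finrank (K := F), Nat.card_eq_fintype_card, hF]
  have h3 : 3 ≤ Module.finrank F R := by
    by_contra h
    have := hc R
    have h2 : (4 : ℕ) ^ Module.finrank F R ≤ 4 ^ 2 := Nat.pow_le_pow_right (by norm_num) (by omega)
    omega
  obtain ⟨y, hy⟩ : ∃ y, R ⊔ Submodule.span F {y} = ⊤ := by
    by_cases h : R = ⊤
    · exact ⟨0, by rw [h]; simp⟩
    obtain ⟨y, -, hy⟩ := SetLike.exists_of_lt (lt_top_iff_ne_top.2 h)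
    refine ⟨y, Submodule.eq_top_of_finrank_eq ?_⟩
    have hlt : R < R ⊔ Submodule.span F {y} := lt_of_le_of_ne le_sup_left fun e =>
      hy (e ▸ Submodule.mem_sup_right (Submodule.mem_span_singleton_self y))
    have := Submodule.finrank_lt_finrank_of_lt hlt
    have h4 : Module.finrank F (Fin 4 → F) = 4 := Module.finrank_fin_fun F
    have := (R ⊔ Submodule.span F {y}).finrank_le
    omega
  have hinj : Set.InjOn (fun f : (Fin 4 → F) → Fin 4 → F => hermForm 4 F 2 (f y + y) y)
      (linFix U) := by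
    intro f hf f' hf' e
    have hyy : f y = f' y := by
      refine v_eq_of_add_zero hF (eq_zero_of_herm hF fun x => ?_)
      obtain ⟨r, hr, w, hw, rfl⟩ := Submodule.mem_sup.1
        (show x ∈ R ⊔ Submodule.span F {y} by rw [hy]; trivial)
      obtain ⟨k, rfl⟩ := Submodule.mem_span_singleton.1 hw
      refine herm_orth_symm hF ?_
      rw [show f y + f' y = (f y + y) + (f' y + y) by
        rw [add_add_add_comm, vadd_self hF, add_zero], herm_add_left hF, herm_add_right hF,
        herm_add_right hF, shift_orth hF hf hr, shift_orth hF hf' hr, herm_smul_right hF,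
        herm_smul_right hF, zero_add, zero_add]
      simp only at e
      rw [e, f4_add_self hF]
    funext x
    obtain ⟨r, hr, w, hw, rfl⟩ := Submodule.mem_sup.1
      (show x ∈ R ⊔ Submodule.span F {y} by rw [hy]; trivial)
    obtain ⟨k, rfl⟩ := Submodule.mem_span_singleton.1 hw
    rw [hf.1, hf'.1, hf.2.1, hf'.2.1, hyy, linear_fix f hf.1 hf.2.1 hf.2.2.2 hr,
      linear_fix f' hf'.1 hf'.2.1 hf'.2.2.2 hr]
  calc (linFix U).ncard ≤ (Set.univ : Set F).ncard :=
        Set.ncard_le_ncard_of_injOn _ (fun _ _ => Set.mem_univ _) hinj (Set.toFinite _)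
    _ = 4 := by rw [Set.ncard_univ, Nat.card_eq_fintype_card, hF]

/-- The linear isometries fixing a totally isotropic plane are at most sixteen. -/
theorem card_linFix_plane (R : Submodule F (Fin 4 → F)) (hR : Module.finrank F R = 2)
    (hiso : ∀ u ∈ R, ∀ w ∈ R, hermForm 4 F 2 u w = 0)
    (hperp : ∀ d, (∀ r ∈ R, hermForm 4 F 2 d r = 0) → d ∈ R) :
    (linFix (R : Set (Fin 4 → F))).ncard ≤ 16 := by
  classical
  have h4 : Module.finrank F (Fin 4 → F) = 4 := Module.finrank_fin_fun F
  obtain ⟨C, hC⟩ := R.exists_isCompl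
  have hCd := Submodule.finrank_add_eq_of_isCompl hC
  let e := Module.finBasisOfFinrankEq F C (show Module.finrank F C = 2 by omega)
  set y₁ : Fin 4 → F := (e 0 : Fin 4 → F) with hy₁
  set y₂ : Fin 4 → F := (e 1 : Fin 4 → F) with hy₂
  have hmem : ∀ x, ∃ r ∈ R, ∃ a b : F, x = r + (a • y₁ + b • y₂) := fun x => by
    obtain ⟨r, hr, w, hw, rfl⟩ := Submodule.mem_sup.1
      (show x ∈ R ⊔ C by rw [hC.sup_eq_top]; trivial)
    refine ⟨r, hr, e.repr ⟨w, hw⟩ 0, e.repr ⟨w, hw⟩ 1, ?_⟩
    congr 1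
    have := congrArg Subtype.val (e.sum_repr ⟨w, hw⟩)
    rw [Fin.sum_univ_two] at this
    exact this.symm
  have hspan : ∀ r ∈ R, r ∈ Submodule.span F (R : Set (Fin 4 → F)) := fun r hr => Submodule.subset_span hr
  -- the shifts lie in the plane, and their values on the complement are traces
  have hD : ∀ f ∈ linFix (R : Set (Fin 4 → F)), ∀ x, f x + x ∈ R := fun f hf x =>
    hperp _ fun r hr => shift_orth hF hf (hspan r hr) x
  have hsym : ∀ f ∈ linFix (R : Set (Fin 4 → F)), ∀ x y,
      hermForm 4 F 2 (f x + x) y = hermForm 4 F 2 x (f y + y) := by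
    intro f hf x y
    refine f4_eq_of_add_zero hF ?_
    have h1 := hf.2.2.1 x y
    have h2 := hiso _ (hD f hf x) _ (hD f hf y)
    simp only [herm_add_left hF, herm_add_right hF] at h2 ⊢
    rw [h1] at h2
    have h3 : hermForm 4 F 2 x (f y) + hermForm 4 F 2 (f x) y = 0 := by
      refine Eq.trans ?_ h2
      linear_combination (-(hermForm 4 F 2 x y)) * f4_char hF
    linear_combination h3 + (hermForm 4 F 2 x y) * f4_char hF
  let ψ : ((Fin 4 → F) → Fin 4 → F) → Bool × F × Bool := fun f =>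
    (decide (hermForm 4 F 2 (f y₁ + y₁) y₁ = 0), hermForm 4 F 2 (f y₁ + y₁) y₂,
      decide (hermForm 4 F 2 (f y₂ + y₂) y₂ = 0))
  have hbool : ∀ f ∈ linFix (R : Set (Fin 4 → F)), ∀ x,
      hermForm 4 F 2 (f x + x) x = 0 ∨ hermForm 4 F 2 (f x + x) x = 1 := fun f hf x =>
    f4_bool (by rw [← herm_swap hF, ← hsym f hf])
  have hinj : Set.InjOn ψ (linFix (R : Set (Fin 4 → F))) := by
    intro f hf f' hf' e
    simp only [ψ, Prod.mk.injEq, decide_eq_decide] at e
    obtain ⟨e1, e2, e3⟩ := e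
    have hb : ∀ y, (hermForm 4 F 2 (f y + y) y = 0 ↔ hermForm 4 F 2 (f' y + y) y = 0) →
        hermForm 4 F 2 (f y + y) y = hermForm 4 F 2 (f' y + y) y := by
      intro y h
      rcases hbool f hf y with a | a <;> rcases hbool f' hf' y with b | b
      · rw [a, b]
      · rw [h.1 a] at b; exact absurd b zero_ne_one
      · rw [h.2 b] at a; exact absurd a zero_ne_one
      · rw [a, b]
    have hd : ∀ y, hermForm 4 F 2 (f y + y) y₁ = hermForm 4 F 2 (f' y + y) y₁ →
        hermForm 4 F 2 (f y + y) y₂ = hermForm 4 F 2 (f' y + y) y₂ → f y = f' y := by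
      intro y a b
      have hdR : f y + f' y ∈ R := by
        rw [show f y + f' y = (f y + y) + (f' y + y) by
          rw [add_add_add_comm, vadd_self hF, add_zero]]
        exact R.add_mem (hD f hf y) (hD f' hf' y)
      refine v_eq_of_add_zero hF (eq_zero_of_herm hF fun x => herm_orth_symm hF ?_)
      obtain ⟨r, hr, c, d, rfl⟩ := hmem x
      simp only [herm_add_right hF, herm_smul_right hF, hiso _ hdR r hr]
      simp only [herm_add_left hF] at a b ⊢
      rw [show hermForm 4 F 2 (f y) y₁ = hermForm 4 F 2 (f' y) y₁ from add_right_cancel a,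
        show hermForm 4 F 2 (f y) y₂ = hermForm 4 F 2 (f' y) y₂ from add_right_cancel b,
        f4_add_self hF, f4_add_self hF]
      ring
    have q1 := hd y₁ (hb y₁ e1) e2
    have q2 := hd y₂ (by rw [hsym f hf, hsym f' hf', herm_swap hF (f y₁ + y₁), herm_swap hF (f' y₁ + y₁), e2])
      (hb y₂ e3)
    funext x
    obtain ⟨r, hr, c, d, rfl⟩ := hmem x
    rw [hf.1, hf.1, hf'.1, hf'.1, hf.2.1, hf.2.1, hf'.2.1, hf'.2.1, q1, q2, hf.2.2.2 r hr,
      hf'.2.2.2 r hr]
  calc (linFix (R : Set (Fin 4 → F))).ncard ≤ (Set.univ : Set (Bool × F × Bool)).ncard :=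
        Set.ncard_le_ncard_of_injOn _ (fun _ _ => Set.mem_univ _) hinj (Set.toFinite _)
    _ = 16 := by rw [Set.ncard_univ, Nat.card_eq_fintype_card]; simp [hF]

/-- Two isotropic vectors have an isotropic neighbour orthogonal to neither. -/
theorem exists_far {v w : Fin 4 → F} (hv : v ≠ 0) (hw : w ≠ 0) (hvv : hermForm 4 F 2 v v = 0)
    (hvw : hermForm 4 F 2 v w = 0) :
    ∃ u, hermForm 4 F 2 u u = 0 ∧ hermForm 4 F 2 u v ≠ 0 ∧ hermForm 4 F 2 u w ≠ 0 := by
  obtain ⟨x, hx1, hx2⟩ : ∃ x, hermForm 4 F 2 x v = 1 ∧ hermForm 4 F 2 x w ≠ 0 := by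
    obtain ⟨x, hx⟩ := exists_pairing hv (1 : F)
    by_cases h : hermForm 4 F 2 x w = 0
    · by_cases hp : ∃ k : F, w = k • v
      · obtain ⟨k, rfl⟩ := hp
        rw [herm_smul_right hF, hx, mul_one] at h
        exact absurd (by rw [pow_eq_zero_iff two_ne_zero |>.1 h, zero_smul]) hw
      · push Not at hp
        obtain ⟨x', h1, h2⟩ := exists_orth_pairing hF hv hp 1
        exact ⟨x + x', by rw [herm_add_left hF, hx, h1, add_zero],
          by rw [herm_add_left hF, h, h2, zero_add]; exact one_ne_zero⟩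
    · exact ⟨x, hx, h⟩
  rcases herm_self_cases hF x with h | h
  · exact ⟨x, h, by rw [hx1]; exact one_ne_zero, hx2⟩
  obtain ⟨a, ha⟩ := exists_trace_one hF
  have hvx : hermForm 4 F 2 v x = 1 := by rw [herm_swap hF x v, hx1, one_pow]
  refine ⟨x + a • v, ?_, ?_, ?_⟩
  · simp only [herm_add_left hF, herm_add_right hF, herm_smul_left hF, herm_smul_right hF, h, hx1,
      hvx, hvv]
    linear_combination ha + f4_char hF
  · rw [herm_add_left hF, herm_smul_left hF, hvv, mul_zero, add_zero, hx1]; exact one_ne_zero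
  · rw [herm_add_left hF, herm_smul_left hF, hvw, mul_zero, add_zero]; exact hx2

/-- Transvections move a point to any point not orthogonal to it. -/
theorem transvec_move {v w : Fin 4 → F} (hvv : hermForm 4 F 2 v v = 0) (hww : hermForm 4 F 2 w w = 0)
    (hvw : hermForm 4 F 2 v w ≠ 0) :
    ∃ p, hermForm 4 F 2 p p = 0 ∧ transvec p v = hermForm 4 F 2 v w • w := by
  set a := hermForm 4 F 2 v w with ha
  have hwv : hermForm 4 F 2 w v = a ^ 2 := herm_swap hF v w
  have ha3 := f4_cube hF hvw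
  refine ⟨w + a ^ 2 • v, ?_, ?_⟩
  · simp only [herm_add_left hF, herm_add_right hF, herm_smul_left hF, herm_smul_right hF, hvv, hww,
      hwv, ← ha, ← pow_mul, f4_pow hF]
    linear_combination (a * a ^ 2) * f4_char hF
  · unfold transvec
    rw [herm_add_right hF, herm_smul_right hF, hvv, mul_zero, add_zero, ← ha, smul_add, smul_smul,
      ha3, one_smul, add_comm (a • w), vadd_cancel hF]

end CfsgLib.Recog.U6Cent
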