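import Cfsg.Agent.Lib.Recog.U6Cent.RedForm

/-!
The action of `C(z)` on the six-dimensional space of a `RedData`, transport by conjugation, and the part of the space
centralized by an involution of `C(z)`.
-/

set_option autoImplicit false

namespace CfsgLib.Recog.U6Cent

open Subgroup Red Module

variable {G : Type*} [Group G]

theorem mem_cz {z g : G} : g ∈ centralizer ({z} : Set G) ↔ g * z = z * g := mem_centralizer_singleton_iff

theorem conj_mem_centralizer {D : Subgroup G} {g x : G} (hx : x ∈ centralizer (D : Set G))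
    (hn : ∀ d ∈ D, g⁻¹ * d * g ∈ D) : g * x * g⁻¹ ∈ centralizer (D : Set G) := by
  rw [mem_centralizer_iff] at hx ⊢
  intro d hd
  calc d * (g * x * g⁻¹) = g * ((g⁻¹ * d * g) * x) * g⁻¹ := by group
    _ = g * (x * (g⁻¹ * d * g)) * g⁻¹ := by rw [hx _ (hn d hd)]
    _ = g * x * g⁻¹ * d := by group

namespace RedData

variable (R : RedData G)

/-- The centralizer of `z`. -/
abbrev C : Subgroup G := centralizer ({R.z} : Set G)

/-- `J ⊓ C(D)`. -/
abbrev J6 : Subgroup G := R.J ⊓ centralizer (R.D : Set G)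

theorem z_inv : R.z⁻¹ = R.z := inv_eq_of_mul_eq_one_right R.z_sq

theorem comm_z {x : G} (hx : x ∈ R.J) : x * R.z = R.z * x := mem_cz.1 (R.J_le hx)

theorem z_mem6 : R.z ∈ R.J6 :=
  ⟨R.D_le R.z_mem, mem_centralizer_iff.2 fun _ hd => R.comm_z (R.D_le hd)⟩

theorem conj6 {g : G} (hg : g ∈ R.C) {x : G} (hx : x ∈ R.J6) : g * x * g⁻¹ ∈ R.J6 :=
  ⟨R.J_normal g hg x hx.1, conj_mem_centralizer hx.2 fun d hd => by
    simpa using R.D_normal g⁻¹ (inv_mem hg) d hd⟩

theorem comm_D {x d : G} (hx : x ∈ R.J6) (hd : d ∈ R.D) : x * d = d * x :=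
  (mem_centralizer_iff.1 hx.2 d hd).symm

theorem vec_one : R.vec 1 = 0 := (R.vec_zero 1 (one_mem _)).2 (Or.inl rfl)

theorem vec_z : R.vec R.z = 0 := (R.vec_zero _ R.z_mem6).2 (Or.inr rfl)

theorem vec_mul_z {x : G} (hx : x ∈ R.J6) : R.vec (x * R.z) = R.vec x := by
  rw [R.vec_mul x hx _ R.z_mem6, R.vec_z, add_zero]

theorem vec_inv {x : G} (hx : x ∈ R.J6) : R.vec x⁻¹ = R.vec x := by
  refine v6_eq_of_add ?_
  rw [← R.vec_mul _ (inv_mem hx) x hx, inv_mul_cancel, R.vec_one]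

theorem vec_eq {x y : G} (hx : x ∈ R.J6) (hy : y ∈ R.J6) (h : R.vec x = R.vec y) : x = y ∨ x = y * R.z := by
  have h0 : R.vec (y⁻¹ * x) = 0 := by rw [R.vec_mul _ (inv_mem hy) x hx, R.vec_inv hy, h, v6_add_self]
  rcases (R.vec_zero _ (mul_mem (inv_mem hy) hx)).1 h0 with e | e
  · exact Or.inl (inv_mul_eq_one.1 e).symm
  · exact Or.inr (inv_mul_eq_iff_eq_mul.1 e)

theorem sq_z {x : G} (hx : x ∈ R.J6) (hq : q6 (R.vec x) = 1) : x * x = R.z := by
  refine (R.J_sq x hx.1).resolve_left fun h => ?_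
  rw [(R.sq_iff x hx).1 h] at hq
  exact zero_ne_one hq

theorem act_add {g : G} (hg : g ∈ R.C) (v w : V6) : R.act g (v + w) = R.act g v + R.act g w := by
  obtain ⟨x, hx, rfl⟩ := R.vec_surj v
  obtain ⟨y, hy, rfl⟩ := R.vec_surj w
  rw [← R.vec_mul x hx y hy, ← R.act_vec g hg x hx, ← R.act_vec g hg y hy,
    ← R.act_vec g hg _ (mul_mem hx hy), ← R.vec_mul _ (R.conj6 hg hx) _ (R.conj6 hg hy)]
  congr 1
  group

theorem act_mul {g h : G} (hg : g ∈ R.C) (hh : h ∈ R.C) (v : V6) :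
    R.act (g * h) v = R.act g (R.act h v) := by
  obtain ⟨x, hx, rfl⟩ := R.vec_surj v
  rw [← R.act_vec _ (mul_mem hg hh) x hx, ← R.act_vec h hh x hx, ← R.act_vec g hg _ (R.conj6 hh hx)]
  congr 1
  group

theorem act_of_J {j : G} (hj : j ∈ R.J) (v : V6) : R.act j v = v := by
  obtain ⟨x, hx, rfl⟩ := R.vec_surj v
  obtain ⟨d, hd, y, hy, rfl⟩ := R.split j hj
  rw [← R.act_vec _ (R.J_le hj) x hx]
  have h1 : d * y * x * (d * y)⁻¹ = y * x * y⁻¹ := by
    have hc := R.comm_D (R.conj6 (R.J_le hy.1) hx) hd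
    calc d * y * x * (d * y)⁻¹ = d * (y * x * y⁻¹) * d⁻¹ := by group
      _ = y * x * y⁻¹ := by rw [← hc]; group
  rw [h1, R.vec_mul _ (mul_mem hy hx) _ (inv_mem hy), R.vec_mul y hy x hx, R.vec_inv hy]
  funext i
  simp only [Pi.add_apply]
  linear_combination (R.vec y i) * two_zero

theorem act_q {g : G} (hg : g ∈ R.C) (v : V6) : q6 (R.act g v) = q6 v := by
  obtain ⟨x, hx, rfl⟩ := R.vec_surj v
  rw [← R.act_vec g hg x hx]
  rcases zmod2_cases (q6 (R.vec x)) with h | h
  · rw [h, ← R.sq_iff _ (R.conj6 hg hx)]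
    calc g * x * g⁻¹ * (g * x * g⁻¹) = g * (x * x) * g⁻¹ := by group
      _ = 1 := by rw [(R.sq_iff x hx).2 h]; group
  · rw [h]
    refine (zmod2_cases _).resolve_left fun h0 => ?_
    rw [← R.sq_iff _ (R.conj6 hg hx)] at h0
    have : x * x = 1 := by
      calc x * x = g⁻¹ * (g * x * g⁻¹ * (g * x * g⁻¹)) * g := by group
        _ = 1 := by rw [h0]; group
    rw [(R.sq_iff x hx).1 this] at h
    exact zero_ne_one h

/-- The action as a linear map. -/
noncomputable def lin (g : G) : L6 :=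
  open Classical in
  if h : g ∈ R.C then (AddMonoidHom.mk' (R.act g) (R.act_add h)).toZModLinearMap 2 else LinearMap.id

theorem lin_apply {g : G} (hg : g ∈ R.C) (v : V6) : R.lin g v = R.act g v := by
  simp [lin, hg]

theorem lin_iso {g : G} (hg : g ∈ R.C) : Iso6 (R.lin g) := fun v => by
  rw [R.lin_apply hg, R.act_q hg]

theorem lin_mul {g h : G} (hg : g ∈ R.C) (hh : h ∈ R.C) (v : V6) :
    R.lin (g * h) v = R.lin g (R.lin h v) := by
  rw [R.lin_apply (mul_mem hg hh), R.act_mul hg hh, R.lin_apply hg, R.lin_apply hh]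

theorem lin_of_J {j : G} (hj : j ∈ R.J) (v : V6) : R.lin j v = v := by
  rw [R.lin_apply (R.J_le hj), R.act_of_J hj]

theorem lin_vec {g : G} (hg : g ∈ R.C) {x : G} (hx : x ∈ R.J6) :
    R.lin g (R.vec x) = R.vec (g * x * g⁻¹) := by
  rw [R.lin_apply hg, R.act_vec g hg x hx]

theorem lin_fix {g x : G} (hg : g ∈ R.C) (hx : x ∈ R.J6) (h : g * x = x * g) :
    R.lin g (R.vec x) = R.vec x := by
  rw [R.lin_vec hg hx, h, mul_inv_cancel_right]

theorem lin_invol {t : G} (ht : t ∈ R.C) (h2 : t * t = 1) (v : V6) : R.lin t (R.lin t v) = v := by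
  rw [← R.lin_mul ht ht, h2, R.lin_of_J (one_mem _)]

/-- The rank of the commutator space. -/
noncomputable def rk (g : G) : ℕ := finrank (ZMod 2) (im (R.lin g))

theorem rk_eq_zero {g : G} (hg : g ∈ R.C) : R.rk g = 0 ↔ g ∈ R.J := by
  refine ⟨fun h => R.act_one g hg fun v => ?_, fun h => ?_⟩
  · rw [← R.lin_apply hg]
    exact fx_eq_top h v
  · rw [rk, Submodule.finrank_eq_zero, im, LinearMap.range_eq_bot]
    exact LinearMap.ext fun v => by rw [dm_apply, R.lin_of_J h, v6_add_self]; rfl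

theorem rk_le_three {t : G} (ht : t ∈ R.C) (h2 : t * t = 1) : R.rk t ≤ 3 := finrank_im_le (R.lin_invol ht h2)

/-- The vectors with a representative commuting with `t`. -/
def fixU (t : G) : Submodule (ZMod 2) V6 where
  carrier := {v | ∃ y ∈ R.J6, t * y = y * t ∧ R.vec y = v}
  zero_mem' := ⟨1, one_mem _, by simp, R.vec_one⟩
  add_mem' := by
    rintro v w ⟨x, hx, hxt, rfl⟩ ⟨y, hy, hyt, rfl⟩
    refine ⟨x * y, mul_mem hx hy, ?_, R.vec_mul x hx y hy⟩
    rw [← mul_assoc, hxt, mul_assoc, hyt, mul_assoc]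
  smul_mem' := by
    rintro c v ⟨x, hx, hxt, rfl⟩
    rcases zmod2_cases c with rfl | rfl
    · exact ⟨1, one_mem _, by simp, by rw [zero_smul, R.vec_one]⟩
    · exact ⟨x, hx, hxt, (one_smul _ _).symm⟩

theorem finrank_fixU {t : G} (ht : t ∈ R.C) :
    5 - R.rk t ≤ finrank (ZMod 2) (R.fixU t) := by
  have hle : R.fixU t ≤ fx (R.lin t) := by
    rintro _ ⟨y, hy, hyt, rfl⟩
    exact mem_fx.2 (R.lin_fix ht hy hyt)
  have h := finrank_hyper hle fun a ha hau b hb hbu => by
    obtain ⟨x, hx, rfl⟩ := R.vec_surj a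
    obtain ⟨y, hy, rfl⟩ := R.vec_surj b
    have key : ∀ w ∈ R.J6, R.lin t (R.vec w) = R.vec w → R.vec w ∉ R.fixU t → t * w * t⁻¹ = w * R.z := by
      intro w hw hf hn
      rw [R.lin_vec ht hw] at hf
      refine (R.vec_eq (R.conj6 ht hw) hw hf).resolve_left fun e => hn ⟨w, hw, ?_, rfl⟩
      exact mul_inv_eq_iff_eq_mul.1 e
    refine ⟨x * y, mul_mem hx hy, ?_, R.vec_mul x hx y hy⟩
    have e1 := key x hx (mem_fx.1 ha) hau
    have e2 := key y hy (mem_fx.1 hb) hbu
    have e3 : t * (x * y) * t⁻¹ = x * y := by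
      calc t * (x * y) * t⁻¹ = t * x * t⁻¹ * (t * y * t⁻¹) := by group
        _ = x * (R.z * y) * R.z := by rw [e1, e2]; group
        _ = x * y * (R.z * R.z) := by rw [← R.comm_z hy.1]; group
        _ = x * y := by rw [R.z_sq, mul_one]
    exact mul_inv_eq_iff_eq_mul.1 e3
  rw [finrank_fx] at h
  have : finrank (ZMod 2) (im (R.lin t)) = R.rk t := rfl
  omega

/-- Small rank: `z` is the square of an element of `J` commuting with `t`. -/
theorem exists_sqrt {t : G} (ht : t ∈ R.C) (h : R.rk t ≤ 2) : ∃ y ∈ R.J6, t * y = y * t ∧ y * y = R.z := by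
  have h1 := R.finrank_fixU ht
  obtain ⟨v, ⟨y, hy, hyt, rfl⟩, hq⟩ := exists_q_one (U := R.fixU t) (by omega)
  exact ⟨y, hy, hyt, R.sq_z hy hq⟩

theorem fixU_stable {t a : G} (ha : a ∈ R.C) (hat : a * t = t * a) {u : V6} (hu : u ∈ R.fixU t) :
    R.lin a u ∈ R.fixU t := by
  obtain ⟨y, hy, hyt, rfl⟩ := hu
  refine ⟨a * y * a⁻¹, R.conj6 ha hy, ?_, (R.lin_vec ha hy).symm⟩
  have h' : a⁻¹ * t = t * a⁻¹ := by
    rw [eq_mul_inv_iff_mul_eq, mul_assoc, ← hat, inv_mul_cancel_left]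
  calc t * (a * y * a⁻¹) = a * (t * y) * a⁻¹ := by rw [← mul_assoc, ← mul_assoc, ← hat]; group
    _ = a * y * (t * a⁻¹) := by rw [hyt]; group
    _ = a * y * a⁻¹ * t := by rw [← h']; group

/-- Transport by conjugation. -/
def conj (g : G) : RedData G :=
  let f : G →* G := (MulAut.conj g).toMonoidHom
  have hf : ∀ {H : Subgroup G} {x : G}, x ∈ H.map f ↔ g⁻¹ * x * g ∈ H := by
    intro H x
    constructor
    · rintro ⟨y, hy, rfl⟩
      simpa [f, mul_assoc] using hy
    · intro h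
      exact ⟨_, h, by simp [f, mul_assoc]⟩
  have hz : ∀ {x : G}, x ∈ centralizer ({g * R.z * g⁻¹} : Set G) → g⁻¹ * x * g ∈ R.C := by
    intro x hx
    rw [mem_cz] at hx ⊢
    calc g⁻¹ * x * g * R.z = g⁻¹ * (x * (g * R.z * g⁻¹)) * g := by group
      _ = R.z * (g⁻¹ * x * g) := by rw [hx]; group
  have h6 : ∀ {x : G}, x ∈ R.J.map f ⊓ centralizer (R.D.map f : Set G) → g⁻¹ * x * g ∈ R.J6 := by
    intro x hx
    refine ⟨hf.1 hx.1, mem_centralizer_iff.2 fun d hd => ?_⟩
    have h := mem_centralizer_iff.1 hx.2 (f d) ⟨d, hd, rfl⟩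
    calc d * (g⁻¹ * x * g) = g⁻¹ * (f d * x) * g := by simp only [f, MulEquiv.coe_toMonoidHom, MulAut.conj_apply]; group
      _ = g⁻¹ * x * g * d := by rw [h]; simp only [f, MulEquiv.coe_toMonoidHom, MulAut.conj_apply]; group
  have cm : ∀ {x y : G}, g⁻¹ * (x * y) * g = g⁻¹ * x * g * (g⁻¹ * y * g) := by intros; group
  have inj : ∀ {x y : G}, g⁻¹ * x * g = g⁻¹ * y * g ↔ x = y := by intros; simp
  have to' : ∀ {x : G}, g⁻¹ * x * g = R.z ↔ x = g * R.z * g⁻¹ := by
    intro x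
    constructor
    · intro h; rw [← h]; group
    · intro h; rw [h]; group
  { z := g * R.z * g⁻¹
    J := R.J.map f
    D := R.D.map f
    E := R.E.map f
    z_sq := by
      calc g * R.z * g⁻¹ * (g * R.z * g⁻¹) = g * (R.z * R.z) * g⁻¹ := by group
        _ = 1 := by rw [R.z_sq]; group
    z_ne := fun h => R.z_ne (by
      calc R.z = g⁻¹ * (g * R.z * g⁻¹) * g := by group
        _ = 1 := by rw [h]; group)
    J_le := fun x hx => mem_cz.2 (inj.1 (by
      calc g⁻¹ * (x * (g * R.z * g⁻¹)) * g = g⁻¹ * x * g * R.z := by group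
        _ = R.z * (g⁻¹ * x * g) := R.comm_z (hf.1 hx)
        _ = _ := by group))
    J_normal := fun a ha x hx => hf.2 (by
      have := R.J_normal _ (hz ha) _ (hf.1 hx)
      convert this using 1; group)
    J_sq := fun x hx => by
      rcases R.J_sq _ (hf.1 hx) with h | h <;> rw [← cm] at h
      · left; exact inj.1 (h.trans (by group))
      · right; exact to'.1 h
    D_le := Subgroup.map_mono R.D_le
    z_mem := ⟨R.z, R.z_mem, by simp [f]⟩
    D_normal := fun a ha x hx => hf.2 (by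
      have := R.D_normal _ (hz ha) _ (hf.1 hx)
      convert this using 1; group)
    split := fun x hx => by
      obtain ⟨d, hd, y, hy, e⟩ := R.split _ (hf.1 hx)
      refine ⟨f d, ⟨d, hd, rfl⟩, f y, ⟨⟨y, hy.1, rfl⟩, mem_centralizer_iff.2 ?_⟩, ?_⟩
      · rintro _ ⟨d', hd', rfl⟩
        rw [← map_mul, ← map_mul, R.comm_D hy hd']
      · rw [← map_mul, ← e]; simp [f, mul_assoc]
    E_le := Subgroup.map_mono R.E_le
    E_normal := fun a ha x hx => hf.2 (by
      have := R.E_normal _ (hz ha) _ (hf.1 hx)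
      convert this using 1; group)
    E_four := by
      obtain ⟨e, he, hee⟩ := R.E_four
      exact ⟨f e, ⟨e, he, rfl⟩, by rw [← map_mul, hee]; simp [f]⟩
    E_sq := fun x hx => by
      rcases R.E_sq _ (hf.1 hx) with h | h | h
      · left; exact inj.1 (h.trans (by group))
      · right; left; exact to'.1 h
      · right; right; rw [← cm] at h; exact to'.1 h
    E_card := by
      rw [Subgroup.card_map_of_injective (MulAut.conj g).injective]
      exact R.E_card
    vec := fun x => R.vec (g⁻¹ * x * g)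
    vec_mul := fun x hx y hy => by rw [cm]; exact R.vec_mul _ (h6 hx) _ (h6 hy)
    vec_surj := fun v => by
      obtain ⟨y, hy, rfl⟩ := R.vec_surj v
      refine ⟨f y, ⟨⟨y, hy.1, rfl⟩, mem_centralizer_iff.2 ?_⟩, by simp [f, mul_assoc]⟩
      rintro _ ⟨d', hd', rfl⟩
      rw [← map_mul, ← map_mul, R.comm_D hy hd']
    vec_zero := fun x hx => by
      rw [R.vec_zero _ (h6 hx), to']
      exact or_congr_left ⟨fun h => inj.1 (h.trans (by group)), fun h => by rw [h]; group⟩
    sq_iff := fun x hx => by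
      rw [← R.sq_iff _ (h6 hx), ← cm]
      exact ⟨fun h => by rw [h]; group, fun h => inj.1 (h.trans (by group))⟩
    comm_iff := fun x hx y hy => by
      rw [← R.comm_iff _ (h6 hx) _ (h6 hy), ← cm, ← cm, inj]
    comm_or := fun x hx y hy => by
      rcases R.comm_or _ (h6 hx) _ (h6 hy) with h | h <;> rw [← cm, ← cm] at h
      · left; exact inj.1 h
      · right
        refine inj.1 (h.trans ?_)
        group
    act := fun a => R.act (g⁻¹ * a * g)
    act_vec := fun a ha x hx => by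
      rw [← R.act_vec _ (hz ha) _ (h6 hx)]
      congr 1; group
    act_one := fun a ha h => hf.2 (R.act_one _ (hz ha) h)
    odd_cent := fun a ha ho => by
      have ho' : Odd (orderOf (g⁻¹ * a * g)) := by
        rw [show g⁻¹ * a * g = MulAut.conj g⁻¹ a by simp, MulEquiv.orderOf_eq]
        exact ho
      have h := R.odd_cent _ (hz ha) ho'
      refine mem_centralizer_iff.2 fun x hx => inj.1 ?_
      rw [cm, cm]
      exact mem_centralizer_iff.1 h _ (hf.1 hx)
    rot := fun p p' hp hp' hpp => by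
      obtain ⟨a, ha, ho, h1, h2, h3⟩ := R.rot p p' hp hp' hpp
      have e : g⁻¹ * f a * g = a := by simp [f, mul_assoc]
      refine ⟨f a, mem_cz.2 ?_, ?_, by simpa only [e] using h1, by simpa only [e] using h2,
        fun x hx hx' => by simpa only [e] using h3 x hx hx'⟩
      · refine inj.1 ?_
        calc g⁻¹ * (f a * (g * R.z * g⁻¹)) * g = g⁻¹ * f a * g * R.z := by group
          _ = R.z * (g⁻¹ * f a * g) := by rw [e]; exact mem_cz.1 ha
          _ = _ := by group
      · rw [show f a = MulAut.conj g a from rfl, MulEquiv.orderOf_eq]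
        exact ho }

theorem conj_z (g : G) : (R.conj g).z = g * R.z * g⁻¹ := rfl

end RedData

end CfsgLib.Recog.U6Cent
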