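import Cfsg.Agent.Lib.Recog.U6Cent.RedForm

/-!
An involution of the form `g²`, `g` an isometry, has commutator space of dimension different from one and three.
-/

set_option autoImplicit false

namespace CfsgLib.Recog.U6Cent.Red

open Module Submodule

theorem square_rank {g : L6} (hg : Iso6 g) (h4 : ∀ x, g (g (g (g x))) = x) :
    finrank (ZMod 2) (im (g.comp g)) ≠ 1 ∧ finrank (ZMod 2) (im (g.comp g)) ≠ 3 := by
  set S : L6 := g.comp (dm (g.comp g)) with hS
  have hSx : ∀ x, S x = g (g (g x)) + g x := fun x => by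
    simp only [hS, LinearMap.comp_apply, dm_apply, map_add]
  have sym : ∀ x y, b6 (S x) y = b6 x (S y) := fun x y => by
    rw [hSx, hSx, b6_add_left, b6_add_right]
    have e1 : b6 (g (g (g x))) y = b6 x (g y) := by rw [← hg.b6_map, h4]
    have e2 : b6 (g x) y = b6 x (g (g (g y))) := by
      conv_lhs => rw [← h4 y]
      exact hg.b6_map x _
    rw [e1, e2, add_comm]
  have alt : ∀ x, b6 (S x) x = 0 := fun x => by
    rw [hSx, b6_add_left]
    have e1 : b6 (g (g (g x))) x = b6 x (g x) := by rw [← hg.b6_map, h4]
    rw [e1, b6_comm (g x) x]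
    exact CharTwo.add_self_eq_zero _
  have hker : ∀ x, S x = 0 → g (g x) = x := fun x hx => by
    have : dm (g.comp g) x = 0 := hg.injective (by rw [map_zero]; exact hx)
    exact v6_eq_of_add this
  constructor
  · intro h1
    obtain ⟨⟨m, hm⟩, hm0, hgen⟩ := finrank_eq_one_iff'.1 h1
    replace hm0 : m ≠ 0 := fun h => hm0 (Subtype.ext h)
    have hcases : ∀ x, dm (g.comp g) x = 0 ∨ dm (g.comp g) x = m := fun x => by
      obtain ⟨c, hc⟩ := hgen ⟨_, ⟨x, rfl⟩⟩
      have hc' : c • m = dm (g.comp g) x := congrArg Subtype.val hc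
      rcases zmod2_cases c with rfl | rfl
      · left; rw [← hc', zero_smul]
      · right; rw [← hc', one_smul]
    obtain ⟨x1, hx1⟩ := hm
    have hgm : g m ≠ 0 := fun h => hm0 (hg.injective (h.trans (map_zero g).symm))
    obtain ⟨w, hw⟩ : ∃ w, b6 (g m) w = 1 := by
      by_contra hn
      push Not at hn
      exact hgm (eq_zero_of_b6 fun w => (zmod2_cases _).resolve_right (hn w))
    have a1 : b6 (g m) x1 = 0 := by
      have := alt x1
      rwa [show S x1 = g m from congrArg g hx1] at this
    rcases hcases w with e | e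
    · have := alt (x1 + w)
      rw [show S (x1 + w) = g m by rw [map_add, show S x1 = g m from congrArg g hx1,
        show S w = g 0 from congrArg g e, map_zero, add_zero], b6_add_right, a1, hw, zero_add] at this
      exact one_ne_zero this
    · have := alt w
      rw [show S w = g m from congrArg g e, hw] at this
      exact one_ne_zero this
  · intro h3
    have hK : finrank (ZMod 2) (LinearMap.ker S) = 3 := by
      have : LinearMap.ker S = fx (g.comp g) := by
        rw [hS, LinearMap.ker_comp_of_ker_eq_bot _ (LinearMap.ker_eq_bot.2 hg.injective)]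
        rfl
      rw [this, finrank_fx, h3]
    obtain ⟨W, hW⟩ := Submodule.exists_isCompl (LinearMap.ker S)
    have hW3 : finrank (ZMod 2) W = 3 := by
      have := Submodule.finrank_add_eq_of_isCompl hW
      rw [hK, Module.finrank_fintype_fun_eq_card, Fintype.card_fin] at this
      omega
    let B := (Module.finBasisOfFinrankEq (ZMod 2) W hW3)
    let x : Fin 3 → V6 := fun i => (B i).1
    let c : Fin 3 → ZMod 2 := ![b6 (S (x 1)) (x 2), b6 (S (x 0)) (x 2), b6 (S (x 0)) (x 1)]
    let k : V6 := ∑ i, c i • x i
    have hkW : k ∈ W := Submodule.sum_mem _ fun i _ => W.smul_mem _ (B i).2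
    have hSk : ∀ j, b6 (S k) (x j) = 0 := by
      intro j
      simp only [k, Fin.sum_univ_three, map_add, map_smul, b6_add_left, b6_smul_left]
      have s10 : b6 (S (x 1)) (x 0) = b6 (S (x 0)) (x 1) := by rw [sym, b6_comm]
      have s20 : b6 (S (x 2)) (x 0) = b6 (S (x 0)) (x 2) := by rw [sym, b6_comm]
      have s21 : b6 (S (x 2)) (x 1) = b6 (S (x 1)) (x 2) := by rw [sym, b6_comm]
      fin_cases j <;> simp [c, alt, s10, s20, s21, mul_comm] <;> exact CharTwo.add_self_eq_zero _
    have zero_of : ∀ y, (∀ j, b6 (S y) (x j) = 0) → S y = 0 := by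
      intro y hy
      refine eq_zero_of_b6 fun v => ?_
      obtain ⟨a, ha, b, hb, rfl⟩ := Submodule.mem_sup.1
        (show v ∈ LinearMap.ker S ⊔ W by rw [hW.sup_eq_top]; trivial)
      rw [b6_add_right, sym y a, LinearMap.mem_ker.1 ha, b6_zero_right, zero_add]
      have hb' : b = ∑ i, B.repr ⟨b, hb⟩ i • x i := by
        have := congrArg Subtype.val (B.sum_repr ⟨b, hb⟩)
        simpa only [x, AddSubmonoidClass.coe_finsetSum, Submodule.coe_smul] using this.symm
      rw [hb', Fin.sum_univ_three, b6_add_right, b6_add_right, b6_smul_right, b6_smul_right,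
        b6_smul_right, hy, hy, hy]
      simp
    have hk0 : k = 0 := Submodule.disjoint_def.1 hW.disjoint k (LinearMap.mem_ker.2 (zero_of k hSk)) hkW
    have hc : ∀ i, c i = 0 := by
      have h0 : ∑ i, c i • B i = 0 := Subtype.ext (by simpa [k, x] using hk0)
      exact Fintype.linearIndependent_iff.1 B.linearIndependent c h0
    have hall : S (x 0) = 0 := by
      refine zero_of _ fun j => ?_
      have h1 : b6 (S (x 0)) (x 2) = 0 := hc 1
      have h2 : b6 (S (x 0)) (x 1) = 0 := hc 2
      fin_cases j
      · exact alt (x 0)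
      · exact h2
      · exact h1
    have : x 0 = 0 := Submodule.disjoint_def.1 hW.disjoint _ (LinearMap.mem_ker.2 hall) (B 0).2
    exact B.ne_zero 0 (Subtype.ext this)

end CfsgLib.Recog.U6Cent.Red
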