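import Cfsg.Agent.Lib.Recog.U6Cent.EndPairs
import Cfsg.Agent.Lib.Invol.BrauerSuzuki
import Cfsg.Agent.Lib.Solvable.PCore

/-!
The centralizer of a product of two commuting members stabilises their component.
-/

set_option autoImplicit false
set_option linter.unusedSectionVars false

namespace CfsgLib.Recog.U6Cent

open Subgroup

variable {G : Type*} [Group G] {D : Set G} {P : Type*} {col : P → P → Prop} {f : G → G → P}

/-- A central involution splits off a subgroup with odd quotient by it. -/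
theorem exists_odd_complement {C : Type*} [Group C] [Finite C] (i : C) (hi : orderOf i = 2)
    (hic : ∀ g, g * i = i * g) (Q : Subgroup C) (hQ : Q.Normal) (hiQ : i ∈ Q)
    (m : ℕ) (hm : Odd m) (hcard : Nat.card Q = 2 * m) :
    ∃ K : Subgroup C, K.Normal ∧ Odd (Nat.card K) ∧ ∀ h ∈ Q, h ∈ K ∨ h * i ∈ K := by
  let N : Subgroup Q := zpowers ⟨i, hiQ⟩
  have hiP : orderOf (⟨i, hiQ⟩ : Q) = 2 := by rw [← orderOf_coe]; exact hi
  have hcN : Nat.card N = 2 := (Nat.card_zpowers _).trans hiP
  haveI : N.Normal := ⟨fun x hx g => by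
    obtain ⟨k, rfl⟩ := mem_zpowers_iff.1 hx
    have hc : Commute g ((⟨i, hiQ⟩ : Q) ^ k) := Commute.zpow_right (Subtype.ext (hic g)) k
    rw [hc.eq, mul_inv_cancel_right]
    exact mem_zpowers_iff.2 ⟨k, rfl⟩⟩
  have hidx : N.index = m := by
    have := N.index_mul_card
    rw [hcN, hcard] at this
    omega
  obtain ⟨K', hK'⟩ := exists_right_complement'_of_coprime (N := N)
    (by rw [hcN, hidx]; exact Nat.coprime_two_left.2 hm)
  have hcK : Nat.card K' = m := by
    have := hK'.card_mul
    rw [hcN, hcard] at this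
    omega
  have hodd : ∀ k : Q, k ∈ K' → Odd (orderOf k) := fun k hk => by
    refine Odd.of_dvd_nat hm ?_
    rw [← hcK, show k = ((⟨k, hk⟩ : K') : Q) from rfl, orderOf_coe]
    exact orderOf_dvd_natCard _
  have hN : ∀ n ∈ N, n = 1 ∨ n = ⟨i, hiQ⟩ := fun n hn => by
    obtain ⟨k, rfl⟩ := mem_zpowers_iff.1 hn
    rw [zpow_mod_orderOf _ k |>.symm, hiP]
    rcases Int.emod_two_eq_zero_or_one k with e | e <;> simp [e]
  have hdec : ∀ h : Q, h ∈ K' ∨ h * ⟨i, hiQ⟩ ∈ K' := fun h => by
    obtain ⟨⟨n, k⟩, e⟩ := hK'.2 h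
    have hn := hN n n.2
    change (n : Q) * (k : Q) = h at e
    rcases hn with hn | hn
    · rw [hn, one_mul] at e; exact Or.inl (e ▸ k.2)
    · refine Or.inr ?_
      have hii : (⟨i, hiQ⟩ : Q) * ⟨i, hiQ⟩ = 1 := by rw [← pow_two, ← hiP, pow_orderOf_eq_one]
      have hcm : h * ⟨i, hiQ⟩ = ⟨i, hiQ⟩ * h := Subtype.ext (hic h)
      rw [hcm, ← e, hn, ← mul_assoc, hii, one_mul]
      exact k.2
  have hmem : ∀ h : Q, Odd (orderOf h) → h ∈ K' := fun h hh => by
    refine (hdec h).resolve_right fun h' => ?_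
    have hcm : Commute h ⟨i, hiQ⟩ := Subtype.ext (hic h)
    have hii : (⟨i, hiQ⟩ : Q) * ⟨i, hiQ⟩ = 1 := by rw [← pow_two, ← hiP, pow_orderOf_eq_one]
    have hc' : Commute (h * ⟨i, hiQ⟩) h := (Commute.refl h).mul_left hcm.symm
    have e2 : (⟨i, hiQ⟩ : Q) = h⁻¹ * (h * ⟨i, hiQ⟩) := by rw [inv_mul_cancel_left]
    have hdvd : orderOf (h⁻¹ * (h * ⟨i, hiQ⟩)) ∣ orderOf h * orderOf (h * ⟨i, hiQ⟩) := by
      have := Commute.orderOf_mul_dvd_mul_orderOf hc'.symm.inv_left
      rwa [orderOf_inv] at this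
    rw [← e2, hiP] at hdvd
    exact Nat.not_even_iff_odd.2 (hh.mul (hodd _ h')) (even_iff_two_dvd.2 hdvd)
  refine ⟨K'.map Q.subtype, ⟨fun x hx g => ?_⟩, ?_, fun h hh => ?_⟩
  · obtain ⟨k, hk, rfl⟩ := hx
    refine ⟨⟨g * (k : C) * g⁻¹, hQ.conj_mem _ k.2 g⟩, hmem _ ?_, rfl⟩
    rw [← orderOf_coe]
    show Odd (orderOf (MulAut.conj g (k : C)))
    rw [MulEquiv.orderOf_eq, orderOf_coe]
    exact hodd k hk
  · rw [← Nat.card_congr (K'.equivMapOfInjective Q.subtype Q.subtype_injective).toEquiv, hcK]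
    exact hm
  · exact (hdec ⟨h, hh⟩).imp (fun e => ⟨_, e, rfl⟩) fun e => ⟨_, e, rfl⟩

/-- An automorphism of order two without fixed points inverts. -/
theorem inverts_of_fixed_free {C : Type*} [Group C] [Finite C] (K : Subgroup C) (hK : K.Normal) (w : C)
    (hw : w * w = 1) (hfree : ∀ k ∈ K, Commute k w → k = 1) : ∀ k ∈ K, w * k * w = k⁻¹ := by
  have hwi : w⁻¹ = w := inv_eq_of_mul_eq_one_right hw
  have hc : ∀ k ∈ K, w * k * w ∈ K := fun k hk => by
    have := hK.conj_mem k hk w
    rwa [hwi] at this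
  let φ : K → K := fun k => ⟨(k : C)⁻¹ * (w * k * w), mul_mem (inv_mem k.2) (hc k k.2)⟩
  have hinj : Function.Injective φ := fun k l e => by
    have e' : (k : C)⁻¹ * (w * k * w) = (l : C)⁻¹ * (w * l * w) := congrArg Subtype.val e
    have h : Commute ((l : C) * (k : C)⁻¹) w := by
      have e2 : (l : C) * (k : C)⁻¹ = w * ((l : C) * (k : C)⁻¹) * w := by
        calc (l : C) * (k : C)⁻¹ = (l : C) * ((k : C)⁻¹ * (w * k * w)) * (w * k * w)⁻¹ := by group
          _ = (l : C) * ((l : C)⁻¹ * (w * l * w)) * (w * k * w)⁻¹ := by rw [e']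
          _ = w * l * (w * w⁻¹) * (k : C)⁻¹ * w⁻¹ := by group
          _ = w * ((l : C) * (k : C)⁻¹) * w := by
            rw [mul_inv_cancel, mul_one, hwi]; simp only [mul_assoc]
      calc (l : C) * (k : C)⁻¹ * w = w * ((l : C) * (k : C)⁻¹) * w * w := by rw [← e2]
        _ = w * ((l : C) * (k : C)⁻¹) := by rw [mul_assoc, hw, mul_one]
    exact Subtype.ext (mul_inv_eq_one.1 (hfree _ (mul_mem l.2 (inv_mem k.2)) h)).symm
  intro k hk
  obtain ⟨l, hl⟩ := Finite.injective_iff_surjective.1 hinj ⟨k, hk⟩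
  have e : (l : C)⁻¹ * (w * l * w) = k := congrArg Subtype.val hl
  rw [← e, mul_inv_rev, inv_inv, mul_inv_rev, mul_inv_rev, hwi]
  calc w * ((l : C)⁻¹ * (w * l * w)) * w = w * (l : C)⁻¹ * w * l * (w * w) := by simp only [mul_assoc]
    _ = w * ((l : C)⁻¹ * w) * l := by rw [hw, mul_one]; simp only [mul_assoc]

namespace Base

variable [Finite G] (B : Base D P col f)
include B

theorem pair_invol {a b : G} (ha : a ∈ D) (hb : b ∈ nbrs D a) : orderOf (a * b) = 2 := by
  haveI : Fact (Nat.Prime 2) := ⟨Nat.prime_two⟩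
  refine orderOf_eq_prime ?_ fun e => hb.2.1 ?_
  · rw [hb.2.2.mul_pow, pow_two, pow_two, B.msq ha, B.msq hb.1, one_mul]
  · exact (inv_eq_of_mul_eq_one_right e).symm.trans (B.minv ha)

/-- Members of the component moved into it by an element. -/
theorem moves {o g x y : G} (ho : o ∈ D) (hx : x ∈ comp D o) (hy : y ∈ comp D o)
    (h : g * x * g⁻¹ ∈ comp D o) : g * y * g⁻¹ ∈ comp D o := by
  rw [← comp_eq ho h]
  exact B.comp_conj g (comp_eq ho hx ▸ hy)

/-- Only the pair itself is moved to it inside the component. -/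
theorem pair_moved {a b g : G} (ha : a ∈ D) (hb : b ∈ nbrs D a) (hg : g * (a * b) = a * b * g)
    (h : g * a * g⁻¹ ∈ comp D a) : g * a * g⁻¹ = a ∨ g * a * g⁻¹ = b := by
  have hi : g * (a * b) * g⁻¹ = a * b := by rw [hg, mul_inv_cancel_right]
  refine B.pair_unique ha hb h ?_ ?_
  · have := ((Commute.refl a).mul_right hb.2.2).map (MulAut.conj g).toMonoidHom
    simp only [MulEquiv.coe_toMonoidHom, MulAut.conj_apply] at this
    rwa [hi] at this
  · rw [show g * a * g⁻¹ * (a * b) = g * b * g⁻¹ by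
      conv_lhs => rw [← hi]
      calc g * a * g⁻¹ * (g * (a * b) * g⁻¹) = g * ((a * a) * b) * g⁻¹ := by group
        _ = g * b * g⁻¹ := by rw [B.msq ha, one_mul]]
    exact B.conj_mem g hb.1

/-- The centralizer of `ab` stabilises the component. -/
theorem cent_pair {a b g : G} (ha : a ∈ D) (hb : b ∈ nbrs D a) (hg : g * (a * b) = a * b * g) :
    g * a * g⁻¹ ∈ comp D a := by
  classical
  have ha0 := B.msq ha
  have hb0 := B.msq hb.1
  have hac := mem_comp_self (D := D) a
  have hbc : b ∈ comp D a := Relation.ReflTransGen.single hb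
  set i := a * b with hi
  have hoi := B.pair_invol ha hb
  rw [← hi] at hoi
  have hii : i * i = 1 := by rw [← pow_two, ← hoi, pow_orderOf_eq_one]
  let C := centralizer ({i} : Set G)
  have haC : a ∈ C := mem_centralizer_singleton_iff.2 ((Commute.refl a).mul_right hb.2.2).eq
  let A : C := ⟨a, haC⟩
  let I : C := ⟨i, mem_centralizer_singleton_iff.2 rfl⟩
  have hIc : ∀ h : C, h * I = I * h := fun h => Subtype.ext (mem_centralizer_singleton_iff.1 h.2)
  haveI hnN : (zpowers I).Normal := ⟨fun x hx h => by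
    obtain ⟨k, rfl⟩ := mem_zpowers_iff.1 hx
    rw [(Commute.zpow_right (hIc h) k : Commute h (I ^ k)).eq, mul_inv_cancel_right]
    exact mem_zpowers_iff.2 ⟨k, rfl⟩⟩
  have hoI : orderOf I = 2 := by rw [← orderOf_coe]; exact hoi
  have hN : ∀ x : C, x ∈ zpowers I ↔ (x : G) = 1 ∨ (x : G) = i := fun x => by
    constructor
    · intro hx
      obtain ⟨k, rfl⟩ := mem_zpowers_iff.1 hx
      rw [zpow_mod_orderOf _ k |>.symm, hoI]
      rcases Int.emod_two_eq_zero_or_one k with e | e <;> simp [e, I]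
    · rintro (e | e)
      · rw [show x = 1 from Subtype.ext e]; exact one_mem _
      · rw [show x = I from Subtype.ext e]; exact mem_zpowers I
  let π := QuotientGroup.mk' (zpowers I)
  haveI : Fact (Nat.Prime 2) := ⟨Nat.prime_two⟩
  have hisol : Cfsg.IsIsolatedInvolution (π A) := by
    refine ⟨orderOf_eq_prime ?_ fun e => ?_, fun h hc => ?_⟩
    · rw [← map_pow, pow_two, show A * A = 1 from Subtype.ext ha0, map_one]
    · rcases (hN A).1 ((QuotientGroup.eq_one_iff _).1 e) with e' | e'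
      · exact B.mne ha e'
      · exact B.mne hb.1 (mul_eq_left.1 (e'.symm : i = a))
    · obtain ⟨y, rfl⟩ := QuotientGroup.mk'_surjective _ h
      set x : G := (y : G) * a * (y : G)⁻¹ with hx
      have hxD : x ∈ D := B.conj_mem _ ha
      have hyi := mem_centralizer_singleton_iff.1 y.2
      change Commute (π A) (π y * π A * (π y)⁻¹) at hc
      change π y * π A * (π y)⁻¹ = π A
      rw [← map_inv, ← map_mul, ← map_mul] at hc ⊢
      have hcm : (A * (y * A * y⁻¹))⁻¹ * (y * A * y⁻¹ * A) ∈ zpowers I := by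
        rw [← QuotientGroup.eq]
        change π _ = π _
        rw [map_mul, map_mul]; exact hc.eq
      have hcm' := (hN _).1 hcm
      simp only [coe_mul, coe_inv] at hcm'
      change (a * x)⁻¹ * (x * a) = 1 ∨ (a * x)⁻¹ * (x * a) = i at hcm'
      rw [mul_inv_rev, B.minv ha, B.minv hxD] at hcm'
      have hxc : x ∈ comp D a := by
        rcases hcm' with h1 | h1
        · have h2 : Commute a x := by
            show a * x = x * a
            calc a * x = a * x * (x * a * (x * a)) := by rw [h1, mul_one]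
              _ = a * (x * x) * a * (x * a) := by simp only [mul_assoc]
              _ = x * a := by rw [B.msq hxD, mul_one, ha0, one_mul]
          by_cases e : x = a
          · rw [e]; exact hac
          · exact Relation.ReflTransGen.single ⟨hxD, e, h2⟩
        · exfalso
          have h2 : x * a * x = b := by
            calc x * a * x = x * a * (x * a) * a := by simp only [mul_assoc, ha0, mul_one]
              _ = b := by rw [h1, hi, hb.2.2.eq, mul_assoc, ha0, mul_one]
          have hxc : x ∈ comp D a := B.mem_of_stab ha hxD hac (by rw [B.minv hxD, h2]; exact hbc)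
          rcases B.comp_prod ha hxc hac with e | e
          · rw [pow_two, h1] at e
            exact hb.2.1 ((inv_eq_of_mul_eq_one_right (hi ▸ e)).symm.trans (B.minv ha))
          · rw [pow_succ, pow_two, h1] at e
            have e2 : x * a = i := (inv_eq_of_mul_eq_one_right e).symm.trans (inv_eq_of_mul_eq_one_right hii)
            rw [e2, hii] at h1
            exact hb.2.1 ((inv_eq_of_mul_eq_one_right (hi ▸ h1.symm)).symm.trans (B.minv ha))
      have hu := B.pair_moved ha hb hyi hxc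
      refine (QuotientGroup.eq.2 ((hN _).2 ?_))
      simp only [coe_mul, coe_inv]
      change x⁻¹ * a = 1 ∨ x⁻¹ * a = i
      rcases hu with e | e
      · left; rw [hx, e, inv_mul_cancel]
      · right; rw [hx, e, B.minv hb.1, hi, hb.2.2.eq]
  -- the odd part over the core of the quotient
  set O := Cfsg.oddCore (C ⧸ zpowers I) with hO
  have hOodd : Odd (Nat.card O) :=
    Nat.coprime_two_right.1 (CfsgLib.Solvable.pPrimeCore_coprime 2)
  have hnO : O.Normal := by rw [hO]; infer_instance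
  have hIQ : I ∈ O.comap π := by
    rw [mem_comap, show π I = 1 from (QuotientGroup.eq_one_iff _).2 (mem_zpowers I)]
    exact one_mem _
  have hcQ : Nat.card (O.comap π) = 2 * Nat.card O := by
    have h1 := card_eq_card_quotient_mul_card_subgroup ((zpowers I).subgroupOf (O.comap π))
    have hle : zpowers I ≤ O.comap π := zpowers_le.2 hIQ
    rw [Nat.card_congr (subgroupOfEquivOfLe hle).toEquiv, Nat.card_zpowers, hoI] at h1
    let ψ : O.comap π →* O := (π.comp (O.comap π).subtype).codRestrict O fun x => x.2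
    have hψ : Function.Surjective ψ := fun q => by
      obtain ⟨c, hc⟩ := QuotientGroup.mk'_surjective (zpowers I) q
      exact ⟨⟨c, by rw [mem_comap, show π c = q from hc]; exact q.2⟩, Subtype.ext hc⟩
    have h2 := card_eq_card_quotient_mul_card_subgroup ψ.ker
    rw [Nat.card_congr (QuotientGroup.quotientKerEquivOfSurjective ψ hψ).toEquiv,
      show ψ.ker = (zpowers I).subgroupOf (O.comap π) from Subgroup.ext fun x => by
        rw [MonoidHom.mem_ker, mem_subgroupOf, ← QuotientGroup.eq_one_iff]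
        exact Subtype.ext_iff, Nat.card_congr (subgroupOfEquivOfLe hle).toEquiv,
      Nat.card_zpowers, hoI] at h2
    rw [h2]; ring
  obtain ⟨K, hKn, hKodd, hK⟩ := exists_odd_complement I hoI hIc (O.comap π) (hnO.comap π) hIQ _ hOodd hcQ
  -- it avoids the stabiliser of the component
  have hfix : ∀ k ∈ K, (k : G) * a * (k : G)⁻¹ ∈ comp D a → k = 1 := by
    intro k hk h
    have hki := mem_centralizer_singleton_iff.1 k.2
    have hKG : K.map C.subtype ⊓ (centralizer ({a} : Set G) ⊓ centralizer ({b} : Set G)) = ⊥ := by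
      refine B.pair_odd a ha b hb _ inf_le_right ?_ ?_
      · exact Odd.of_dvd_nat hKodd (by
          rw [Nat.card_congr (K.equivMapOfInjective C.subtype C.subtype_injective).toEquiv]
          exact card_dvd_of_le inf_le_left)
      · intro y hy n hn
        have hyC : y ∈ C := mem_centralizer_singleton_iff.2 (Commute.mul_right
          (mem_centralizer_singleton_iff.1 (mem_inf.1 hy).1)
          (mem_centralizer_singleton_iff.1 (mem_inf.1 hy).2))
        obtain ⟨⟨k', hk', rfl⟩, hn2⟩ := mem_inf.1 hn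
        exact mem_inf.2 ⟨⟨⟨y, hyC⟩ * k' * ⟨y, hyC⟩⁻¹, hKn.conj_mem _ hk' _, rfl⟩,
          mul_mem (mul_mem hy hn2) (inv_mem hy)⟩
    have hka : Commute ((k : G) ^ 2) a := by
      rcases B.pair_moved ha hb hki h with e | e
      · have hk0 : Commute (k : G) a := mul_inv_eq_iff_eq_mul.1 e
        exact hk0.pow_left 2
      · have e' : (k : G) * b * (k : G)⁻¹ = a := by
          have hc : (k : G) * (a * b) * (k : G)⁻¹ = a * b := by rw [hki, mul_inv_cancel_right]
          rw [show (k : G) * (a * b) * (k : G)⁻¹ = (k : G) * a * (k : G)⁻¹ * ((k : G) * b * (k : G)⁻¹) by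
            group, e, hb.2.2.eq] at hc
          exact mul_left_cancel hc
        rw [pow_two]
        show (k : G) * k * a = a * ((k : G) * k)
        calc (k : G) * k * a = (k : G) * ((k : G) * a * (k : G)⁻¹) * (k : G)⁻¹ * ((k : G) * k) := by
              simp only [mul_assoc, inv_mul_cancel_left, inv_mul_cancel, mul_one]
          _ = a * ((k : G) * k) := by rw [e, e']
    obtain ⟨r, hr⟩ : Odd (orderOf (k : G)) := by
      refine Odd.of_dvd_nat hKodd ?_
      rw [orderOf_coe, show k = ((⟨k, hk⟩ : K) : C) from rfl, orderOf_coe]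
      exact orderOf_dvd_natCard _
    have hk1 : Commute (k : G) a := by
      have h2 := hka.pow_left (r + 1)
      rwa [← pow_mul, show 2 * (r + 1) = orderOf (k : G) + 1 by omega, pow_succ,
        pow_orderOf_eq_one, one_mul] at h2
    have hk2 : Commute (k : G) b := by
      have := hk1.mul_right (show Commute (k : G) (a * b) from hki)
      rwa [← mul_assoc, ha0, one_mul] at this
    have hm : (k : G) ∈ K.map C.subtype ⊓ (centralizer ({a} : Set G) ⊓ centralizer ({b} : Set G)) :=
      mem_inf.2 ⟨⟨k, hk, rfl⟩, mem_inf.2 ⟨mem_centralizer_singleton_iff.2 hk1,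
        mem_centralizer_singleton_iff.2 hk2⟩⟩
    rw [hKG, mem_bot] at hm
    exact Subtype.ext hm
  have hinv : ∀ w : C, (w : G) ∈ comp D a → ∀ k ∈ K, w * k * w = k⁻¹ := fun w hw =>
    inverts_of_fixed_free K hKn w (Subtype.ext (B.msq (comp_sub ha hw))) fun k hk hc => hfix k hk
      (B.moves ha hw hac (by
        rw [show (k : G) * w = w * k from congrArg Subtype.val hc.eq, mul_inv_cancel_right]; exact hw))
  have hK1 : ∀ k ∈ K, k = 1 := by
    intro k hk
    -- the five members of a line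
    obtain ⟨x, hxS, hxne⟩ := Set.exists_ne_of_one_lt_ncard (s := {w | w ∈ nbrs D a ∧ f a w = f a b})
      (by rw [B.fibre_card a ha]; norm_num) b
    obtain ⟨y, hy, z, hz, ey, ez, -, -, -, -, -, hl⟩ := B.line_rest ha hb hxS.1 hxS.2 (Ne.symm hxne)
    have hmem : ∀ w ∈ nbrs D a, f a w = f a b → ∃ W : C, (W : G) = w ∧ ∀ k ∈ K, W * k * W = k⁻¹ := by
      intro w hw e
      have hwb : Commute w b := ((B.comm a ha b hb w hw).2 (Or.inl e.symm)).symm
      exact ⟨⟨w, mem_centralizer_singleton_iff.2 (hw.2.2.symm.mul_right hwb).eq⟩, rfl,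
        hinv _ (Relation.ReflTransGen.single hw)⟩
    obtain ⟨X, hX, hX'⟩ := hmem x hxS.1 hxS.2
    obtain ⟨Y, hY, hY'⟩ := hmem y hy ey
    obtain ⟨Z, hZ, hZ'⟩ := hmem z hz ez
    obtain ⟨W, hW, hW'⟩ := hmem b hb rfl
    have hA := hinv A hac
    -- `Y Z = A W X`
    have e : A * W * X = Y * Z := Subtype.ext (by simpa [hX, hY, hZ, hW, A] using hl)
    have sq : ∀ {V : C}, (V : G) ∈ D → V⁻¹ = V := fun hV => Subtype.ext (B.minv hV)
    have e1 : A * W * X * k * (A * W * X)⁻¹ = k⁻¹ := by
      rw [mul_inv_rev, mul_inv_rev, sq (V := X) (hX ▸ hxS.1.1), sq (V := W) (hW ▸ hb.1), sq (V := A) ha]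
      calc A * W * X * k * (X * (W * A)) = A * (W * (X * k * X) * W) * A := by simp only [mul_assoc]
        _ = k⁻¹ := by rw [hX' k hk, hW' _ (inv_mem hk), inv_inv, hA k hk]
    rw [e, mul_inv_rev, sq (V := Y) (hY ▸ hy.1), sq (V := Z) (hZ ▸ hz.1)] at e1
    have e2 : Y * Z * k * (Z * Y) = k := by
      calc Y * Z * k * (Z * Y) = Y * (Z * k * Z) * Y := by simp only [mul_assoc]
        _ = k := by rw [hZ' k hk, hY' _ (inv_mem hk), inv_inv]
    rw [e2] at e1
    have h2 : orderOf k ∣ 2 := orderOf_dvd_of_pow_eq_one (by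
      rw [pow_two]; nth_rewrite 2 [e1]; exact mul_inv_cancel k)
    have h3 : Odd (orderOf k) := Odd.of_dvd_nat hKodd (by
      rw [show k = ((⟨k, hk⟩ : K) : C) from rfl, orderOf_coe]; exact orderOf_dvd_natCard _)
    rcases (Nat.dvd_prime Nat.prime_two).1 h2 with e' | e'
    · exact orderOf_eq_one_iff.1 e'
    · rw [e'] at h3; exact absurd h3 (by decide)
  -- conclusion
  let g' : C := ⟨g, mem_centralizer_singleton_iff.2 hg⟩
  have hmemQ : A * g' * A⁻¹ * g'⁻¹ ∈ O.comap π := by
    rw [mem_comap, map_mul, map_mul, map_mul, map_inv, map_inv]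
    exact CfsgLib.Invol.zstar _ hisol (π g')
  rcases hK _ hmemQ with e | e <;> have e' := congrArg Subtype.val (hK1 _ e) <;>
    simp only [coe_mul, coe_inv, coe_one] at e'
  · change a * g * a⁻¹ * g⁻¹ = 1 at e'
    have e2 : g * a⁻¹ * g⁻¹ = a⁻¹ := by
      calc g * a⁻¹ * g⁻¹ = a⁻¹ * (a * g * a⁻¹ * g⁻¹) := by group
        _ = a⁻¹ := by rw [e', mul_one]
    rw [B.minv ha] at e2
    rw [e2]
    exact hac
  · change a * g * a⁻¹ * g⁻¹ * (a * b) = 1 at e'
    have e2 : g * a⁻¹ * g⁻¹ = a⁻¹ * (a * b)⁻¹ := by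
      calc g * a⁻¹ * g⁻¹ = a⁻¹ * (a * g * a⁻¹ * g⁻¹ * (a * b)) * (a * b)⁻¹ := by group
        _ = a⁻¹ * (a * b)⁻¹ := by rw [e', mul_one]
    rw [B.minv ha] at e2
    rw [e2, ← hi, inv_eq_of_mul_eq_one_right hii, hi, ← mul_assoc, ha0, one_mul]
    exact hbc

end Base

end CfsgLib.Recog.U6Cent
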