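import Cfsg.Agent.Lib.Recog.U6Cent.EndGraph
import Cfsg.Agent.Lib.Solvable.MinNormal
import Mathlib.GroupTheory.GroupAction.Quotient
import Cfsg.Prelude.Def_FischerSpaces
import Cfsg.Prelude.Def_SporadicB

/-!
The group generated by a component of a class with the local conditions: its order is that of `PSU₆(2)`, it is
perfect and has no solvable normal subgroup.
-/

set_option autoImplicit false
set_option linter.unusedSectionVars false

namespace CfsgLib.Recog.U6Cent

open CfsgLib.Invol (invol_mul_self invol_inv)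

variable {G : Type*} [Group G] {D : Set G} {P : Type*} {col : P → P → Prop} {f : G → G → P}

namespace Base

variable [Finite G] (L : Base D P col f) {a : G} (ha : a ∈ D)
include L ha

theorem sq {x : G} (hx : x ∈ comp D a) : x * x = 1 := invol_mul_self (L.invol _ (comp_sub ha hx))

theorem conj_invariant {g : G} (hg : g ∈ Subgroup.closure (comp D a)) :
    ∀ x ∈ comp D a, g * x * g⁻¹ ∈ comp D a := by
  induction hg using Subgroup.closure_induction with
  | mem d hd =>
    intro x hx
    have h := L.comp_conj d (comp_eq ha hd ▸ hx : x ∈ comp D d)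
    rwa [mul_inv_cancel_right, comp_eq ha hd] at h
  | one => intro x hx; simpa using hx
  | mul g h _ _ ihg ihh =>
    intro x hx
    have := ihg _ (ihh x hx)
    simpa [mul_assoc] using this
  | inv g _ ih =>
    intro x hx
    haveI : Finite (comp D a) := Set.Finite.to_subtype (Set.toFinite _)
    let φ : comp D a → comp D a := fun y => ⟨_, ih y.1 y.2⟩
    have hinj : Function.Injective φ := fun y y' e =>
      Subtype.ext (mul_left_cancel (mul_right_cancel (congrArg Subtype.val e)))
    obtain ⟨⟨y, hy⟩, e⟩ := Finite.injective_iff_surjective.1 hinj ⟨x, hx⟩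
    have e' : g * y * g⁻¹ = x := congrArg Subtype.val e
    rw [← e']
    simpa [mul_assoc] using hy

theorem noncomm_conj {x y : G} (hx : x ∈ comp D a) (hy : y ∈ comp D a) (hnc : ¬ Commute x y) :
    ∃ k ∈ Subgroup.closure (comp D a), k * x * k⁻¹ = y := by
  refine ⟨x * y, mul_mem (Subgroup.subset_closure hx) (Subgroup.subset_closure hy), ?_⟩
  have sx := L.sq ha hx
  have sy := L.sq ha hy
  have h3 : (x * y) ^ 3 = 1 := by
    refine (L.comp_prod ha hx hy).resolve_left fun h => hnc ?_
    rw [pow_two] at h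
    have := inv_eq_of_mul_eq_one_right h
    rw [mul_inv_rev, inv_eq_of_mul_eq_one_right sx, inv_eq_of_mul_eq_one_right sy] at this
    exact this.symm
  rw [mul_inv_rev, inv_eq_of_mul_eq_one_right sx, inv_eq_of_mul_eq_one_right sy]
  calc x * y * x * (y * x) = (x * y) ^ 3 * y := by
        simp only [pow_succ, pow_zero, one_mul, mul_assoc, sy, mul_one]
    _ = y := by rw [h3, one_mul]

theorem transitive {x y : G} (hx : x ∈ comp D a) (hy : y ∈ comp D a) :
    ∃ k ∈ Subgroup.closure (comp D a), k * x * k⁻¹ = y := by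
  by_cases hc : Commute x y
  swap
  · exact L.noncomm_conj ha hx hy hc
  by_cases he : x = y
  · exact ⟨1, one_mem _, by simpa using he⟩
  have hxD := comp_sub ha hx
  have hyn : y ∈ nbrs D x := ⟨comp_sub ha hy, Ne.symm he, hc⟩
  -- a member at distance two from the first and not commuting with the second
  obtain ⟨w, hw, hwy⟩ : ∃ w ∈ L.far x, ¬ Commute y w := by
    by_contra! h
    have hsub : L.far x ⊆ nbrs D y := fun w hw =>
      ⟨hw.1, fun e => hw.2.1 (e ▸ hyn.2.2), h w hw⟩
    have := Set.ncard_le_ncard hsub (Set.toFinite _)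
    rw [L.card_far hxD, L.card_nbr hyn.1] at this
    omega
  have hwc : w ∈ comp D a := comp_eq ha hx ▸ L.far_subset hw
  obtain ⟨k, hk, ek⟩ := L.noncomm_conj ha hx hwc hw.2.1
  obtain ⟨l, hl, el⟩ := L.noncomm_conj ha hwc hy fun h => hwy h.symm
  refine ⟨l * k, mul_mem hl hk, ?_⟩
  rw [← el, ← ek]; group

theorem nbrs_le {x : G} (hx : x ∈ comp D a) :
    Subgroup.closure (nbrs D x) ≤ Subgroup.closure (comp D a) := by
  rw [← comp_eq ha hx]
  exact Subgroup.closure_mono fun y hy => Relation.ReflTransGen.single hy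

omit ha in
theorem nbrs_le_cent {x : G} :
    Subgroup.closure (nbrs D x) ≤ Subgroup.centralizer ({x} : Set G) :=
  (Subgroup.closure_le _).2 fun _ hy => Subgroup.mem_centralizer_singleton_iff.2 hy.2.2.eq.symm

/-- The class inside the group it generates. -/
def D0 (_L : Base D P col f) (_ha : a ∈ D) : Set (Subgroup.closure (comp D a)) :=
  {x | (x : G) ∈ comp D a}

theorem card_group : Nat.card (Subgroup.closure (comp D a)) = 9196830720 ∨
    Nat.card (Subgroup.closure (comp D a)) = 18393661440 := by
  classical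
  let φ : Subgroup.closure (comp D a) →* ConjAct G :=
    ConjAct.toConjAct.toMonoidHom.comp (Subgroup.closure (comp D a)).subtype
  letI : MulAction (Subgroup.closure (comp D a)) G := MulAction.compHom G φ
  have hsmul : ∀ (k : Subgroup.closure (comp D a)) (y : G), k • y = (k : G) * y * (k : G)⁻¹ :=
    fun k y => ConjAct.toConjAct_smul _ _
  haveI := Fintype.ofFinite G
  have horb : MulAction.orbit (Subgroup.closure (comp D a)) a = comp D a := by
    ext y
    rw [MulAction.mem_orbit_iff]
    constructor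
    · rintro ⟨k, rfl⟩
      rw [hsmul]
      exact L.conj_invariant ha k.2 _ (mem_comp_self a)
    · intro hy
      obtain ⟨k, hk, e⟩ := L.transitive ha (mem_comp_self a) hy
      exact ⟨⟨k, hk⟩, by rw [hsmul]; exact e⟩
  set S := Subgroup.centralizer ({a} : Set G) ⊓ Subgroup.closure (comp D a)
  have hS : Nat.card S = 13271040 ∨ Nat.card S = 26542080 := by
    have h1 := Subgroup.card_dvd_of_le
      (le_inf L.nbrs_le_cent (L.nbrs_le ha (mem_comp_self a)) : Subgroup.closure (nbrs D a) ≤ S)
    rw [L.gen_card a ha] at h1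
    have h2 : Nat.card S ∣ Nat.card (Subgroup.centralizer ({a} : Set G)) :=
      Subgroup.card_dvd_of_le inf_le_left
    rcases L.cent_card a ha with h | h <;> rw [h] at h2
    · exact Or.inl (Nat.dvd_antisymm h2 h1)
    · obtain ⟨k, hk⟩ := h1
      rw [hk, show 26542080 = 13271040 * 2 by norm_num] at h2
      have := Nat.le_of_dvd (by norm_num) (Nat.dvd_of_mul_dvd_mul_left (by norm_num) h2)
      have hpos : 0 < k := Nat.pos_of_ne_zero fun e => by rw [e, mul_zero] at hk; exact Nat.card_pos.ne' hk
      interval_cases k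
      · exact Or.inl (hk.trans (mul_one _))
      · exact Or.inr (hk.trans (by norm_num))
  have hst : Nat.card (MulAction.stabilizer (Subgroup.closure (comp D a)) a) = Nat.card S := by
    have hmem : ∀ k : Subgroup.closure (comp D a), k ∈ MulAction.stabilizer _ a ↔
        (k : G) ∈ Subgroup.centralizer ({a} : Set G) := fun k => by
      rw [MulAction.mem_stabilizer_iff, hsmul, Subgroup.mem_centralizer_singleton_iff, mul_inv_eq_iff_eq_mul]
    exact Nat.card_congr ⟨fun k => ⟨k.1.1, (hmem k.1).1 k.2, k.1.2⟩,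
      fun g => ⟨⟨g.1, g.2.2⟩, (hmem _).2 g.2.1⟩,
      fun k => rfl, fun g => rfl⟩
  have key := Nat.card_congr (MulAction.orbitProdStabilizerEquivGroup (Subgroup.closure (comp D a)) a)
  rw [Nat.card_prod, hst, horb, Nat.card_coe_set_eq, L.card_comp ha] at key
  rcases hS with h | h <;> rw [h] at key <;> omega

theorem isClass0 : Cfsg.IsThreeTranspositionClass (L.D0 ha) := by
  refine ⟨⟨fun x hx => ?_, fun x hx y hy => ?_⟩, ⟨⟨a, Subgroup.subset_closure (mem_comp_self a)⟩,
    mem_comp_self a, ?_⟩, Subgroup.closure_preimage_eq_top _⟩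
  · rw [← Subgroup.orderOf_coe]; exact L.invol _ (comp_sub ha hx)
  · exact (L.comp_prod ha hx hy).imp (fun h => Subtype.ext (by simpa using h))
      fun h => Subtype.ext (by simpa using h)
  · ext x
    constructor
    · intro hx
      obtain ⟨k, hk, e⟩ := L.transitive ha (mem_comp_self a) hx
      exact isConj_iff.2 ⟨⟨k, hk⟩, Subtype.ext e⟩
    · intro hx
      obtain ⟨k, rfl⟩ := isConj_iff.1 (show IsConj _ x from hx)
      exact L.conj_invariant ha k.2 _ (mem_comp_self a)

/-- Every member is a product of four others. -/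
theorem five {x : G} (hx : x ∈ comp D a) : ∃ b ∈ comp D a, ∃ c ∈ comp D a, ∃ d ∈ comp D a,
    ∃ e ∈ comp D a, x * b * c * d * e = 1 := by
  have hxD := comp_sub ha hx
  haveI := L.finite_P
  have : Nonempty P := (Nat.card_pos_iff.1 (by rw [L.card_points]; decide)).1
  obtain ⟨p⟩ := this
  obtain ⟨b, c, d, e, n1, n2, n3, n4, n5, n6, hs⟩ := Set.ncard_eq_four.1 (L.fibre_card x hxD p)
  have hm : ∀ y ∈ ({b, c, d, e} : Set G), y ∈ nbrs D x ∧ f x y = p := fun y hy => hs.symm.subset hy
  have hcp : ∀ y ∈ ({b, c, d, e} : Set G), y ∈ comp D a := fun y hy =>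
    Relation.ReflTransGen.tail hx (hm y hy).1
  obtain ⟨hb, eb⟩ := hm b (by simp)
  obtain ⟨hc, ec⟩ := hm c (by simp)
  obtain ⟨hd, ed⟩ := hm d (by simp)
  obtain ⟨he, ee⟩ := hm e (by simp)
  exact ⟨b, hcp b (by simp), c, hcp c (by simp), d, hcp d (by simp), e, hcp e (by simp),
    L.line_prod x hxD b hb c hc d hd e he (ec.trans eb.symm) (ed.trans eb.symm) (ee.trans eb.symm)
      n1 n2 n3 n4 n5 n6⟩

theorem perfect0 : commutator (Subgroup.closure (comp D a)) = ⊤ := by
  let π := Abelianization.of (G := Subgroup.closure (comp D a))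
  have hgen : ∀ x : Subgroup.closure (comp D a), (x : G) ∈ comp D a → π x = 1 := by
    intro x hx
    obtain ⟨b, hb, c, hc, d, hd, e, he, h⟩ := L.five ha hx
    have hcl := (L.isClass0 ha).2.1
    obtain ⟨o, ho, eo⟩ := hcl
    have hsame : ∀ y : Subgroup.closure (comp D a), (y : G) ∈ comp D a → π y = π o := fun y hy => by
      obtain ⟨k, rfl⟩ := isConj_iff.1 (eo.subset hy : IsConj o y)
      rw [map_mul, map_mul, map_inv, mul_comm (π k), mul_inv_cancel_right]
    have h2 : π o * π o = 1 := by
      rw [← map_mul, show o * o = 1 from Subtype.ext (L.sq ha ho), map_one]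
    have h5 : π (x * ⟨b, Subgroup.subset_closure hb⟩ * ⟨c, Subgroup.subset_closure hc⟩ *
        ⟨d, Subgroup.subset_closure hd⟩ * ⟨e, Subgroup.subset_closure he⟩) = 1 := by
      rw [show x * ⟨b, Subgroup.subset_closure hb⟩ * ⟨c, Subgroup.subset_closure hc⟩ *
        ⟨d, Subgroup.subset_closure hd⟩ * ⟨e, Subgroup.subset_closure he⟩ = 1 from Subtype.ext h, map_one]
    rw [map_mul, map_mul, map_mul, map_mul, hsame x hx, hsame ⟨b, _⟩ hb, hsame ⟨c, _⟩ hc,
      hsame ⟨d, _⟩ hd, hsame ⟨e, _⟩ he, h2, one_mul, h2, one_mul] at h5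
    rw [hsame x hx, h5]
  have hle : (⊤ : Subgroup (Subgroup.closure (comp D a))) ≤ π.ker := by
    rw [← (L.isClass0 ha).2.2, Subgroup.closure_le]
    exact fun x hx => hgen x hx
  rwa [Abelianization.ker_of, top_le_iff] at hle

theorem no_solvable (N : Subgroup (Subgroup.closure (comp D a))) (hN : N.Normal)
    (hs : Group.IsSolvable N) : N = ⊥ := by
  by_contra hne
  obtain ⟨M, hM, hMne, hMN, hmin⟩ := CfsgLib.Solvable.exists_minimal_normal_le hN hne
  haveI := hM
  haveI : Group.IsSolvable M := Group.isSolvable_of_isSolvable_injective (f := Subgroup.inclusion hMN)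
    (Subgroup.inclusion_injective hMN)
  obtain ⟨p, hp, hpM, hexp, hcomm⟩ := CfsgLib.Solvable.exists_isPGroup_of_minimal_normal hMne hmin
  -- the part centralising a member
  have hfix : ∀ d : Subgroup.closure (comp D a), (d : G) ∈ comp D a →
      (∀ m ∈ M, m * (d * m * d) = d * m * d * m ∧ Commute d (m * (d * m * d))) := by
    intro d hd m hm
    have sd : d * d = 1 := Subtype.ext (L.sq ha hd)
    have hm' : d * m * d ∈ M := by
      have := hM.conj_mem m hm d
      rwa [inv_eq_of_mul_eq_one_right sd] at this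
    have hc : m * (d * m * d) = d * m * d * m :=
      congrArg Subtype.val (hcomm.is_comm.comm ⟨m, hm⟩ ⟨_, hm'⟩)
    refine ⟨hc, ?_⟩
    show d * (m * (d * m * d)) = m * (d * m * d) * d
    conv_rhs => rw [hc]
    simp only [mul_assoc, sd, mul_one]
  have hC : ∀ d : Subgroup.closure (comp D a), (d : G) ∈ comp D a → ∀ Nd : Subgroup G,
      Nd = M.map (Subgroup.closure (comp D a)).subtype ⊓ Subgroup.centralizer ({(d : G)} : Set G) →
      IsPGroup p Nd ∧ ∀ g ∈ Subgroup.closure (nbrs D (d : G)), ∀ n ∈ Nd, g * n * g⁻¹ ∈ Nd := by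
    rintro d hd _ rfl
    refine ⟨(hpM.map _).to_le inf_le_left, fun g hg n hn => ⟨?_, Subgroup.mul_mem _ (Subgroup.mul_mem _ (L.nbrs_le_cent hg) hn.2) (Subgroup.inv_mem _ (L.nbrs_le_cent hg))⟩⟩
    obtain ⟨m, hm, rfl⟩ := hn.1
    exact ⟨(⟨g, L.nbrs_le ha hd hg⟩ : Subgroup.closure (comp D a)) * m *
      (⟨g, L.nbrs_le ha hd hg⟩ : Subgroup.closure (comp D a))⁻¹, hM.conj_mem m hm _, rfl⟩
  rcases hp.eq_two_or_odd' with rfl | hodd
  · -- a two-group would contain the whole class
    have hall : ∀ d : Subgroup.closure (comp D a), (d : G) ∈ comp D a → d ∈ M := by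
      intro d hd
      obtain ⟨h1, h2⟩ := hC d hd _ rfl
      have sd : d * d = 1 := Subtype.ext (L.sq ha hd)
      have hne' : M.map (Subgroup.closure (comp D a)).subtype ⊓
          Subgroup.centralizer ({(d : G)} : Set G) ≠ ⊥ := by
        intro hbot
        obtain ⟨⟨m, hm⟩, hm1⟩ := Subgroup.ne_bot_iff_exists_ne_one.1 hMne
        obtain ⟨hc, hcd⟩ := hfix d hd m hm
        have hz : ∀ n ∈ M, Commute d n → n = 1 := fun n hn hdn => by
          have h3 : (n : G) ∈ M.map (Subgroup.closure (comp D a)).subtype ⊓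
              Subgroup.centralizer ({(d : G)} : Set G) :=
            ⟨⟨n, hn, rfl⟩, Subgroup.mem_centralizer_singleton_iff.2 (congrArg Subtype.val hdn.eq).symm⟩
          rw [hbot, Subgroup.mem_bot] at h3
          exact Subtype.ext h3
        have hm' : m * (d * m * d) ∈ M := mul_mem hm (by
          have := hM.conj_mem m hm d
          rwa [inv_eq_of_mul_eq_one_right sd] at this)
        have h4 : d * m * d = m := by
          rw [← inv_eq_of_mul_eq_one_right (hz _ hm' hcd)]
          exact inv_eq_of_mul_eq_one_right (by rw [← pow_two, hexp m hm])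
        refine hm1 (Subtype.ext (hz m hm ?_))
        show d * m = m * d
        conv_rhs => rw [← h4, mul_assoc, sd, mul_one]
      obtain ⟨m, hm, e⟩ := (Subgroup.mem_inf.1
        (L.cent_two d (comp_sub ha hd) _ inf_le_right h1 hne' h2)).1
      exact (Subtype.ext e : m = d) ▸ hm
    have hT : M = ⊤ := by
      rw [eq_top_iff, ← (L.isClass0 ha).2.2, Subgroup.closure_le]
      exact fun x hx => hall x hx
    have h2 : IsPGroup 2 (⊤ : Subgroup (Subgroup.closure (comp D a))) := hT ▸ hpM
    have hcard := IsPGroup.iff_card.1 h2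
    obtain ⟨n, hn⟩ := hcard
    rw [Subgroup.card_top] at hn
    have : 3 ∣ 2 ^ n := by
      rcases L.card_group ha with h | h <;> rw [h] at hn <;> rw [← hn] <;> norm_num
    exact absurd (Nat.le_of_dvd (by norm_num) (Nat.prime_three.dvd_of_dvd_pow this)) (by norm_num)
  · -- an odd group is inverted and centralised by every member
    have hinv : ∀ d : Subgroup.closure (comp D a), (d : G) ∈ comp D a → ∀ m ∈ M, d * m * d = m⁻¹ := by
      intro d hd m hm
      obtain ⟨h1, h2⟩ := hC d hd _ rfl
      haveI : Fact p.Prime := ⟨hp⟩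
      obtain ⟨k, hk⟩ := IsPGroup.iff_card.1 h1
      have hbot := L.cent_odd d (comp_sub ha hd) _ inf_le_right (hk ▸ hodd.pow) h2
      obtain ⟨hc, hcd⟩ := hfix d hd m hm
      have hm' : m * (d * m * d) ∈ M := mul_mem hm (by
        have := hM.conj_mem m hm d
        rwa [inv_eq_of_mul_eq_one_right (show d * d = 1 from Subtype.ext (L.sq ha hd))] at this)
      have hmem : ((m * (d * m * d) : Subgroup.closure (comp D a)) : G) ∈
          M.map (Subgroup.closure (comp D a)).subtype ⊓ Subgroup.centralizer ({(d : G)} : Set G) :=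
        ⟨⟨_, hm', rfl⟩, Subgroup.mem_centralizer_singleton_iff.2 (congrArg Subtype.val hcd.eq).symm⟩
      rw [hbot, Subgroup.mem_bot] at hmem
      exact (inv_eq_of_mul_eq_one_right (Subtype.ext hmem)).symm
    obtain ⟨⟨m, hm⟩, hm1⟩ := Subgroup.ne_bot_iff_exists_ne_one.1 hMne
    obtain ⟨b, hb, c, hc, d, hd, e, he, h⟩ := L.five ha (mem_comp_self a)
    refine hm1 (Subtype.ext ?_)
    have move : ∀ x : Subgroup.closure (comp D a), (x : G) ∈ comp D a → ∀ n ∈ M, x * n = n⁻¹ * x :=
      fun x hx n hn => by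
        have sx : x * x = 1 := Subtype.ext (L.sq ha hx)
        calc x * n = x * n * x * x := by rw [mul_assoc, sx, mul_one]
          _ = n⁻¹ * x := by rw [hinv x hx n hn]
    set A : Subgroup.closure (comp D a) := ⟨a, Subgroup.subset_closure (mem_comp_self a)⟩
    set B : Subgroup.closure (comp D a) := ⟨b, Subgroup.subset_closure hb⟩
    set C : Subgroup.closure (comp D a) := ⟨c, Subgroup.subset_closure hc⟩
    set D' : Subgroup.closure (comp D a) := ⟨d, Subgroup.subset_closure hd⟩
    set E : Subgroup.closure (comp D a) := ⟨e, Subgroup.subset_closure he⟩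
    have h1 : A * B * C * D' * E = 1 := Subtype.ext h
    have mA := move A (mem_comp_self a)
    have mB := move B hb
    have mC := move C hc
    have mD := move D' hd
    have mE := move E he
    have key : A * B * C * D' * E * m = m⁻¹ * (A * B * C * D' * E) := by
      rw [mul_assoc _ E, mE m hm, ← mul_assoc, mul_assoc _ D', mD _ (inv_mem hm), inv_inv, ← mul_assoc,
        mul_assoc _ C, mC m hm, ← mul_assoc, mul_assoc A B, mB _ (inv_mem hm), inv_inv, ← mul_assoc,
        mA m hm]
      simp only [mul_assoc]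
    rw [h1, one_mul, mul_one] at key
    have h2 : m ^ 2 = 1 := by rw [pow_two]; nth_rewrite 1 [key]; exact inv_mul_cancel m
    obtain ⟨k, hk⟩ := hodd
    have h3 := hexp m hm
    rwa [hk, pow_succ, pow_mul, h2, one_pow, one_mul] at h3

end Base

end CfsgLib.Recog.U6Cent
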