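import Cfsg.Agent.Lib.Recog.U6Cent.EndGroup

/-!
Products of two or three commuting members of a component.
-/

set_option autoImplicit false
set_option linter.unusedSectionVars false

namespace CfsgLib.Recog.U6Cent

open CfsgLib.Invol (invol_mul_self invol_inv)

variable {G : Type*} [Group G] {D : Set G} {P : Type*} {col : P → P → Prop} {f : G → G → P}

/-- A product of two distinct commuting members. -/
def IsPairProd (D : Set G) (g : G) : Prop := ∃ d ∈ D, ∃ e ∈ nbrs D d, g = d * e

/-- `b`, `c` are commuting members around `a` over two different points. -/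
structure IsTriple (D : Set G) (f : G → G → P) (a b c : G) : Prop where
  mem : a ∈ D
  left : b ∈ nbrs D a
  right : c ∈ nbrs D a
  comm : Commute b c
  ne : f a b ≠ f a c

namespace Base

variable [Finite G] (B : Base D P col f)
include B

theorem msq {x : G} (hx : x ∈ D) : x * x = 1 := invol_mul_self (B.invol _ hx)

theorem minv {x : G} (hx : x ∈ D) : x⁻¹ = x := invol_inv (B.invol _ hx)

theorem mne {x : G} (hx : x ∈ D) : x ≠ 1 := fun e => by
  have := B.invol _ hx
  rw [e, orderOf_one] at this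
  exact absurd this (by decide)

theorem braid_eq {o x y : G} (ho : o ∈ D) (hx : x ∈ comp D o) (hy : y ∈ comp D o)
    (h : ¬ Commute x y) : x * y * x = y * x * y := by
  have sx := B.minv (comp_sub ho hx)
  have sy := B.minv (comp_sub ho hy)
  rcases B.comp_prod ho hx hy with e | e
  · refine absurd ?_ h
    rw [pow_two] at e
    have := inv_eq_of_mul_eq_one_right e
    rw [mul_inv_rev, sx, sy] at this
    exact this.symm
  · rw [show (x * y) ^ 3 = x * y * x * (y * x * y) by simp only [pow_succ, pow_zero, one_mul, mul_assoc]] at e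
    rw [eq_inv_of_mul_eq_one_left e, mul_inv_rev, mul_inv_rev, sx, sy, mul_assoc]

/-- A member commuting with a product of two commuting members commutes with both. -/
theorem comm_two {o x y d : G} (ho : o ∈ D) (hx : x ∈ comp D o) (hy : y ∈ comp D o) (hd : d ∈ comp D o)
    (hne : x ≠ y) (hxy : Commute x y) (h : Commute d (x * y)) : Commute d x ∧ Commute d y := by
  have sx := B.msq (comp_sub ho hx)
  have sy := B.msq (comp_sub ho hy)
  have sd := B.msq (comp_sub ho hd)
  have hx' : Commute d y → Commute d x := fun hdy => by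
    have := h.mul_right hdy
    rwa [mul_assoc, sy, mul_one] at this
  have hy' : Commute d x → Commute d y := fun hdx => by
    have := hdx.mul_right h
    rwa [← mul_assoc, sx, one_mul] at this
  by_cases hc : Commute d x
  · exact ⟨hc, hy' hc⟩
  exfalso
  have e2 : y * d * y = x * d * x := by
    calc y * d * y = y * d * ((x * x) * y) := by rw [sx, one_mul]
      _ = y * (d * (x * (x * y))) := by simp only [mul_assoc]
      _ = y * (d * (x * y) * x) := by rw [mul_assoc d (x * y), mul_assoc x y x, ← hxy.eq]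
      _ = y * (x * y * d * x) := by rw [h.eq]
      _ = (y * (x * y)) * (d * x) := by simp only [mul_assoc]
      _ = x * d * x := by rw [hxy.eq, ← mul_assoc y, sy, one_mul, mul_assoc]
  rw [B.braid_eq ho hy hd fun e => hc (hx' e.symm), B.braid_eq ho hx hd fun e => hc e.symm] at e2
  exact hne (mul_left_cancel (mul_right_cancel e2)).symm

/-- A member commuting with a product of three commuting members commutes with each. -/
theorem comm_three {o x y w d : G} (ho : o ∈ D) (hx : x ∈ comp D o) (hy : y ∈ comp D o)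
    (hw : w ∈ comp D o) (hd : d ∈ comp D o) (hxy' : x ≠ y) (hyw' : y ≠ w) (hxw' : x ≠ w)
    (hxy : Commute x y) (hyw : Commute y w) (hxw : Commute x w) (h : Commute d (x * y * w)) :
    Commute d x ∧ Commute d y ∧ Commute d w := by
  have sx := B.msq (comp_sub ho hx)
  have sy := B.msq (comp_sub ho hy)
  have sd := B.msq (comp_sub ho hd)
  have sw := B.msq (comp_sub ho hw)
  by_cases h1 : Commute d x
  · have : Commute d (y * w) := by
      have := h1.mul_right h
      rwa [← mul_assoc, ← mul_assoc, sx, one_mul] at this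
    exact ⟨h1, B.comm_two ho hy hw hd hyw' hyw this⟩
  by_cases h2 : Commute d y
  · have : Commute d (x * w) := by
      have := h2.mul_right h
      rwa [← mul_assoc, ← mul_assoc, ← hxy.eq, mul_assoc x y y, sy, mul_one] at this
    obtain ⟨e1, e2⟩ := B.comm_two ho hx hw hd hxw' hxw this
    exact ⟨e1, h2, e2⟩
  by_cases h3 : Commute d w
  · have : Commute d (x * y) := by
      have := h.mul_right h3
      rwa [mul_assoc _ w w, sw, mul_one] at this
    exact absurd (B.comm_two ho hx hy hd hxy' hxy this).1 h1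
  exfalso
  -- all three move `d`
  have e1 : x * (w * d * w) * x = y * d * y := by
    have h' : x * y * w * d = d * (x * y * w) := h.eq.symm
    calc x * (w * d * w) * x = y * (x * y * w * d) * w * x := by
          rw [hxy.eq]; simp only [mul_assoc]; rw [← mul_assoc y y, sy, one_mul]
      _ = y * d * ((x * y * w) * w * x) := by rw [h']; simp only [mul_assoc]
      _ = y * d * y := by rw [mul_assoc (x * y), sw, mul_one, hxy.eq, mul_assoc y x x, sx, mul_one]
  rw [B.braid_eq ho hw hd (fun e => h3 e.symm), B.braid_eq ho hy hd (fun e => h2 e.symm)] at e1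
  set e := d * x * d with he
  have hee : e = x * d * x := B.braid_eq ho hd hx h1
  have hec : e ∈ comp D o := by
    have := B.conj_invariant ho (Subgroup.subset_closure hd) x hx
    rwa [B.minv (comp_sub ho hd)] at this
  have e3 : e * w * e = y := by
    calc e * w * e = d * (x * (d * w * d) * x) * d := by simp only [he, mul_assoc]
      _ = (d * d) * y * (d * d) := by rw [e1]; simp only [mul_assoc]
      _ = y := by rw [sd, one_mul, mul_one]
  by_cases hew : Commute e w
  · rw [hew.eq, mul_assoc, B.msq (comp_sub ho hec), mul_one] at e3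
    exact hyw' e3.symm
  rw [B.braid_eq ho hec hw hew] at e3
  have e4 : e = y := by
    calc e = w * (w * e * w) * w := by simp only [← mul_assoc, sw, one_mul]; rw [mul_assoc, sw, mul_one]
      _ = y := by rw [e3, ← hyw.eq, mul_assoc, sw, mul_one]
  rw [hee] at e4
  have e5 : d = y := by
    calc d = x * (x * d * x) * x := by simp only [← mul_assoc, sx, one_mul]; rw [mul_assoc, sx, mul_one]
      _ = y := by rw [e4, hxy.eq, mul_assoc, sx, mul_one]
  exact h1 (e5 ▸ hxy.symm)

theorem exists_sep {a b c : G} (h : IsTriple D f a b c) :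
    ∃ z ∈ nbrs D a, Commute z b ∧ ¬ Commute z c := by
  have hc := ((B.comm a h.mem b h.left c h.right).1 h.comm).resolve_left h.ne
  obtain ⟨r, hr, hrq, hnr⟩ := B.exists_distinguish hc
  obtain ⟨z, hz, rfl⟩ := B.exists_over h.mem r
  refine ⟨z, hz, ((B.comm a h.mem b h.left z hz).2 (Or.inr hr)).symm, fun e => ?_⟩
  rcases (B.comm a h.mem c h.right z hz).1 e.symm with e' | e'
  · exact hrq e'.symm
  · exact hnr e'

/-- The other two members of a line. -/
theorem line_rest {a b x : G} (ha : a ∈ D) (hb : b ∈ nbrs D a) (hx : x ∈ nbrs D a) (he : f a x = f a b)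
    (hne : b ≠ x) : ∃ y ∈ nbrs D a, ∃ z ∈ nbrs D a, f a y = f a b ∧ f a z = f a b ∧ y ≠ z ∧ b ≠ y ∧
      b ≠ z ∧ x ≠ y ∧ x ≠ z ∧ a * b * x = y * z := by
  have hcard : ({w | w ∈ nbrs D a ∧ f a w = f a b} \ {b, x}).ncard = 2 := by
    rw [Set.ncard_sdiff (by rintro w (rfl | rfl); exacts [⟨hb, rfl⟩, ⟨hx, he⟩]) (Set.toFinite _),
      B.fibre_card a ha, Set.ncard_pair hne]
  obtain ⟨y, z, hyz, hs⟩ := Set.ncard_eq_two.1 hcard
  obtain ⟨⟨hy, ey⟩, hy'⟩ := hs.symm.subset (Set.mem_insert y {z})
  obtain ⟨⟨hz, ez⟩, hz'⟩ := hs.symm.subset (Set.mem_insert_of_mem y (Set.mem_singleton z))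
  simp only [Set.mem_insert_iff, Set.mem_singleton_iff, not_or] at hy' hz'
  refine ⟨y, hy, z, hz, ey, ez, hyz, Ne.symm hy'.1, Ne.symm hz'.1, Ne.symm hy'.2, Ne.symm hz'.2, ?_⟩
  have h := B.line_prod a ha b hb x hx y hy z hz he ey ez hne (Ne.symm hy'.1) (Ne.symm hz'.1)
    (Ne.symm hy'.2) (Ne.symm hz'.2) hyz
  have hc : Commute y z := (B.comm a ha y hy z hz).2 (Or.inl (ey.trans ez.symm))
  rw [mul_assoc, mul_eq_one_iff_eq_inv, mul_inv_rev, B.minv hy.1, B.minv hz.1, ← hc.eq] at h
  exact h

theorem not_mem_pair {g : G} (h : IsPairProd D g) : g ∉ D := by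
  obtain ⟨x, hx, y, hy, rfl⟩ := h
  intro hs
  have hsx : x * y ∈ nbrs D x :=
    ⟨hs, fun e => B.mne hy.1 (mul_eq_left.1 e), (Commute.refl x).mul_right hy.2.2⟩
  have hne : y ≠ x * y := fun e => B.mne hx (mul_eq_right.1 e.symm)
  by_cases he : f x (x * y) = f x y
  · obtain ⟨c, hc, d, hd, -, -, hcd, -, -, -, -, h⟩ := B.line_rest hx hy hsx he hne
    rw [← mul_assoc, mul_assoc x y x, ← hy.2.2.eq, ← mul_assoc, B.msq hx, one_mul, B.msq hy.1] at h
    exact hcd ((eq_inv_of_mul_eq_one_left h.symm).trans (B.minv hd.1))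
  · obtain ⟨z, hz, h1, h2⟩ := B.exists_sep
      ⟨hx, hy, hsx, (hy.2.2.symm).mul_right (Commute.refl y), Ne.symm he⟩
    exact h2 (hz.2.2.symm.mul_right h1)

/-- Two commuting members are determined by their product. -/
theorem pair_unique {a b x : G} (ha : a ∈ D) (hb : b ∈ nbrs D a) (hx : x ∈ comp D a)
    (hc : Commute x (a * b)) (hD : x * (a * b) ∈ D) : x = a ∨ x = b := by
  by_contra! hne
  have hbc : b ∈ comp D a := Relation.ReflTransGen.single hb
  obtain ⟨hxa, hxb⟩ := B.comm_two ha (mem_comp_self a) hbc hx (Ne.symm hb.2.1) hb.2.2 hc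
  have hxn : x ∈ nbrs D a := ⟨comp_sub ha hx, hne.1, hxa.symm⟩
  by_cases he : f a x = f a b
  · obtain ⟨y, hy, z, hz, ey, ez, hyz, -, -, -, -, h⟩ := B.line_rest ha hb hxn he (Ne.symm hne.2)
    rw [← hc.symm.eq] at hD
    refine B.not_mem_pair ⟨y, hy.1, z, ⟨hz.1, hyz.symm, ?_⟩, h⟩ hD
    exact (B.comm a ha y hy z hz).2 (Or.inl (ey.trans ez.symm))
  · obtain ⟨z, hz, h1, h2⟩ := B.exists_sep ⟨ha, hb, hxn, hxb.symm, Ne.symm he⟩
    set y := x * (a * b) with hy
    have hya : Commute a y := hxa.symm.mul_right ((Commute.refl a).mul_right hb.2.2)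
    have hyn : y ∈ nbrs D a := by
      refine ⟨hD, fun e => hne.2 ?_, hya⟩
      rw [hy, hb.2.2.eq, ← mul_assoc, mul_eq_right] at e
      exact (eq_inv_of_mul_eq_one_left e).trans (B.minv hb.1)
    have hxy : x * y = a * b := by rw [hy, ← mul_assoc, B.msq hxn.1, one_mul]
    have hne' : x ≠ y := fun e => B.mne hb.1 (by
      rw [← e, B.msq hxn.1] at hxy
      exact absurd ((eq_inv_of_mul_eq_one_left hxy.symm).trans (B.minv hb.1)) hb.2.1.symm)
    refine h2 (B.comm_two ha hx (Relation.ReflTransGen.single hyn) (Relation.ReflTransGen.single hz) hne'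
      ((Commute.refl x).mul_right hc) ?_).1
    rw [hxy]
    exact hz.2.2.symm.mul_right h1

/-- An involution stabilising a component fixes a member of it. -/
theorem exists_fixed {o u b : G} (ho : o ∈ D) (hu : u * u = 1) (hb : b ∈ comp D o)
    (h : u * b * u⁻¹ ∈ comp D o) : ∃ w ∈ comp D o, Commute w u := by
  classical
  haveI := Fintype.ofFinite (comp D o)
  have hst : ∀ x ∈ comp D o, u * x * u⁻¹ ∈ comp D o := fun x hx => by
    rw [← comp_eq ho h]
    exact B.comp_conj u (comp_eq ho hb ▸ hx)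
  have hui : u⁻¹ = u := inv_eq_of_mul_eq_one_right hu
  let σ : Equiv.Perm (comp D o) :=
    { toFun := fun x => ⟨u * x.1 * u⁻¹, hst _ x.2⟩
      invFun := fun x => ⟨u * x.1 * u⁻¹, hst _ x.2⟩
      left_inv := fun x => Subtype.ext (by
        show u * (u * x.1 * u⁻¹) * u⁻¹ = x.1
        rw [hui, ← mul_assoc, ← mul_assoc, hu, one_mul, mul_assoc, hu, mul_one])
      right_inv := fun x => Subtype.ext (by
        show u * (u * x.1 * u⁻¹) * u⁻¹ = x.1
        rw [hui, ← mul_assoc, ← mul_assoc, hu, one_mul, mul_assoc, hu, mul_one]) }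
  haveI : Fact (Nat.Prime 2) := ⟨Nat.prime_two⟩
  obtain ⟨w, hw⟩ := Equiv.Perm.exists_fixed_point_of_prime (p := 2) (n := 1) (σ := σ)
    (by rw [← Nat.card_eq_fintype_card, Nat.card_coe_set_eq, B.card_comp ho]; decide)
    (Equiv.ext fun x => σ.left_inv x)
  refine ⟨w, w.2, ?_⟩
  have := congrArg Subtype.val hw
  exact (mul_inv_eq_iff_eq_mul.1 this).symm

theorem mem_of_stab {o u b : G} (ho : o ∈ D) (hu : u ∈ D) (hb : b ∈ comp D o)
    (h : u * b * u⁻¹ ∈ comp D o) : u ∈ comp D o := by
  obtain ⟨w, hw, hwu⟩ := B.exists_fixed ho (B.msq hu) hb h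
  by_cases e : u = w
  · exact e ▸ hw
  · exact Relation.ReflTransGen.tail hw ⟨hu, e, hwu⟩

theorem triple_swap {a b c : G} (h : IsTriple D f a b c) : IsTriple D f a c b :=
  ⟨h.mem, h.right, h.left, h.comm.symm, h.ne.symm⟩

theorem triple_rot {a b c : G} (h : IsTriple D f a b c) : IsTriple D f b c a := by
  have hbc : b ≠ c := fun e => h.ne (by rw [e])
  have ha' : a ∈ nbrs D b := nbrs_symm h.mem h.left
  have hc' : c ∈ nbrs D b := ⟨h.right.1, hbc.symm, h.comm⟩
  exact ⟨h.left.1, hc', ha', h.right.2.2.symm, fun e => h.ne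
    (B.line_symm h.left.1 ha' hc' e.symm h.right.2.1.symm)⟩

theorem triple_eq {a b c : G} (h : IsTriple D f a b c) :
    b * c * a = a * b * c ∧ a * c * b = a * b * c := by
  refine ⟨?_, by rw [mul_assoc, mul_assoc, h.comm.eq]⟩
  rw [mul_assoc, ← h.right.2.2.eq, ← mul_assoc, ← h.left.2.2.eq]

end Base

end CfsgLib.Recog.U6Cent
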