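import Cfsg.Agent.Lib.Recog.U6Cent.Basic
import Cfsg.Agent.Lib.InvChar.PackedMat

/-!
The 45 isotropic points of the four-dimensional Hermitian space over four elements.
-/

set_option autoImplicit false

namespace CfsgLib.Recog.U6Cent.Gq

open Cfsg CfsgLib.InvChar

/-- Codes of the normalised isotropic vectors. -/
def codes : Fin 45 → Fin 4 → Fin 4 :=
  ![![0, 0, 1, 1], ![0, 0, 1, 2], ![0, 0, 1, 3], ![0, 1, 0, 1], ![0, 1, 0, 2], ![0, 1, 0, 3], ![0, 1, 1, 0], ![0, 1, 2, 0], ![0, 1, 3, 0], ![1, 0, 0, 1], ![1, 0, 0, 2], ![1, 0, 0, 3], ![1, 0, 1, 0], ![1, 0, 2, 0], ![1, 0, 3, 0], ![1, 1, 0, 0], ![1, 1, 1, 1], ![1, 1, 1, 2], ![1, 1, 1, 3], ![1, 1, 2, 1], ![1, 1, 2, 2], ![1, 1, 2, 3], ![1, 1, 3, 1], ![1, 1, 3, 2], ![1, 1, 3, 3], ![1, 2, 0, 0], ![1, 2, 1, 1], ![1, 2, 1, 2], ![1, 2, 1, 3], ![1, 2, 2, 1], ![1, 2, 2, 2], ![1, 2, 2, 3], ![1, 2, 3, 1], ![1, 2, 3, 2],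 ![1, 2, 3, 3], ![1, 3, 0, 0], ![1, 3, 1, 1], ![1, 3, 1, 2], ![1, 3, 1, 3], ![1, 3, 2, 1], ![1, 3, 2, 2], ![1, 3, 2, 3], ![1, 3, 3, 1], ![1, 3, 3, 2], ![1, 3, 3, 3]]

/-- The normalised isotropic vectors. -/
def rep (i : Fin 45) (j : Fin 4) : FQ4 := ⟨codes i j⟩

/-- The form, written out. -/
def hq (u v : Fin 4 → FQ4) : FQ4 :=
  u 0 * (v 0 * v 0) + u 1 * (v 1 * v 1) + u 2 * (v 2 * v 2) + u 3 * (v 3 * v 3)

theorem herm_eq (u v : Fin 4 → FQ4) : hermForm 4 FQ4 2 u v = hq u v := by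
  simp only [hermForm, Fin.sum_univ_four, pow_two, hq]

/-- Orthogonality of the points. -/
def qc (i j : Fin 45) : Bool := (i != j) && decide (hq (rep i) (rep j) = 0)

theorem rep_facts :
    (∀ i, hq (rep i) (rep i) = 0 ∧ ∃ j, rep i j ≠ 0) ∧
      (∀ i j, ∀ k : FQ4, (∀ x, rep i x = k * rep j x) → i = j) := by
  refine ⟨by decide +kernel, by decide +kernel⟩

theorem rep_cover : ∀ a b c d : FQ4, hq ![a, b, c, d] ![a, b, c, d] = 0 →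
    (a ≠ 0 ∨ b ≠ 0 ∨ c ≠ 0 ∨ d ≠ 0) →
      ∃ i, ∃ k : FQ4, k ≠ 0 ∧ a = k * rep i 0 ∧ b = k * rep i 1 ∧ c = k * rep i 2 ∧ d = k * rep i 3 := by
  decide +kernel

theorem qc_counts :
    (∀ p, (Finset.univ.filter fun q => qc p q = true).card = 12) ∧
      (∀ p q, p ≠ q → (Finset.univ.filter fun r => (qc p r && qc q r) = true).card = 3) ∧
      (∀ p q, qc p q = qc q p) ∧ (∀ p, qc p p = false) := by
  refine ⟨by decide +kernel, by decide +kernel, by decide +kernel, by decide +kernel⟩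

theorem frob_mul (x y : FQ4) : (x * y) * (x * y) = (x * x) * (y * y) := by
  revert x y; decide

end CfsgLib.Recog.U6Cent.Gq
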