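import Cfsg.Prelude.Def_Classical
import Cfsg.Agent.Lib.Classical.SUCenter
import Cfsg.Agent.Lib.Classical.UnitaryGen

/-!
The group `SU₄(2)`: the diagonal torus, the coordinate swaps and one Fourier matrix generate it; relations.
-/

set_option autoImplicit false
set_option linter.unusedSectionVars false

namespace CfsgLib.Recog.U6Cent.Mod

open Matrix Cfsg

variable {F : Type*} [Field F] [Fintype F]

local notation "S4" => Cfsg.SU 4 F 2

/-- The action of an element on vectors. -/
def act (s : Cfsg.SU 4 F 2) (v : Fin 4 → F) : Fin 4 → F := (slToMat 4 F s.1) *ᵥ v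

theorem act_mul (s t : S4) (v : Fin 4 → F) : act (s * t) v = act s (act t v) := by
  simp [act, mulVec_mulVec]

theorem act_one (v : Fin 4 → F) : act (1 : S4) v = v := by simp [act]

theorem act_smul (s : S4) (k : F) (v : Fin 4 → F) : act s (k • v) = k • act s v :=
  Matrix.mulVec_smul _ _ _

theorem act_herm (s : S4) (u v : Fin 4 → F) :
    hermForm 4 F 2 (act s u) (act s v) = hermForm 4 F 2 u v := s.2 u v

theorem su_ext {s t : S4} (h : ∀ v, act s v = act t v) : s = t :=
  Subtype.ext (Subtype.ext (Matrix.ext_iff_mulVec.2 h))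

/-- Torus exponents: three free ones. -/
abbrev T := Fin 3 → ZMod 3

/-- The four exponents. -/
def ext (a : T) : Fin 4 → ZMod 3 := ![a 0, a 1, a 2, -(a 0 + a 1 + a 2)]

/-- The field is `F₄` and `w` a cube root of unity. -/
structure Four (F : Type*) [Field F] [Fintype F] (w : F) : Prop where
  hF : Fintype.card F = 4
  hw : w ^ 2 + w + 1 = 0

theorem exists_four (hF : Fintype.card F = 4) : ∃ w : F, Four F w := by
  classical
  obtain ⟨w, hw⟩ : ∃ w : F, w ∉ ({0, 1} : Finset F) := by
    by_contra hc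
    push Not at hc
    have := Finset.card_le_card (fun x (_ : x ∈ Finset.univ) => hc x)
    rw [Finset.card_univ, hF] at this
    have h2 := Finset.card_le_two (a := (0 : F)) (b := 1)
    omega
  simp only [Finset.mem_insert, Finset.mem_singleton, not_or] at hw
  have h3 : w ^ 3 = 1 := by
    have := FiniteField.pow_card_sub_one_eq_one w hw.1
    rwa [hF] at this
  refine ⟨w, hF, ?_⟩
  have : (w - 1) * (w ^ 2 + w + 1) = 0 := by linear_combination h3
  exact (mul_eq_zero.1 this).resolve_left (sub_ne_zero.2 hw.2)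

namespace Four

variable {w : F} (hf : Four F w)
include hf

theorem two : (2 : F) = 0 := by
  have h : ((Fintype.card F : ℕ) : F) = 0 := FiniteField.cast_card_eq_zero F
  rw [hf.hF] at h
  push_cast at h
  have : (2 : F) * 2 = 0 := by linear_combination h
  exact mul_self_eq_zero.1 this

theorem neg_eq (x : F) : -x = x := by linear_combination (-x) * hf.two

theorem w3 : w ^ 3 = 1 := by linear_combination (w - 1) * hf.hw

theorem w2 : w ^ 2 = w + 1 := by linear_combination hf.hw - (w + 1) * hf.two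

theorem w4 : w ^ 4 = w := by linear_combination w * hf.w3

theorem w5 : w ^ 5 = w + 1 := by linear_combination w ^ 2 * hf.w3 + hf.w2

theorem w6 : w ^ 6 = 1 := by linear_combination (w ^ 3 + 1) * hf.w3

theorem charTwo : CharP F 2 := CharTwo.of_one_ne_zero_of_two_eq_zero one_ne_zero hf.two

theorem add_sq (x y : F) : (x + y) ^ 2 = x ^ 2 + y ^ 2 := by linear_combination x * y * hf.two

theorem w_ne : w ≠ 0 := fun h => by simpa [h] using hf.w3

theorem w_ne_one : w ≠ 1 := fun h => by
  have := hf.hw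
  rw [h] at this
  exact one_ne_zero (α := F) (by linear_combination this - hf.two)

theorem cube {x : F} (hx : x ≠ 0) : x ^ 3 = 1 := by
  have := FiniteField.pow_card_sub_one_eq_one x hx
  rwa [hf.hF] at this

theorem sq_sq (x : F) : (x ^ 2) ^ 2 = x := by
  rcases eq_or_ne x 0 with rfl | hx
  · simp
  · linear_combination x * hf.cube hx

theorem cases_pow {x : F} (hx : x ≠ 0) : ∃ a : ZMod 3, x = w ^ a.val := by
  have h := hf.cube hx
  have h' : (x - 1) * ((x - w) * (x - w ^ 2)) = 0 := by
    linear_combination h + (-x ^ 2 + x) * hf.hw + (x - 1) * hf.w3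
  rcases mul_eq_zero.1 h' with h1 | h1
  · exact ⟨0, by simpa using sub_eq_zero.1 h1⟩
  rcases mul_eq_zero.1 h1 with h2 | h2
  · exact ⟨1, by simpa [ZMod.val_one] using sub_eq_zero.1 h2⟩
  · exact ⟨2, by rw [show ((2 : ZMod 3)).val = 2 from rfl]; exact sub_eq_zero.1 h2⟩

theorem pow_val_add (a b : ZMod 3) : w ^ (a + b).val = w ^ a.val * w ^ b.val := by
  rw [← pow_add, ZMod.val_add]
  exact (pow_eq_pow_mod _ hf.w3).symm

theorem pow_val_three (a : ZMod 3) : (w ^ a.val) ^ 3 = 1 := by
  rw [← pow_mul, mul_comm, pow_mul, hf.w3, one_pow]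

theorem hq : Fintype.card F = 2 ^ 2 := by rw [hf.hF]; rfl

theorem exists_tor (a : T) : ∃ s : S4, ∀ v i, act s v i = w ^ (ext a i).val * v i := by
  obtain ⟨s, hs⟩ := CfsgLib.Classical.diagonal_mem_su hf.hq (fun i => w ^ (ext a i).val)
    (fun k => hf.pow_val_three _) (by
      simp only [Fin.prod_univ_four]
      rw [← hf.pow_val_add, ← hf.pow_val_add, ← hf.pow_val_add]
      simp [ext])
  refine ⟨s, fun v i => ?_⟩
  show ((s.1 : Matrix (Fin 4) (Fin 4) F) *ᵥ v) i = _
  rw [hs, Matrix.mulVec_diagonal]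

theorem exists_swp (i j : Fin 4) : ∃ s : S4, ∀ v k, act s v k = v (Equiv.swap i j k) := by
  rcases eq_or_ne i j with rfl | hij
  · exact ⟨1, fun v k => by simp [act_one]⟩
  obtain ⟨s, hs⟩ := CfsgLib.Classical.signed_swap_mem_su hf.hq hij
  refine ⟨s, fun v k => ?_⟩
  show ((s.1 : Matrix (Fin 4) (Fin 4) F) *ᵥ v) k = _
  rw [hs]
  rcases eq_or_ne k i with rfl | h1
  · simp
  rcases eq_or_ne k j with rfl | h2
  · simp [h1, hf.neg_eq]
  · simp [h1, h2, Equiv.swap_apply_of_ne_of_ne h1 h2]

theorem exists_dft : ∃ s : S4, ∀ v, act s v =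
    ![v 0 + v 1 + v 2, v 0 + w * v 1 + w ^ 2 * v 2, v 0 + w ^ 2 * v 1 + w * v 2, v 3] := by
  let M : Matrix (Fin 4) (Fin 4) F := !![1, 1, 1, 0; 1, w, w ^ 2, 0; 1, w ^ 2, w, 0; 0, 0, 0, 1]
  have h2 := hf.two
  have hdet : M.det = 1 := by
    simp [M, Matrix.det_succ_row_zero, Fin.sum_univ_succ, Fin.succAbove]
    ring_nf
    simp only [hf.w3, hf.w4, hf.w2]
    linear_combination h2
  have hM : ∀ v, M *ᵥ v =
      ![v 0 + v 1 + v 2, v 0 + w * v 1 + w ^ 2 * v 2, v 0 + w ^ 2 * v 1 + w * v 2, v 3] := by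
    intro v
    ext i
    fin_cases i <;> simp [M, Matrix.mulVec, dotProduct, Fin.sum_univ_four]
  refine ⟨⟨⟨M, hdet⟩, fun u v => ?_⟩, hM⟩
  show hermForm 4 F 2 (M *ᵥ u) (M *ᵥ v) = _
  simp only [hermForm, hM, Fin.sum_univ_four]
  simp
  simp only [hf.add_sq]
  ring_nf
  simp only [hf.w6, hf.w5, hf.w4, hf.w3, hf.w2]
  ring_nf
  simp [h2, show (3 : F) = 1 by linear_combination h2, show (4 : F) = 0 by linear_combination (2 : F) * h2]

end Four

/-- Chosen generators. -/
structure Gens (F : Type*) [Field F] [Fintype F] where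
  w : F
  hf : Four F w
  tor : T → Cfsg.SU 4 F 2
  swp : Fin 4 → Fin 4 → Cfsg.SU 4 F 2
  dft : Cfsg.SU 4 F 2
  tor_act : ∀ a v i, act (tor a) v i = w ^ (ext a i).val * v i
  swp_act : ∀ i j v k, act (swp i j) v k = v (Equiv.swap i j k)
  dft_act : ∀ v, act dft v =
    ![v 0 + v 1 + v 2, v 0 + w * v 1 + w ^ 2 * v 2, v 0 + w ^ 2 * v 1 + w * v 2, v 3]

theorem exists_gens (hF : Fintype.card F = 4) : Nonempty (Gens F) := by
  obtain ⟨w, hf⟩ := exists_four hF
  choose t ht using hf.exists_tor
  choose s hs using hf.exists_swp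
  obtain ⟨d, hd⟩ := hf.exists_dft
  exact ⟨⟨w, hf, t, s, d, ht, hs, hd⟩⟩

namespace Gens

variable (X : Gens F)

theorem tor_add (a b : T) : X.tor (a + b) = X.tor a * X.tor b := by
  refine su_ext fun v => funext fun i => ?_
  rw [act_mul, X.tor_act, X.tor_act, X.tor_act, ← mul_assoc, ← X.hf.pow_val_add]
  congr 3
  fin_cases i <;> simp [ext] <;> ring

theorem tor_zero : X.tor 0 = 1 := by
  refine su_ext fun v => funext fun i => ?_
  rw [X.tor_act, act_one]
  have : ext (0 : T) i = 0 := by fin_cases i <;> simp [ext]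
  simp [this]

/-- The exponents after a coordinate swap. -/
def sT (i j : Fin 4) (a : T) : T := fun k => ext a (Equiv.swap i j k.castSucc)

theorem ext_sT : ∀ (i j : Fin 4) (a : T) (k : Fin 4), ext (sT i j a) k = ext a (Equiv.swap i j k) := by
  decide +kernel

theorem swp_tor (i j : Fin 4) (a : T) : X.swp i j * X.tor a = X.tor (sT i j a) * X.swp i j := by
  refine su_ext fun v => funext fun k => ?_
  rw [act_mul, act_mul, X.swp_act, X.tor_act, X.tor_act, X.swp_act, ext_sT]

theorem swp_self (i j : Fin 4) : X.swp i j * X.swp i j = 1 := by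
  refine su_ext fun v => funext fun k => ?_
  rw [act_mul, act_one, X.swp_act, X.swp_act, Equiv.swap_apply_self]

theorem dft_sq : X.dft * X.dft = X.swp 1 2 := by
  refine su_ext fun v => funext fun k => ?_
  rw [act_mul, X.swp_act, X.dft_act, X.dft_act]
  fin_cases k <;> simp [Equiv.swap_apply_def] <;> ring_nf <;>
    simp only [X.hf.w4, X.hf.w3, X.hf.w2] <;> ring_nf <;>
    simp [X.hf.two, show (3 : F) = 1 by linear_combination X.hf.two]

theorem dft_comm : X.dft * X.tor ![1, 1, 1] = X.tor ![1, 1, 1] * X.dft := by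
  refine su_ext fun v => funext fun k => ?_
  rw [act_mul, act_mul, X.tor_act, X.dft_act, X.dft_act]
  simp only [X.tor_act]
  fin_cases k <;> simp [ext, show (-(1 + 1 + 1) : ZMod 3) = 0 from rfl, ZMod.val_one] <;> ring

theorem dft_rel : X.dft * X.tor ![2, 0, 0] * X.dft =
    X.tor ![0, 2, 2] * X.dft * X.tor ![2, 1, 1] := by
  refine su_ext fun v => funext fun k => ?_
  simp only [act_mul, X.tor_act, X.dft_act]
  fin_cases k <;> simp [ext, show (-(2 : ZMod 3)).val = 1 from rfl, show (2 : ZMod 3).val = 2 from rfl,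
    show (-(2 + 2) : ZMod 3).val = 2 from rfl, show (-(2 + 1 + 1) : ZMod 3).val = 2 from rfl,
    show (-(4 : ZMod 3)).val = 2 from rfl, ZMod.val_one] <;> ring_nf <;>
    (try simp only [X.hf.w5, X.hf.w4, X.hf.w3, X.hf.w2]) <;> (try ring_nf) <;>
    (try simp [X.hf.two, show (3 : F) = 1 by linear_combination X.hf.two]) <;>
    exact Or.inl (by rw [show ((-4 : ZMod 3)).val * 2 = 4 from rfl, X.hf.w4])

/-- `s` is the transvection with centre `u`. -/
def Tau (s : Cfsg.SU 4 F 2) (u : Fin 4 → F) : Prop := ∀ x, act s x = x + hermForm 4 F 2 x u • u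

theorem tau_eq {s t : S4} {u : Fin 4 → F} (hs : Tau s u) (ht : Tau t u) : s = t :=
  su_ext fun x => by rw [hs, ht]

theorem tau_conj {g t : S4} {u v : Fin 4 → F} {k : F} (hk : k ^ 3 = 1) (ht : Tau t u)
    (h : act g u = k • v) : Tau (g * t * g⁻¹) v := by
  intro x
  obtain ⟨y, rfl⟩ : ∃ y, act g y = x := ⟨act g⁻¹ x, by rw [← act_mul, mul_inv_cancel, act_one]⟩
  rw [← act_mul, inv_mul_cancel_right, act_mul, ht]
  have e := act_herm g y u
  rw [h] at e
  have e2 : hermForm 4 F 2 (act g y) (k • v) = k ^ 2 * hermForm 4 F 2 (act g y) v := by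
    simp only [hermForm, Finset.mul_sum, Pi.smul_apply, smul_eq_mul]
    refine Finset.sum_congr rfl fun i _ => by ring
  rw [show act g (y + hermForm 4 F 2 y u • u) = act g y + hermForm 4 F 2 y u • act g u from by
    simp [act, mulVec_add, mulVec_smul], h, ← e, e2, smul_smul]
  congr 2
  linear_combination hermForm 4 F 2 (act g y) v * hk

theorem tau_swp {i j : Fin 4} (h : i ≠ j) :
    Tau (X.swp i j) (Pi.single i 1 + Pi.single j 1) := by
  intro x
  funext k
  have e : hermForm 4 F 2 x (Pi.single i 1 + Pi.single j 1) = x i + x j := by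
    simp only [hermForm, Pi.add_apply]
    rw [Fintype.sum_eq_add i j h fun m hm => by simp [hm.1, hm.2]]
    simp [h, h.symm]
  rw [X.swp_act, e, Pi.add_apply, Pi.smul_apply, Pi.add_apply, smul_eq_mul]
  rcases eq_or_ne k i with rfl | h1
  · simp [h]
    linear_combination (-x k) * X.hf.two
  rcases eq_or_ne k j with rfl | h2
  · simp [h1]
    linear_combination (-x k) * X.hf.two
  · simp [h1, h2, Equiv.swap_apply_of_ne_of_ne h1 h2]

theorem gen_top (K : Subgroup S4) (ht : ∀ a, X.tor a ∈ K) (hs : ∀ i j, X.swp i j ∈ K) (hd : X.dft ∈ K) :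
    K = ⊤ := by
  classical
  have hf := X.hf
  rw [eq_top_iff, ← CfsgLib.Classical.closure_transvections_eq_top hf.hq (n := 4) (by norm_num)
    (by norm_num), Subgroup.closure_le]
  rintro A ⟨v, c, hv, hA⟩
  have hA' : ∀ x, act A x = x + (c * hermForm 4 F 2 x v) • v := by
    intro x
    show ((A.1 : Matrix (Fin 4) (Fin 4) F)) *ᵥ x = _
    rw [hA, CfsgLib.Classical.unitaryTransvection_mulVec hf.hq, CfsgLib.Classical.hermB_apply]
  by_cases h0 : ∀ x, (c * hermForm 4 F 2 x v) • v = 0
  · rw [show A = 1 from su_ext fun x => by rw [hA', h0, add_zero, act_one]]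
    exact K.one_mem
  push Not at h0
  obtain ⟨y, hy⟩ := h0
  have hvne : v ≠ 0 := fun h => hy (by rw [h, smul_zero])
  have hcy : c * hermForm 4 F 2 y v ≠ 0 := fun h => hy (by rw [h, zero_smul])
  have hc : c = 1 := by
    have e := act_herm A y y
    rw [hA'] at e
    set m := hermForm 4 F 2 y v with hm
    have hsw : hermForm 4 F 2 v y = m ^ 2 := by
      simp only [hm, hermForm, Fin.sum_univ_four, hf.add_sq, mul_pow, hf.sq_sq]
      ring
    have e3 : hermForm 4 F 2 (y + (c * m) • v) (y + (c * m) • v) =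
        hermForm 4 F 2 y y + (c * m) ^ 2 * m + (c * m) * hermForm 4 F 2 v y
          + (c * m) ^ 3 * hermForm 4 F 2 v v := by
      simp only [hermForm, Fin.sum_univ_four, Pi.add_apply, Pi.smul_apply, smul_eq_mul, hf.add_sq]
      simp only [hm, hermForm, Fin.sum_univ_four]
      ring
    rw [e3, hv, hsw] at e
    have hm0 : m ≠ 0 := fun h => hcy (by rw [h, mul_zero])
    have h3 := hf.cube hm0
    have : c * (c + 1) = 0 := by linear_combination e - (c ^ 2 + c) * h3
    rcases mul_eq_zero.1 this with h | h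
    · exact absurd (by rw [h, zero_mul]) hcy
    · linear_combination h - hf.two
  have hTau : Tau A v := fun x => by rw [hA', hc, one_mul]
  obtain ⟨g, hg, k, hk, i, j, hij, hgu⟩ : ∃ g ∈ K, ∃ k : F, k ^ 3 = 1 ∧ ∃ i j : Fin 4, i ≠ j ∧
      act g (Pi.single i 1 + Pi.single j 1) = k • v := by
    by_cases hall : ∀ i, v i ≠ 0
    · choose a ha using fun i => hf.cases_pow (hall i)
      have hk3 : ∀ b : ZMod 3, (X.w ^ b.val) ^ 3 = 1 := hf.pow_val_three
      let l : ZMod 3 := -(a 0 + a 1 + a 2 + a 3)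
      let b : T := fun i => a i.castSucc + l
      refine ⟨X.tor b * X.dft, K.mul_mem (ht _) hd, X.w ^ l.val, hk3 l, 0, 3, by decide, ?_⟩
      have key : ∀ (a : Fin 4 → ZMod 3) (i : Fin 4),
          ext (fun i : Fin 3 => a i.castSucc + -(a 0 + a 1 + a 2 + a 3)) i =
            a i + -(a 0 + a 1 + a 2 + a 3) := by decide +kernel
      funext i
      rw [act_mul, X.tor_act, Pi.smul_apply, smul_eq_mul, ha i, ← hf.pow_val_add, key, add_comm (a i),
        X.dft_act]
      fin_cases i <;> simp only [l] <;> simp <;> congr 2 <;> ring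
    · push Not at hall
      obtain ⟨z₁, hz₁⟩ := hall
      obtain ⟨i, hi⟩ : ∃ i, v i ≠ 0 := by
        by_contra hc'
        push Not at hc'
        exact hvne (funext hc')
      obtain ⟨j, hji, hj⟩ : ∃ j, j ≠ i ∧ v j ≠ 0 := by
        by_contra hc'
        push Not at hc'
        refine one_ne_zero (α := F) ?_
        have : hermForm 4 F 2 v v = v i ^ 3 := by
          simp only [hermForm]
          rw [Fintype.sum_eq_single i fun m hm => by simp [hc' m hm]]
          ring
        rw [hv, hf.cube hi] at this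
        exact this.symm
      obtain ⟨m, hmi, hmj⟩ : ∃ m, m ≠ i ∧ m ≠ j :=
        (by decide : ∀ i j : Fin 4, ∃ m, m ≠ i ∧ m ≠ j) i j
      have hoth : ∀ n, n ≠ i → n ≠ j → v n = 0 := by
        intro n hni hnj
        by_contra hn
        have hzi : z₁ ≠ i := fun h => hi (h ▸ hz₁)
        have hzj : z₁ ≠ j := fun h => hj (h ▸ hz₁)
        have hzn : z₁ ≠ n := fun h => hn (h ▸ hz₁)
        refine one_ne_zero (α := F) ?_
        have huniv : (Finset.univ : Finset (Fin 4)) = {i, j, n, z₁} :=
          (by decide : ∀ a b c d : Fin 4, a ≠ b → a ≠ c → a ≠ d → b ≠ c → b ≠ d → c ≠ d →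
            (Finset.univ : Finset (Fin 4)) = {a, b, c, d}) i j n z₁ hji.symm hni.symm hzi.symm hnj.symm
            hzj.symm hzn.symm
        have : hermForm 4 F 2 v v = v i ^ 3 + v j ^ 3 + v n ^ 3 := by
          rw [hermForm, huniv, Finset.sum_insert (by simp [hji.symm, hni.symm, hzi.symm]),
            Finset.sum_insert (by simp [hnj.symm, hzj.symm]), Finset.sum_insert (by simp [hzn.symm]),
            Finset.sum_singleton, hz₁]
          ring
        rw [hv, hf.cube hi, hf.cube hj, hf.cube hn] at this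
        linear_combination -this - hf.two
      obtain ⟨a, ha⟩ := hf.cases_pow hi
      obtain ⟨b, hb⟩ := hf.cases_pow hj
      obtain ⟨e, hei, hej⟩ := (by decide +kernel : ∀ i j : Fin 4, j ≠ i → ∀ d : ZMod 3,
        ∃ e : T, ext e i = 0 ∧ ext e j = d) i j hji (b - a)
      refine ⟨X.tor e, ht _, X.w ^ (-a).val, hf.pow_val_three _, i, j, hji.symm, ?_⟩
      funext n
      rw [X.tor_act, Pi.smul_apply, smul_eq_mul]
      rcases eq_or_ne n i with rfl | h1
      · rw [hei, ha, ← hf.pow_val_add]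
        simp [hji.symm]
      rcases eq_or_ne n j with rfl | h2
      · rw [hej, hb, ← hf.pow_val_add]
        simp [hji, sub_eq_add_neg, add_comm]
      · rw [hoth n h1 h2]
        simp [h1, h2]
  rw [SetLike.mem_coe, ← tau_eq (tau_conj hk (X.tau_swp hij) hgu) hTau]
  exact K.mul_mem (K.mul_mem hg (hs i j)) (K.inv_mem hg)

end Gens

end CfsgLib.Recog.U6Cent.Mod
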