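import Cfsg.Agent.Lib.Recog.U6Cent.ModRep
import Cfsg.Agent.Lib.Classical.UMinDegMain

/-!
The natural case: coordinates over the field of four elements.
-/

set_option autoImplicit false
set_option linter.unusedSectionVars false

namespace CfsgLib.Recog.U6Cent.Mod

open Cfsg

namespace Rep

variable {F : Type*} [Field F] [Fintype F] {V : Type*} [AddCommGroup V] (R : Rep F V) (X : Gens F)

theorem polar_comm (u v : V) : polar R.Q u v = polar R.Q v u := by
  simp only [polar, add_comm u v]; ring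

theorem polar_zero (v : V) : polar R.Q 0 v = 0 := by
  have := R.polar_add 0 0 v
  rw [add_zero] at this
  exact left_eq_add.1 this

theorem Q_zero : R.Q 0 = 0 := by
  have h := R.polar_zero 0
  simp only [polar, add_zero] at h
  revert h
  generalize R.Q 0 = q
  revert q
  decide

/-- The polar form with one argument fixed. -/
def bil (u : V) : V →+ ZMod 2 where
  toFun v := polar R.Q u v
  map_zero' := by rw [R.polar_comm, R.polar_zero]
  map_add' v x := by rw [R.polar_comm, R.polar_add, R.polar_comm v, R.polar_comm x]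

theorem bil_apply (u v : V) : R.bil u v = polar R.Q u v := rfl

theorem Q_add {u v : V} (h : polar R.Q u v = 0) : R.Q (u + v) = R.Q u + R.Q v := by
  have h' : R.Q (u + v) + R.Q u + R.Q v = 0 := h
  revert h'
  generalize R.Q (u + v) = a
  generalize R.Q u = b
  generalize R.Q v = c
  revert a b c
  decide

theorem polar_inv (s : Cfsg.SU 4 F 2) (u v : V) : polar R.Q (R.ρ s u) (R.ρ s v) = polar R.Q u v := by
  simp only [polar, ← map_add, R.inv]

theorem orth {c : Fin 13} {u : T} (hu : dot c u = 1) {v y : V} (hv : R.P X c v = v)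
    (hy : R.t X u y = y) : polar R.Q v y = 0 := by
  have h1 : ∀ x, R.P X c x = x → polar R.Q (R.t X (u + u) x) y = 0 := by
    intro x hx
    have h3 := R.sum_three X c hu x
    rw [hx] at h3
    have e : R.t X (u + u) x = x + R.t X u x := (eq_neg_of_add_eq_zero_right h3).trans (R.neg_eq _)
    rw [e, R.polar_add]
    conv_lhs => arg 2; rw [← hy, t, R.polar_inv]
    exact CharTwo.add_self_eq_zero _
  have := h1 (R.t X u v) (by rw [← R.t_P_comm, hv])
  rwa [← R.t_add, show u + u + u = 0 from funext fun k => by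
    simp only [Pi.add_apply, Pi.zero_apply]
    exact (by decide : ∀ x : ZMod 3, x + x + x = 0) _, R.t_zero] at this

theorem orth_ne {c d : Fin 13} (h : c ≠ d) {v y : V} (hv : R.P X c v = v) (hy : R.P X d y = y) :
    polar R.Q v y = 0 := by
  obtain ⟨u, hu, hu'⟩ := exists_sep c d h
  exact R.orth X hu hv (by rw [← hy, R.t_P X d hu'])

theorem orth_A (c : Fin 13) {v y : V} (hv : R.P X c v = v) (hy : R.pA X y = y) : polar R.Q v y = 0 :=
  R.orth X (dot_unit c) hv (by rw [← hy, R.t_pA])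

theorem four_cases (c : Fin 13) (h4 : Nat.card (R.Vc X c) = 4) {u : T} (hu : dot c u = 1) {v x : V}
    (hv : R.P X c v = v) (h0 : v ≠ 0) (hx : R.P X c x = x) :
    x = 0 ∨ x = v ∨ x = R.t X u v ∨ x = R.t X (u + u) v := by
  classical
  have := R.finite
  have := Fintype.ofFinite V
  have hf : R.t X u v ≠ v := fun h => h0 (R.fixed_P X c hu hv h)
  have hm : ∀ a, R.P X c (R.t X a v) = R.t X a v := fun a => by rw [← R.t_P_comm, hv]
  have hne : ∀ a, R.t X a v ≠ 0 := fun a h => h0 (R.ρ_injective _ (h.trans (map_zero _).symm))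
  have h12 : R.t X (u + u) v ≠ R.t X u v := fun h => hf (by
    rw [R.t_add] at h
    exact R.ρ_injective _ h)
  have h2 : R.t X (u + u) v ≠ v := fun h => hf (by
    have := congrArg (R.t X u) h
    rw [← R.t_add, show u + (u + u) = 0 from funext fun k => by
      simp only [Pi.add_apply, Pi.zero_apply]
      exact (by decide : ∀ x : ZMod 3, x + (x + x) = 0) _, R.t_zero] at this
    exact this.symm)
  let S : Finset V := {0, v, R.t X u v, R.t X (u + u) v}
  have hS : S.card = 4 := by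
    simp only [S]
    rw [Finset.card_insert_of_notMem (by simp [h0.symm, (hne u).symm, (hne (u + u)).symm]),
      Finset.card_insert_of_notMem (by simp [hf.symm, h2.symm]),
      Finset.card_insert_of_notMem (by simp [h12.symm]), Finset.card_singleton]
  have hcard : (Finset.univ.filter fun y => R.P X c y = y).card = 4 := by
    rw [← h4, ← Fintype.card_subtype, Fintype.card_eq_nat_card]
    rfl
  have heq := Finset.eq_of_subset_of_card_le (s := S) (t := Finset.univ.filter fun y => R.P X c y = y) (by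
    intro y hy
    simp only [S, Finset.mem_insert, Finset.mem_singleton] at hy
    rw [Finset.mem_filter]
    refine ⟨Finset.mem_univ _, ?_⟩
    rcases hy with rfl | rfl | rfl | rfl <;> [exact map_zero _; exact hv; exact hm _; exact hm _])
    (le_of_eq (hcard.trans hS.symm))
  have : x ∈ S := by rw [heq]; simp [hx]
  simpa [S] using this

theorem Q_one (c : Fin 13) (h4 : Nat.card (R.Vc X c) = 4) {v : V} (hv : R.P X c v = v) (h0 : v ≠ 0) :
    R.Q v = 1 := by
  by_contra hq
  have hq0 : R.Q v = 0 := (by decide : ∀ q : ZMod 2, q ≠ 1 → q = 0) _ hq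
  refine h0 (R.nondeg v fun y => ?_)
  have hpart : ∀ d, polar R.Q v (R.P X d y) = 0 := by
    intro d
    rcases eq_or_ne c d with rfl | hd
    · have hvv : polar R.Q v v = 0 := by simp only [polar, R.two, R.Q_zero, hq0, add_zero]
      have h3 := R.sum_three X c (dot_unit c) v
      rw [hv] at h3
      have e2 : R.t X (unit c + unit c) v = v + R.t X (unit c) v :=
        (eq_neg_of_add_eq_zero_right h3).trans (R.neg_eq _)
      have hvt : polar R.Q v (R.t X (unit c) v) = 0 := by
        simp only [polar, ← e2]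
        simp only [t, R.inv, hq0, add_zero]
      rcases R.four_cases X c h4 (dot_unit c) hv h0 (R.P_P X c y) with h | h | h | h <;> rw [h]
      · rw [R.polar_comm, R.polar_zero]
      · exact hvv
      · exact hvt
      · rw [e2, ← R.bil_apply, map_add, R.bil_apply, R.bil_apply, hvv, hvt, add_zero]
    · exact R.orth_ne X hd hv (R.P_P X d y)
  rw [← R.bil_apply, ← R.sum_P X y, map_add, map_sum,
    Finset.sum_eq_zero fun d _ => (R.bil_apply _ _).trans (hpart d), zero_add, R.bil_apply]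
  exact R.orth_A X c hv (R.pA_pA X y)

end Rep

/-- The natural case. -/
structure NatCase {F : Type*} [Field F] [Fintype F] {V : Type*} [AddCommGroup V] (R : Rep F V) (X : Gens F) :
    Prop where
  pA_zero : R.pA X = 0
  P_zero : ∀ c : Fin 13, 4 ≤ c.1 → R.P X c = 0
  card_four : ∀ c : Fin 13, c.1 < 4 → Nat.card (R.Vc X c) = 4

/-- The four coordinate characters. -/
def cc (i : Fin 4) : Fin 13 := ⟨i.1, by omega⟩

theorem dot_cc : ∀ (i : Fin 4) (a : T), dot (cc i) a = ext a i := by decide +kernel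

theorem cc_inj {i j : Fin 4} (h : cc i = cc j) : i = j := Fin.ext (by simpa [cc] using h)

theorem sC_cc : ∀ i j k : Fin 4, sC i j (cc k) = cc (Equiv.swap i j k) := by decide +kernel

namespace NatCase

variable {F : Type*} [Field F] [Fintype F] {V : Type*} [AddCommGroup V] {R : Rep F V} {X : Gens F}
  (N : NatCase R X)
include N

theorem sum_four (v : V) : ∑ i, R.P X (cc i) v = v := by
  conv_rhs => rw [← R.sum_P X v]
  simp [Fin.sum_univ_four, Fin.sum_univ_succ, N.pA_zero, cc]
  simp [N.P_zero 4 (by decide), N.P_zero 5 (by decide), N.P_zero 6 (by decide), N.P_zero 7 (by decide),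
    N.P_zero 8 (by decide), N.P_zero 9 (by decide), N.P_zero 10 (by decide), N.P_zero 11 (by decide),
    N.P_zero 12 (by decide)]

theorem vec_ext {u v : V} (h : ∀ i, R.P X (cc i) u = R.P X (cc i) v) : u = v := by
  rw [← N.sum_four u, ← N.sum_four v]
  exact Finset.sum_congr rfl fun i _ => h i

/-- Multiplication by a cube root of unity. -/
def mu (_ : NatCase R X) : AddMonoid.End V := ∑ i, R.t X (unit (cc i)) * R.P X (cc i)

theorem mu_apply (v : V) : N.mu v = ∑ i, R.t X (unit (cc i)) (R.P X (cc i) v) :=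
  AddMonoidHom.finsetSum_apply _ _ _

theorem P_mu (i : Fin 4) (v : V) : R.P X (cc i) (N.mu v) = R.t X (unit (cc i)) (R.P X (cc i) v) := by
  rw [N.mu_apply, map_sum, Finset.sum_eq_single i]
  · rw [← R.t_P_comm, R.P_P]
  · intro j _ hj
    rw [← R.t_P_comm, R.P_P_ne X fun h => hj (cc_inj h).symm, map_zero]
  · simp

theorem mu_P (i : Fin 4) (v : V) : N.mu (R.P X (cc i) v) = R.t X (unit (cc i)) (R.P X (cc i) v) := by
  refine N.vec_ext fun j => ?_
  rw [N.P_mu, ← R.t_P_comm]
  rcases eq_or_ne i j with rfl | h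
  · rfl
  · rw [R.P_P_ne X fun e => h (cc_inj e).symm, map_zero, map_zero]

theorem mu_of_mem (i : Fin 4) {v : V} (hv : R.P X (cc i) v = v) : N.mu v = R.t X (unit (cc i)) v := by
  rw [← hv, N.mu_P]

theorem mu_mem (i : Fin 4) {v : V} (hv : R.P X (cc i) v = v) : R.P X (cc i) (N.mu v) = N.mu v := by
  rw [N.P_mu, hv, N.mu_of_mem i hv]

theorem mu_three (v : V) : v + N.mu v + N.mu (N.mu v) = 0 := by
  refine N.vec_ext fun i => ?_
  rw [map_add, map_add, N.P_mu, N.P_mu, N.P_mu, map_zero, ← R.t_add]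
  exact R.sum_three X _ (dot_unit _) v

theorem mu_mu (v : V) : N.mu (N.mu v) = v + N.mu v :=
  (eq_neg_of_add_eq_zero_right (N.mu_three v)).trans (R.neg_eq _)

theorem mu_cube (v : V) : N.mu (N.mu (N.mu v)) = v := by
  rw [N.mu_mu v, map_add, N.mu_mu, add_comm v, ← add_assoc, R.two, zero_add]

theorem mu_injective : Function.Injective N.mu := fun u v h => by
  rw [← N.mu_cube u, ← N.mu_cube v, h]

theorem mu_fixed {v : V} (h : N.mu v = v) : v = 0 := by
  have := N.mu_three v
  rwa [h, h, R.two, zero_add] at this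

theorem t_of_mem (i : Fin 4) (a : T) {v : V} (hv : R.P X (cc i) v = v) :
    (ext a i = 0 → R.t X a v = v) ∧ (ext a i = 1 → R.t X a v = N.mu v) ∧
      (ext a i = 2 → R.t X a v = N.mu (N.mu v)) := by
  have key : ∀ a b : T, ext a i = ext b i → R.t X a v = R.t X b v := by
    intro a b h
    have : dot (cc i) (a - b) = 0 := by
      have := dot_add (cc i) (a - b) b
      rw [sub_add_cancel, dot_cc, dot_cc i b, h] at this
      exact left_eq_add.1 (this.trans (add_comm _ _))
    conv_lhs => rw [show a = b + (a - b) by abel, R.t_add, ← hv, R.t_P X _ this, hv]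
  have hu : ext (unit (cc i)) i = 1 := by rw [← dot_cc, dot_unit]
  refine ⟨fun h => ?_, fun h => ?_, fun h => ?_⟩
  · rw [key a 0 (by
      have := dot_add (cc i) 0 0
      rw [add_zero] at this
      rw [h, ← dot_cc]
      exact (left_eq_add.1 this).symm), R.t_zero]
  · rw [key a _ (h.trans hu.symm), N.mu_of_mem i hv]
  · rw [key a (unit (cc i) + unit (cc i)) (by rw [h, ← dot_cc, dot_add, dot_unit]; rfl), R.t_add,
      ← N.mu_of_mem i hv, ← N.mu_of_mem i (N.mu_mem i hv)]

theorem mu_t (a : T) (v : V) : N.mu (R.t X a v) = R.t X a (N.mu v) := by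
  refine N.vec_ext fun i => ?_
  rw [N.P_mu, ← R.t_P_comm, ← R.t_P_comm, N.P_mu, ← R.t_add, add_comm, R.t_add]

theorem mu_swp (i j : Fin 4) (v : V) : N.mu (R.ρ (X.swp i j) v) = R.ρ (X.swp i j) (N.mu v) := by
  refine N.vec_ext fun k => ?_
  have h1 : ∀ y, R.P X (cc k) (R.ρ (X.swp i j) y) = R.ρ (X.swp i j) (R.P X (cc (Equiv.swap i j k)) y) := by
    intro y
    rw [R.swp_P, sC_cc, Equiv.swap_apply_self]
  rw [N.P_mu, h1, h1, N.P_mu, R.swp_t]
  have hm : R.P X (cc k) (R.ρ (X.swp i j) (R.P X (cc (Equiv.swap i j k)) v)) =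
      R.ρ (X.swp i j) (R.P X (cc (Equiv.swap i j k)) v) := by
    rw [h1, R.P_P]
  rw [(N.t_of_mem k (Gens.sT i j (unit (cc (Equiv.swap i j k)))) hm).2.1 (by rw [Gens.ext_sT, ← dot_cc, dot_unit]),
    ← N.mu_of_mem k hm]

theorem Q_one (i : Fin 4) {v : V} (hv : R.P X (cc i) v = v) (h0 : v ≠ 0) : R.Q v = 1 :=
  R.Q_one X (cc i) (N.card_four _ i.2) hv h0

theorem four (i : Fin 4) {v x : V} (hv : R.P X (cc i) v = v) (h0 : v ≠ 0) (hx : R.P X (cc i) x = x) :
    x = 0 ∨ x = v ∨ x = N.mu v ∨ x = N.mu (N.mu v) := by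
  rw [N.mu_of_mem i (N.mu_mem i hv), N.mu_of_mem i hv, ← R.t_add]
  exact R.four_cases X (cc i) (N.card_four _ i.2) (dot_unit _) hv h0 hx

theorem exists_mem (i : Fin 4) : ∃ v, R.P X (cc i) v = v ∧ v ≠ 0 := by
  have h4 := N.card_four (cc i) i.2
  by_contra hc
  push Not at hc
  have h1 : Nat.card (R.Vc X (cc i)) = 1 := Nat.card_eq_one_iff_unique.2
    ⟨⟨fun u v => Subtype.ext ((hc _ u.2).trans (hc _ v.2).symm)⟩, ⟨0⟩⟩
  omega

theorem P_three (v : V) :
    v + R.t X ![1, 1, 1] v + R.t X (![1, 1, 1] + ![1, 1, 1]) v = R.P X (cc 3) v := by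
  refine N.vec_ext fun i => ?_
  rw [map_add, map_add, ← R.t_P_comm, ← R.t_P_comm]
  rcases eq_or_ne i 3 with rfl | hi
  · rw [R.P_P, R.t_P X _ (by decide), R.t_P X _ (by decide), R.two, zero_add]
  · rw [R.P_P_ne X fun e => hi (cc_inj e)]
    exact R.sum_three X _ ((by decide : ∀ i : Fin 4, i ≠ 3 → dot (cc i) ![1, 1, 1] = 1) i hi) v

theorem dft_P (v : V) : R.ρ X.dft (R.P X (cc 3) v) = R.P X (cc 3) (R.ρ X.dft v) := by
  have hc : ∀ y, R.ρ X.dft (R.t X ![1, 1, 1] y) = R.t X ![1, 1, 1] (R.ρ X.dft y) := fun y => by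
    rw [Rep.t, ← R.ρ_mul, X.dft_comm, R.ρ_mul]
  rw [← N.P_three, ← N.P_three, map_add, map_add, hc, R.t_add, R.t_add, hc, hc]

theorem dft_mu_three {x : V} (hx : R.P X (cc 3) x = x) : R.ρ X.dft (N.mu x) = N.mu (R.ρ X.dft x) := by
  set M := R.ρ X.dft with hM
  have hmem : ∀ y, R.P X (cc 3) y = y → R.P X (cc 3) (M y) = M y := fun y hy => by
    rw [← N.dft_P, hy]
  have hsq : ∀ y, R.P X (cc 3) y = y → M (M y) = y := by
    intro y hy
    rcases eq_or_ne y 0 with rfl | h0
    · rw [map_zero, map_zero]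
    rw [hM, ← R.ρ_mul, X.dft_sq]
    set σ := R.ρ (X.swp 1 2) with hσ
    have hσσ : σ (σ y) = y := by rw [hσ, ← R.ρ_mul, X.swp_self, R.ρ_one]
    have hσm : R.P X (cc 3) (σ y) = σ y := by
      conv_rhs => rw [← hy, hσ, R.swp_P, show sC 1 2 (cc 3) = cc 3 by decide +kernel]
    have hσμ : ∀ z, σ (N.mu z) = N.mu (σ z) := fun z => (N.mu_swp 1 2 z).symm
    rcases N.four 3 hy h0 hσm with h | h | h | h
    · exact absurd (R.ρ_injective _ (h.trans (map_zero σ).symm)) h0
    · exact h
    · exfalso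
      rw [h, hσμ, h] at hσσ
      have := congrArg N.mu hσσ
      rw [N.mu_cube] at this
      exact h0 (N.mu_fixed this.symm)
    · exfalso
      rw [h, hσμ, hσμ, h, N.mu_cube] at hσσ
      exact h0 (N.mu_fixed hσσ)
  have hrel : ∀ y, R.P X (cc 3) y = y → M (N.mu (M y)) = N.mu (N.mu (M (N.mu (N.mu y)))) := by
    intro y hy
    have h := congrArg (fun s => R.ρ s y) X.dft_rel
    simp only [R.ρ_mul] at h
    change M (R.t X ![2, 0, 0] (M y)) = R.t X ![0, 2, 2] (M (R.t X ![2, 1, 1] y)) at h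
    rwa [(N.t_of_mem 3 _ (hmem y hy)).2.1 (by decide), (N.t_of_mem 3 _ hy).2.2 (by decide),
      (N.t_of_mem 3 _ (hmem _ (N.mu_mem 3 (N.mu_mem 3 hy)))).2.2 (by decide)] at h
  rcases eq_or_ne x 0 with rfl | h0
  · simp
  have hMx : M x ≠ 0 := fun h => h0 (R.ρ_injective _ (h.trans (map_zero M).symm))
  -- the dichotomy
  have hdi : ∀ y, R.P X (cc 3) y = y → y ≠ 0 → M (N.mu y) = N.mu (M y) ∨ M (N.mu y) = N.mu (N.mu (M y)) := by
    intro y hy hy0
    have hMy : M y ≠ 0 := fun h => hy0 (R.ρ_injective _ (h.trans (map_zero M).symm))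
    rcases N.four 3 (hmem y hy) hMy (hmem _ (N.mu_mem 3 hy)) with h | h | h | h
    · exact absurd (N.mu_injective ((R.ρ_injective _ (h.trans (map_zero M).symm)).trans (map_zero _).symm)) hy0
    · exact absurd (N.mu_fixed (R.ρ_injective _ h)) hy0
    · exact Or.inl h
    · exact Or.inr h
  rcases hdi x hx h0 with h | h
  · exact h
  exfalso
  set y := N.mu x with hy
  -- `M` inverts `μ`
  have h2 : M (N.mu y) = N.mu (M x) := by
    have e : M (N.mu y) = M x + M y := by rw [hy, N.mu_mu, map_add]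
    rw [e, h, N.mu_mu, ← add_assoc, R.two, zero_add]
  have hinv : ∀ z, R.P X (cc 3) z = z → M (N.mu z) = N.mu (N.mu (M z)) := by
    intro z hz
    rcases N.four 3 hx h0 hz with hz' | hz' | hz' | hz' <;> rw [hz']
    · simp
    · exact h
    · rw [h2, h, N.mu_cube]
    · rw [← hy, h2, hy, N.mu_cube, N.mu_cube]
  have hall : ∀ z, R.P X (cc 3) z = z → M z = N.mu (N.mu z) := by
    intro z hz
    have e1 := hrel z hz
    rw [hinv _ (hmem z hz), hsq z hz, hinv _ (N.mu_mem 3 hz), hinv z hz, N.mu_cube, N.mu_cube] at e1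
    exact e1.symm
  have e2 := hall y (N.mu_mem 3 hx)
  rw [h, hall x hx, hy, N.mu_cube, N.mu_cube] at e2
  exact h0 (N.mu_fixed e2)

theorem mu_dft (v : V) : N.mu (R.ρ X.dft v) = R.ρ X.dft (N.mu v) := by
  have hc : ∀ y, R.ρ X.dft (R.t X ![1, 1, 1] y) = R.t X ![1, 1, 1] (R.ρ X.dft y) := fun y => by
    rw [Rep.t, ← R.ρ_mul, X.dft_comm, R.ρ_mul]
  have hform : ∀ y, N.mu y = R.t X ![1, 1, 1] (y + R.P X (cc 3) y) + N.mu (R.P X (cc 3) y) := by
    intro y
    refine N.vec_ext fun i => ?_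
    rw [map_add, ← R.t_P_comm, map_add, N.P_mu, N.P_mu]
    rcases eq_or_ne i 3 with rfl | hi
    · rw [R.P_P, R.two, map_zero, zero_add]
    · rw [R.P_P_ne X fun e => hi (cc_inj e), map_zero, add_zero, add_zero]
      have h1 : ext (![1, 1, 1] : T) i = 1 := (by decide : ∀ i : Fin 4, i ≠ 3 → ext (![1, 1, 1] : T) i = 1) i hi
      rw [(N.t_of_mem i _ (R.P_P X _ y)).2.1 h1, N.mu_P]
  rw [hform, hform v, ← N.dft_P]
  simp only [map_add, hc, N.dft_mu_three (R.P_P X _ v)]

theorem mu_ρ (s : Cfsg.SU 4 F 2) (v : V) : N.mu (R.ρ s v) = R.ρ s (N.mu v) := by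
  let K : Subgroup (Cfsg.SU 4 F 2) :=
    { carrier := {s | ∀ v, N.mu (R.ρ s v) = R.ρ s (N.mu v)}
      one_mem' := fun v => by rw [R.ρ_one, R.ρ_one]
      mul_mem' := fun {a b} ha hb v => by rw [R.ρ_mul, ha, hb, R.ρ_mul]
      inv_mem' := fun {a} ha v => by
        refine R.ρ_injective a ?_
        rw [← ha, ← R.ρ_mul, ← R.ρ_mul, mul_inv_cancel, R.ρ_one, R.ρ_one] }
  have := X.gen_top K (fun a v => N.mu_t a v) (fun i j v => N.mu_swp i j v) fun v => N.mu_dft v
  exact (this ▸ Subgroup.mem_top s : s ∈ K) v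

theorem commutant (n : AddMonoid.End V) (hn : Function.Injective n)
    (hc : ∀ s v, n (R.ρ s v) = R.ρ s (n v)) :
    (∀ v, n v = v) ∨ (∀ v, n v = N.mu v) ∨ (∀ v, n v = N.mu (N.mu v)) := by
  have hP : ∀ c v, n (R.P X c v) = R.P X c (n v) := fun c v => by
    simp only [R.P_apply, R.pK_apply, R.pA_apply, map_add, map_sum, Rep.t, hc]
  have hμ : ∀ v, n (N.mu v) = N.mu (n v) := fun v => by
    simp only [N.mu_apply, map_sum, Rep.t, hc, hP]
  have key : ∀ (f : AddMonoid.End V), (∀ s v, f (R.ρ s v) = R.ρ s (f v)) → (∀ v, f (N.mu v) = N.mu (f v)) →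
      ∀ b, R.P X (cc 3) b = b → b ≠ 0 → n b = f b → ∀ v, n v = f v := by
    intro f hf hfμ b hb hb0 hnb v
    have h3 : ∀ y, R.P X (cc 3) y = y → n y = f y := by
      intro y hy
      rcases N.four 3 hb hb0 hy with h | h | h | h <;> rw [h]
      · simp
      · exact hnb
      · rw [hμ, hfμ, hnb]
      · rw [hμ, hμ, hfμ, hfμ, hnb]
    have hi : ∀ i y, R.P X (cc i) y = y → n y = f y := by
      intro i y hy
      refine R.ρ_injective (X.swp i 3) ?_
      rw [← hc, ← hf]
      refine h3 _ ?_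
      conv_rhs => rw [← hy, R.swp_P, sC_cc, Equiv.swap_apply_left]
    rw [← N.sum_four v, map_sum, map_sum]
    exact Finset.sum_congr rfl fun i _ => hi i _ (R.P_P X _ v)
  obtain ⟨b, hb, hb0⟩ := N.exists_mem 3
  rcases N.four 3 hb hb0 (show R.P X (cc 3) (n b) = n b by rw [← hP, hb]) with h | h | h | h
  · exact absurd (hn (h.trans (map_zero n).symm)) hb0
  · exact Or.inl (key (AddMonoidHom.id V) (fun _ _ => rfl) (fun _ => rfl) b hb hb0 h)
  · exact Or.inr (Or.inl (key N.mu (fun s v => N.mu_ρ s v) (fun _ => rfl) b hb hb0 h))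
  · exact Or.inr (Or.inr (key (N.mu * N.mu)
      (fun s v => (congrArg N.mu (N.mu_ρ s v)).trans (N.mu_ρ s _))
      (fun v => by simp only [AddMonoid.End.coe_mul, Function.comp_apply]) b hb hb0 h))

end NatCase

end CfsgLib.Recog.U6Cent.Mod
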