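import Cfsg.Agent.Lib.Recog.U6Cent.ModGen

/-!
A faithful action of `SU₄(2)` on an eight-dimensional space over the field of two elements preserving a
nondegenerate quadratic form: the weight spaces of the diagonal torus.
-/

set_option autoImplicit false
set_option linter.unusedSectionVars false

namespace CfsgLib.Recog.U6Cent.Mod

open Cfsg

/-- The bilinear form of a quadratic map. -/
def polar {V : Type*} [AddCommGroup V] (Q : V → ZMod 2) (u v : V) : ZMod 2 := Q (u + v) + Q u + Q v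

/-- A faithful orthogonal representation of dimension eight. -/
structure Rep (F : Type*) [Field F] [Fintype F] (V : Type*) [AddCommGroup V] where
  ρ : Cfsg.SU 4 F 2 →* AddMonoid.End V
  card : Nat.card V = 256
  two : ∀ v : V, v + v = 0
  faithful : ∀ s, (∀ v, ρ s v = v) → s = 1
  Q : V → ZMod 2
  polar_add : ∀ u v x, polar Q (u + v) x = polar Q u x + polar Q v x
  nondeg : ∀ u, (∀ v, polar Q u v = 0) → u = 0
  inv : ∀ s v, Q (ρ s v) = Q v

/-- Representatives of the thirteen pairs of nontrivial characters. -/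
def chr : Fin 13 → Fin 4 → ZMod 3 :=
  ![![1, 0, 0, 0], ![0, 1, 0, 0], ![0, 0, 1, 0], ![0, 0, 0, 1],
    ![1, 1, 0, 0], ![1, 0, 1, 0], ![1, 0, 0, 1],
    ![1, 2, 0, 0], ![1, 0, 2, 0], ![1, 0, 0, 2], ![0, 1, 2, 0], ![0, 1, 0, 2], ![0, 0, 1, 2]]

/-- The value of a character. -/
def dot (c : Fin 13) (a : T) : ZMod 3 :=
  chr c 0 * ext a 0 + chr c 1 * ext a 1 + chr c 2 * ext a 2 + chr c 3 * ext a 3

theorem dot_add : ∀ (c : Fin 13) (a b : T), dot c (a + b) = dot c a + dot c b := by
  intro c a b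
  simp only [dot, ext, Matrix.cons_val_zero, Matrix.cons_val_one, Pi.add_apply, Matrix.cons_val]
  ring

/-- An element with value one. -/
def unit (c : Fin 13) : T :=
  ![![1, 0, 0], ![0, 1, 0], ![0, 0, 1], ![2, 0, 0], ![2, 2, 0], ![2, 0, 2], ![0, 1, 1],
    ![1, 0, 0], ![1, 0, 0], ![0, 1, 0], ![0, 1, 0], ![1, 0, 0], ![1, 0, 0]] c

theorem dot_unit : ∀ c, dot c (unit c) = 1 := by decide +kernel

theorem parity : ∀ a : T, (Finset.univ.filter fun c => dot c a = 0).card % 2 = if a = 0 then 1 else 0 := by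
  decide +kernel

/-- The three free exponents. -/
def bas : Fin 3 → T := ![![1, 0, 0], ![0, 1, 0], ![0, 0, 1]]

/-- The action of a coordinate swap on the pairs. -/
def sC (i j : Fin 4) (c : Fin 13) : Fin 13 :=
  ((List.finRange 13).find? fun d =>
    (List.finRange 3).all (fun m => dot d (Gens.sT i j (bas m)) == dot c (bas m)) ||
    (List.finRange 3).all (fun m => dot d (Gens.sT i j (bas m)) == -dot c (bas m))).getD 0

theorem sC_bas : ∀ (i j : Fin 4) (c : Fin 13),
    (∀ m, dot (sC i j c) (Gens.sT i j (bas m)) = dot c (bas m)) ∨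
      (∀ m, dot (sC i j c) (Gens.sT i j (bas m)) = -dot c (bas m)) := by
  decide +kernel

theorem dot_bas (c : Fin 13) (a : T) :
    dot c a = a 0 * dot c (bas 0) + a 1 * dot c (bas 1) + a 2 * dot c (bas 2) := by
  simp only [dot, ext, bas, Matrix.cons_val_zero, Matrix.cons_val_one, Matrix.cons_val]
  ring

theorem ext_lin (a : T) (k : Fin 4) :
    ext a k = a 0 * ext (bas 0) k + a 1 * ext (bas 1) k + a 2 * ext (bas 2) k := by
  fin_cases k <;> simp [ext, bas] <;> ring

theorem dot_sT (i j : Fin 4) (c : Fin 13) (a : T) :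
    dot (sC i j c) (Gens.sT i j a) = 0 ↔ dot c a = 0 := by
  have e : ∀ d, dot d (Gens.sT i j a) = a 0 * dot d (Gens.sT i j (bas 0)) +
      a 1 * dot d (Gens.sT i j (bas 1)) + a 2 * dot d (Gens.sT i j (bas 2)) := by
    intro d
    simp only [dot, Gens.ext_sT]
    simp only [ext_lin a (Equiv.swap i j _)]
    ring
  rw [e, dot_bas c a]
  rcases sC_bas i j c with h | h <;> rw [h, h, h]
  rw [show a 0 * -dot c (bas 0) + a 1 * -dot c (bas 1) + a 2 * -dot c (bas 2) =
    -(a 0 * dot c (bas 0) + a 1 * dot c (bas 1) + a 2 * dot c (bas 2)) by ring, neg_eq_zero]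

theorem sT_sT (i j : Fin 4) (a : T) : Gens.sT i j (Gens.sT i j a) = a := by
  funext k
  show ext (Gens.sT i j a) (Equiv.swap i j k.castSucc) = a k
  rw [Gens.ext_sT, Equiv.swap_apply_self]
  fin_cases k <;> rfl

namespace Rep

variable {F : Type*} [Field F] [Fintype F] {V : Type*} [AddCommGroup V] (R : Rep F V) (X : Gens F)

include R in
theorem finite : Finite V := Nat.finite_of_card_ne_zero (by rw [R.card]; norm_num)

include R in
theorem neg_eq (v : V) : -v = v := neg_eq_of_add_eq_zero_left (R.two v)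

include R in
theorem nsmul_eq (n : ℕ) (v : V) : n • v = (n % 2) • v := by
  conv_lhs => rw [← Nat.mod_add_div n 2]
  rw [add_smul, mul_comm 2 (n / 2), mul_smul, two_smul, R.two, smul_zero, add_zero]

theorem ρ_mul (s t : Cfsg.SU 4 F 2) (v : V) : R.ρ (s * t) v = R.ρ s (R.ρ t v) := by rw [map_mul]; rfl

theorem ρ_one (v : V) : R.ρ 1 v = v := by rw [map_one]; rfl

theorem ρ_injective (s : Cfsg.SU 4 F 2) : Function.Injective (R.ρ s) := fun u v h => by
  have := congrArg (R.ρ s⁻¹) h
  rwa [← R.ρ_mul, ← R.ρ_mul, inv_mul_cancel, R.ρ_one, R.ρ_one] at this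

/-- The torus action. -/
def t (a : T) : AddMonoid.End V := R.ρ (X.tor a)

theorem t_add (a b : T) (v : V) : R.t X (a + b) v = R.t X a (R.t X b v) := by
  rw [t, X.tor_add, R.ρ_mul]; rfl

theorem t_zero (v : V) : R.t X 0 v = v := by rw [t, X.tor_zero, R.ρ_one]

theorem swp_t (i j : Fin 4) (a : T) (v : V) :
    R.ρ (X.swp i j) (R.t X a v) = R.t X (Gens.sT i j a) (R.ρ (X.swp i j) v) := by
  rw [t, t, ← R.ρ_mul, X.swp_tor, R.ρ_mul]

/-- The sum over the kernel of a character. -/
def pK (c : Fin 13) : AddMonoid.End V := ∑ a ∈ Finset.univ.filter (fun a => dot c a = 0), R.t X a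

/-- The sum over the torus: the projection on the fixed space. -/
def pA : AddMonoid.End V := ∑ a, R.t X a

theorem pK_apply (c : Fin 13) (v : V) :
    R.pK X c v = ∑ a ∈ Finset.univ.filter (fun a => dot c a = 0), R.t X a v :=
  AddMonoidHom.finset_sum_apply _ _ _

theorem pA_apply (v : V) : R.pA X v = ∑ a, R.t X a v :=
  AddMonoidHom.finset_sum_apply _ _ _

/-- The projection on a weight space. -/
def P (c : Fin 13) : AddMonoid.End V := R.pK X c + R.pA X

theorem P_apply (c : Fin 13) (v : V) : R.P X c v = R.pK X c v + R.pA X v := rfl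

theorem t_pA (b : T) (v : V) : R.t X b (R.pA X v) = R.pA X v := by
  rw [R.pA_apply, map_sum]
  exact Fintype.sum_equiv (Equiv.addLeft b) _ _ fun a => (R.t_add X b a v).symm

theorem pA_t (b : T) (v : V) : R.pA X (R.t X b v) = R.pA X v := by
  rw [R.pA_apply, R.pA_apply]
  exact Fintype.sum_equiv (Equiv.addRight b) _ _ fun a => (R.t_add X a b v).symm

theorem t_pK_comm (c : Fin 13) (b : T) (v : V) : R.t X b (R.pK X c v) = R.pK X c (R.t X b v) := by
  rw [R.pK_apply, R.pK_apply, map_sum]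
  exact Finset.sum_congr rfl fun a _ => by rw [← R.t_add, add_comm, R.t_add]

theorem t_pK (c : Fin 13) {b : T} (hb : dot c b = 0) (v : V) : R.t X b (R.pK X c v) = R.pK X c v := by
  rw [R.pK_apply, map_sum]
  refine Finset.sum_equiv (Equiv.addLeft b) (fun a => ?_) fun a _ => (R.t_add X b a v).symm
  simp [dot_add, hb]

theorem card_kernel : ∀ c : Fin 13, (Finset.univ.filter fun a => dot c a = 0).card = 9 := by decide +kernel

theorem pK_fixed (c : Fin 13) {v : V} (h : ∀ a, dot c a = 0 → R.t X a v = v) : R.pK X c v = v := by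
  rw [R.pK_apply, Finset.sum_congr rfl fun a ha => h a (Finset.mem_filter.1 ha).2, Finset.sum_const,
    card_kernel, R.nsmul_eq]
  exact one_nsmul v

theorem pA_fixed {v : V} (h : ∀ a, R.t X a v = v) : R.pA X v = v := by
  rw [R.pA_apply, Finset.sum_congr rfl fun a _ => h a, Finset.sum_const, R.nsmul_eq]
  exact one_nsmul v

theorem pA_pA (v : V) : R.pA X (R.pA X v) = R.pA X v := R.pA_fixed X fun a => R.t_pA X a v

theorem pA_pK (c : Fin 13) (v : V) : R.pA X (R.pK X c v) = R.pA X v := by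
  rw [R.pK_apply, map_sum, Finset.sum_congr rfl fun a _ => R.pA_t X a v, Finset.sum_const, card_kernel,
    R.nsmul_eq]
  exact one_nsmul _

theorem pK_pA (c : Fin 13) (v : V) : R.pK X c (R.pA X v) = R.pA X v :=
  R.pK_fixed X c fun a _ => R.t_pA X a v

theorem pK_pK (c : Fin 13) (v : V) : R.pK X c (R.pK X c v) = R.pK X c v :=
  R.pK_fixed X c fun _ ha => R.t_pK X c ha v

theorem pA_eq_pK (c : Fin 13) {u : T} (hu : dot c u = 1) (v : V) :
    R.pA X v = R.pK X c (v + R.t X u v + R.t X (u + u) v) := by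
  have h0 : dot c 0 = 0 := by simpa using dot_add c 0 0
  have hk : ∀ w : T, R.pK X c (R.t X w v) =
      ∑ a ∈ Finset.univ.filter (fun a => dot c a = dot c w), R.t X a v := by
    intro w
    rw [R.pK_apply]
    refine Finset.sum_equiv (Equiv.addRight w) (fun a => ?_) fun a _ => (R.t_add X a w v).symm
    simp [dot_add]
  conv_rhs => rw [← R.t_zero X v, map_add, map_add, hk, ← R.t_add, ← R.t_add, hk, hk]
  simp only [add_zero, dot_add, hu, h0]
  rw [R.pA_apply, ← Finset.sum_fiberwise Finset.univ (dot c)]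
  exact Fin.sum_univ_three (f := fun k : ZMod 3 => ∑ a ∈ Finset.univ.filter (fun a => dot c a = k), R.t X a v)

theorem exists_sep : ∀ c d : Fin 13, c ≠ d → ∃ u : T, dot c u = 1 ∧ dot d u = 0 := by decide +kernel

theorem pK_pK_ne {c d : Fin 13} (h : c ≠ d) (v : V) : R.pK X c (R.pK X d v) = R.pA X v := by
  obtain ⟨u, hu, hu'⟩ := exists_sep c d h
  have e := R.pA_eq_pK X c hu (R.pK X d v)
  rw [R.t_pK X d hu', R.t_pK X d (by rw [dot_add, hu', add_zero]), R.two, zero_add, R.pA_pK] at e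
  exact e.symm

theorem P_P (c : Fin 13) (v : V) : R.P X c (R.P X c v) = R.P X c v := by
  simp only [R.P_apply, map_add, R.pK_pK, R.pK_pA, R.pA_pK, R.pA_pA, R.two, add_zero]

theorem P_P_ne {c d : Fin 13} (h : c ≠ d) (v : V) : R.P X c (R.P X d v) = 0 := by
  simp only [R.P_apply, map_add, R.pK_pK_ne X h, R.pK_pA, R.pA_pK, R.pA_pA, R.two, add_zero]

theorem P_pA (c : Fin 13) (v : V) : R.P X c (R.pA X v) = 0 := by
  simp only [R.P_apply, R.pK_pA, R.pA_pA, R.two]

theorem pA_P (c : Fin 13) (v : V) : R.pA X (R.P X c v) = 0 := by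
  simp only [R.P_apply, map_add, R.pA_pK, R.pA_pA, R.two]

theorem sum_P (v : V) : (∑ c, R.P X c v) + R.pA X v = v := by
  have h1 : ∑ c, R.pK X c v = v := by
    simp only [R.pK_apply]
    rw [Finset.sum_comm' (t' := Finset.univ) (s' := fun a => Finset.univ.filter fun c => dot c a = 0)
      (by simp)]
    simp only [Finset.sum_const]
    rw [Finset.sum_eq_single (0 : T)]
    · rw [R.nsmul_eq, parity, if_pos rfl, one_nsmul, R.t_zero]
    · intro a _ ha
      rw [R.nsmul_eq, parity, if_neg ha, zero_nsmul]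
    · simp
  simp only [R.P_apply, Finset.sum_add_distrib, h1, Finset.sum_const, Finset.card_univ, Fintype.card_fin]
  rw [R.nsmul_eq, show 13 % 2 = 1 from rfl, one_nsmul, add_assoc, R.two, add_zero]

theorem t_P_comm (c : Fin 13) (b : T) (v : V) : R.t X b (R.P X c v) = R.P X c (R.t X b v) := by
  simp only [R.P_apply, map_add, R.t_pK_comm, R.t_pA, R.pA_t]

theorem t_P (c : Fin 13) {b : T} (hb : dot c b = 0) (v : V) : R.t X b (R.P X c v) = R.P X c v := by
  simp only [R.P_apply, map_add, R.t_pK X c hb, R.t_pA]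

theorem sum_three (c : Fin 13) {u : T} (hu : dot c u = 1) (v : V) :
    R.P X c v + R.t X u (R.P X c v) + R.t X (u + u) (R.P X c v) = 0 := by
  have h := R.pA_eq_pK X c hu (R.P X c v)
  rw [R.pA_P, map_add, map_add, ← R.t_pK_comm, ← R.t_pK_comm] at h
  have e : R.pK X c (R.P X c v) = R.P X c v :=
    R.pK_fixed X c fun a ha => R.t_P X c ha v
  rw [e] at h
  exact h.symm

theorem fixed_P (c : Fin 13) {u : T} (hu : dot c u = 1) {v : V} (hv : R.P X c v = v)
    (h : R.t X u v = v) : v = 0 := by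
  have := R.sum_three X c hu v
  rw [hv, R.t_add, h, h, R.two, zero_add] at this
  exact this

theorem swp_pA (i j : Fin 4) (v : V) : R.ρ (X.swp i j) (R.pA X v) = R.pA X (R.ρ (X.swp i j) v) := by
  rw [R.pA_apply, R.pA_apply, map_sum]
  exact Fintype.sum_equiv (Function.Involutive.toPerm _ (sT_sT i j)) _ _ fun a => R.swp_t X i j a v

theorem swp_P (i j : Fin 4) (c : Fin 13) (v : V) :
    R.ρ (X.swp i j) (R.P X c v) = R.P X (sC i j c) (R.ρ (X.swp i j) v) := by
  rw [R.P_apply, R.P_apply, map_add, R.swp_pA, R.pK_apply, R.pK_apply, map_sum]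
  refine congrArg (fun y => y + _) ?_
  refine Finset.sum_equiv (Function.Involutive.toPerm _ (sT_sT i j)) (fun a => ?_) fun a _ => R.swp_t X i j a v
  simp only [Finset.mem_filter, Finset.mem_univ, true_and]
  exact (dot_sT i j c a).symm

/-- A weight space. -/
def Vc (c : Fin 13) : AddSubgroup V where
  carrier := {v | R.P X c v = v}
  zero_mem' := map_zero _
  add_mem' {u v} hu hv := by
    show R.P X c (u + v) = u + v
    rw [map_add, hu, hv]
  neg_mem' {v} hv := by
    show R.P X c (-v) = -v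
    rw [map_neg, hv]

/-- The fixed space of the torus. -/
def V0 : AddSubgroup V where
  carrier := {v | R.pA X v = v}
  zero_mem' := map_zero _
  add_mem' {u v} hu hv := by
    show R.pA X (u + v) = u + v
    rw [map_add, hu, hv]
  neg_mem' {v} hv := by
    show R.pA X (-v) = -v
    rw [map_neg, hv]

theorem card_prod : 256 = Nat.card (R.V0 X) * ∏ c, Nat.card (R.Vc X c) := by
  classical
  have := R.finite
  rw [← R.card, ← Nat.card_pi, ← Nat.card_prod]
  refine Nat.card_congr
    { toFun := fun v => (⟨R.pA X v, R.pA_pA X v⟩, fun c => ⟨R.P X c v, R.P_P X c v⟩)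
      invFun := fun p => (∑ c, (p.2 c : V)) + p.1
      left_inv := fun v => R.sum_P X v
      right_inv := ?_ }
  rintro ⟨⟨a, ha⟩, p⟩
  have ha' : R.pA X a = a := ha
  have hp : ∀ c, R.P X c (p c : V) = p c := fun c => (p c).2
  refine Prod.ext (Subtype.ext ?_) (funext fun d => Subtype.ext ?_)
  · show R.pA X ((∑ c, (p c : V)) + a) = a
    rw [map_add, map_sum, Finset.sum_eq_zero fun c _ => by rw [← hp c, R.pA_P], zero_add, ha']
  · show R.P X d ((∑ c, (p c : V)) + a) = p d
    rw [map_add, map_sum, ← ha', R.P_pA, add_zero,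
      Finset.sum_eq_single d (fun c _ hcd => by rw [← hp c, R.P_P_ne X hcd.symm]) (by simp), hp]

theorem card_Vc_swap (i j : Fin 4) (c : Fin 13) :
    Nat.card (R.Vc X (sC i j c)) = Nat.card (R.Vc X c) := by
  have := R.finite
  symm
  refine Nat.card_congr (Equiv.ofBijective
    (fun v => ⟨R.ρ (X.swp i j) v, show R.P X (sC i j c) _ = _ by rw [← R.swp_P, v.2]⟩)
    ⟨fun u v h => Subtype.ext (R.ρ_injective _ (Subtype.ext_iff.1 h)), fun w => ?_⟩)
  have hsq : R.ρ (X.swp i j) (R.ρ (X.swp i j) (w : V)) = w := by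
    rw [← R.ρ_mul, X.swp_self, R.ρ_one]
  refine ⟨⟨R.ρ (X.swp i j) w, ?_⟩, Subtype.ext hsq⟩
  show R.P X c _ = _
  have hinv : ∀ (i j : Fin 4) (c : Fin 13), sC i j (sC i j c) = c := by decide +kernel
  conv_rhs => rw [← (w.2 : R.P X (sC i j c) (w : V) = w)]
  rw [R.swp_P, hinv]

theorem four_le (c : Fin 13) {v : V} (hv : R.P X c v = v) (h0 : v ≠ 0) : 4 ≤ Nat.card (R.Vc X c) := by
  classical
  have := R.finite
  have hu := dot_unit c
  have hf : R.t X (unit c) v ≠ v := fun h => h0 (R.fixed_P X c hu hv h)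
  have hm : ∀ a, R.P X c (R.t X a v) = R.t X a v := fun a => by rw [← R.t_P_comm, hv]
  have hne : ∀ a, R.t X a v ≠ 0 := fun a h => h0 (R.ρ_injective _ (h.trans (map_zero _).symm))
  let f : Fin 4 → R.Vc X c :=
    ![0, ⟨v, hv⟩, ⟨R.t X (unit c) v, hm _⟩, ⟨R.t X (unit c + unit c) v, hm _⟩]
  have hinj : Function.Injective f := by
    have h12 : R.t X (unit c + unit c) v ≠ R.t X (unit c) v := fun h => hf (by
      rw [R.t_add] at h
      exact R.ρ_injective _ h)
    have h2 : R.t X (unit c + unit c) v ≠ v := fun h => hf (by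
      have := congrArg (R.t X (unit c)) h
      rw [← R.t_add, show unit c + (unit c + unit c) = 0 from funext fun k => by
        simp only [Pi.add_apply, Pi.zero_apply]
        exact (by decide : ∀ x : ZMod 3, x + (x + x) = 0) _, R.t_zero] at this
      exact this.symm)
    intro a b hab
    have hab' := congrArg (Subtype.val) hab
    fin_cases a <;> fin_cases b <;> simp [f] at hab' ⊢ <;>
      first
        | exact h0 hab' | exact h0 hab'.symm | exact hne _ hab' | exact hne _ hab'.symm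
        | exact hf hab' | exact hf hab'.symm | exact h12 hab' | exact h12 hab'.symm
        | exact h2 hab' | exact h2 hab'.symm
  simpa using Nat.card_le_card_of_injective f hinj

theorem card_Vc_orbit (c : Fin 13) :
    Nat.card (R.Vc X c) = if c.1 < 4 then Nat.card (R.Vc X 0) else if c.1 < 7 then Nat.card (R.Vc X 4)
      else Nat.card (R.Vc X 7) := by
  have e1 := fun i j d => R.card_Vc_swap X i j d
  have key : ∀ c : Fin 13, ∃ i j k l : Fin 4,
      sC k l (sC i j c) = if c.1 < 4 then 0 else if c.1 < 7 then 4 else 7 := by decide +kernel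
  obtain ⟨i, j, k, l, h⟩ := key c
  rw [← e1 i j c, ← e1 k l (sC i j c), h]
  split_ifs <;> rfl

/-- The module is natural or orthogonal. -/
theorem dichotomy :
    (R.pA X = 0 ∧ ∀ c : Fin 13, 4 ≤ c.1 → R.P X c = 0) ∧ (∀ c : Fin 13, c.1 < 4 → Nat.card (R.Vc X c) = 4) ∨
    (Nat.card (R.V0 X) = 4 ∧ (∀ c : Fin 13, (c.1 < 4 ∨ 7 ≤ c.1) → R.P X c = 0) ∧
      ∀ c : Fin 13, (4 ≤ c.1 ∧ c.1 < 7) → Nat.card (R.Vc X c) = 4) := by
  classical
  have := R.finite
  obtain ⟨a, ha⟩ : ∃ a, a = Nat.card (R.Vc X 0) := ⟨_, rfl⟩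
  obtain ⟨b, hb⟩ : ∃ b, b = Nat.card (R.Vc X 4) := ⟨_, rfl⟩
  obtain ⟨d, hd⟩ : ∃ d, d = Nat.card (R.Vc X 7) := ⟨_, rfl⟩
  obtain ⟨w, hw⟩ : ∃ w, w = Nat.card (R.V0 X) := ⟨_, rfl⟩
  have hprod : 256 = w * (a ^ 4 * b ^ 3 * d ^ 6) := by
    rw [R.card_prod X, ← hw]
    refine congrArg (fun y => w * y) ?_
    rw [Finset.prod_congr rfl fun c _ => R.card_Vc_orbit X c]
    simp only [Fin.prod_univ_succ, Fin.prod_univ_zero]
    simp [← ha, ← hb, ← hd]
    ring
  have zero_of : ∀ c, Nat.card (R.Vc X c) = 1 → R.P X c = 0 := fun c h => by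
    obtain ⟨hs, -⟩ := Nat.card_eq_one_iff_unique.1 h
    refine AddMonoidHom.ext fun v => ?_
    exact congrArg Subtype.val (hs.elim (⟨R.P X c v, R.P_P X c v⟩ : R.Vc X c) 0)
  have big : ∀ c, Nat.card (R.Vc X c) = 1 ∨ 4 ≤ Nat.card (R.Vc X c) := fun c => by
    by_cases h : ∃ v, R.P X c v = v ∧ v ≠ 0
    · obtain ⟨v, hv, h0⟩ := h
      exact Or.inr (R.four_le X c hv h0)
    · push Not at h
      exact Or.inl (Nat.card_eq_one_iff_unique.2
        ⟨⟨fun u v => Subtype.ext ((h _ u.2).trans (h _ v.2).symm)⟩, ⟨0⟩⟩)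
  have hpos : 0 < w := hw ▸ Nat.card_pos
  have hpa : 0 < a := ha ▸ Nat.card_pos
  have hpb : 0 < b := hb ▸ Nat.card_pos
  have hd1 : d = 1 := by
    rw [hd]
    refine (big 7).resolve_right fun h => ?_
    rw [← hd] at h
    have h6 : 4 ^ 6 ≤ w * (a ^ 4 * b ^ 3 * d ^ 6) :=
      (Nat.pow_le_pow_left h 6).trans ((Nat.le_mul_of_pos_left _
        (Nat.mul_pos (Nat.pow_pos hpa) (Nat.pow_pos hpb))).trans (Nat.le_mul_of_pos_left _ hpos))
    omega
  rw [hd1, one_pow, mul_one] at hprod
  rcases big 0 with h0 | h0 <;> rcases big 4 with h4 | h4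
  · exfalso
    rw [← ha] at h0; rw [← hb] at h4
    have hall : ∀ c, R.P X c = 0 := fun c => zero_of c (by
      rw [R.card_Vc_orbit X c, ← ha, ← hb, ← hd]
      split_ifs <;> [exact h0; exact h4; exact hd1])
    have hfix : ∀ v, R.pA X v = v := fun v => by
      conv_rhs => rw [← R.sum_P X v]
      simp [hall]
    have h1 := R.faithful (X.tor ![1, 0, 0]) fun v => by
      show R.t X _ v = v
      rw [← hfix v, R.t_pA]
    have h2 := congrArg (fun s => act s (Pi.single 0 1 : Fin 4 → F) 0) h1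
    simp [X.tor_act, act_one, ext, ZMod.val_one] at h2
    exact X.hf.w_ne_one h2
  · refine Or.inr ?_
    rw [← ha] at h0; rw [← hb] at h4
    rw [h0, one_pow, one_mul] at hprod
    have hb6 : b ≤ 6 := by
      by_contra hc
      push Not at hc
      have h7 : 7 ^ 3 ≤ w * b ^ 3 := (Nat.pow_le_pow_left hc 3).trans (Nat.le_mul_of_pos_left _ hpos)
      omega
    have hb4 : b = 4 ∧ w = 4 := by
      interval_cases b <;> omega
    refine ⟨hw.symm.trans hb4.2, fun c hc => zero_of c ?_, fun c hc => ?_⟩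
    · rw [R.card_Vc_orbit X c, ← ha, ← hb, ← hd]
      split_ifs <;> first | exact h0 | exact hd1 | omega
    · rw [R.card_Vc_orbit X c, if_neg (by omega), if_pos hc.2, ← hb]
      exact hb4.1
  · refine Or.inl ?_
    rw [← ha] at h0; rw [← hb] at h4
    rw [h4, one_pow, mul_one] at hprod
    have ha4' : a ≤ 4 := by
      by_contra hc
      push Not at hc
      have h7 : 5 ^ 4 ≤ w * a ^ 4 := (Nat.pow_le_pow_left hc 4).trans (Nat.le_mul_of_pos_left _ hpos)
      omega
    have ha4 : a = 4 ∧ w = 1 := by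
      interval_cases a <;> omega
    refine ⟨⟨?_, fun c hc => zero_of c ?_⟩, fun c hc => ?_⟩
    · obtain ⟨hs, -⟩ := Nat.card_eq_one_iff_unique.1 (hw.symm.trans ha4.2)
      refine AddMonoidHom.ext fun v => ?_
      exact congrArg Subtype.val (hs.elim (⟨R.pA X v, R.pA_pA X v⟩ : R.V0 X) 0)
    · rw [R.card_Vc_orbit X c, if_neg (by omega), ← hb, ← hd]
      split_ifs <;> [exact h4; exact hd1]
    · rw [R.card_Vc_orbit X c, if_pos hc, ← ha]
      exact ha4.1
  · exfalso
    rw [← ha] at h0; rw [← hb] at h4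
    have h5 : 4 ^ 4 * 4 ^ 3 ≤ w * (a ^ 4 * b ^ 3) :=
      (Nat.mul_le_mul (Nat.pow_le_pow_left h0 4) (Nat.pow_le_pow_left h4 3)).trans
        (Nat.le_mul_of_pos_left _ hpos)
    omega

end Rep

end CfsgLib.Recog.U6Cent.Mod
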