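import Cfsg.Agent.Lib.Recog.U6Cent.NatAct

/-!
The lifts of transvections conjugate to `z`: fibres, commutation, braiding, lines.
-/

set_option autoImplicit false
set_option linter.unusedSectionVars false
set_option linter.unusedVariables false
set_option linter.style.haveILetI false

namespace CfsgLib.Recog.U6Cent

open Subgroup Cfsg

variable {G : Type*} [Group G] {F : Type*} [Field F] [Fintype F]

theorem exists_pairing {v : Fin 4 → F} (hv : v ≠ 0) (k : F) : ∃ x, hermForm 4 F 2 x v = k := by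
  classical
  obtain ⟨i, hi⟩ := Function.ne_iff.1 hv
  simp only [Pi.zero_apply] at hi
  refine ⟨Pi.single i (k / v i ^ 2), ?_⟩
  simp only [hermForm]
  rw [Finset.sum_eq_single i (fun j _ hj => by rw [Pi.single_eq_of_ne hj, zero_mul])
    (fun h => absurd (Finset.mem_univ i) h), Pi.single_eq_same, div_mul_cancel₀ _ (pow_ne_zero 2 hi)]

theorem transvec_inj {v w : Fin 4 → F} (hv : v ≠ 0) (h : ∀ x, transvec v x = transvec w x) :
    ∃ k : F, k ≠ 0 ∧ v = k • w := by
  obtain ⟨x, hx⟩ := exists_pairing hv 1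
  have e := h x
  unfold transvec at e
  rw [hx, one_smul] at e
  refine ⟨_, fun h0 => hv ?_, add_left_cancel e⟩
  rw [add_left_cancel e, h0, zero_smul]

theorem transvec_smul (hF : Fintype.card F = 4) {k : F} (hk : k ≠ 0) (v x : Fin 4 → F) :
    transvec (k • v) x = transvec v x := by
  unfold transvec
  rw [herm_smul_right hF, smul_smul]
  congr 2
  have h4 := f4_pow hF k
  have h3 : k ^ 2 * k = 1 := by
    refine mul_left_cancel₀ hk ?_
    rw [mul_one]; exact (by ring : k * (k ^ 2 * k) = k ^ 4).trans h4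
  calc k ^ 2 * hermForm 4 F 2 x v * k = (k ^ 2 * k) * hermForm 4 F 2 x v := by ring
    _ = _ := by rw [h3, one_mul]

theorem exists_orth_pairing (hF : Fintype.card F = 4) {v w : Fin 4 → F} (hv : v ≠ 0)
    (hw : ∀ k : F, w ≠ k • v) (k : F) : ∃ x, hermForm 4 F 2 x v = 0 ∧ hermForm 4 F 2 x w = k := by
  by_contra hne
  push Not at hne
  obtain ⟨x₀, hx₀⟩ := exists_pairing hv 1
  set c := hermForm 4 F 2 x₀ w with hc
  refine hw (c ^ 2) (funext fun i => ?_)
  classical
  have hker : ∀ x, hermForm 4 F 2 x v = 0 → hermForm 4 F 2 x w = 0 := by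
    intro x hx
    by_contra h0
    refine hne ((k / hermForm 4 F 2 x w) • x) ?_ ?_
    · rw [herm_smul_left hF, hx, mul_zero]
    · rw [herm_smul_left hF, div_mul_cancel₀ _ h0]
  have h1 := hker (Pi.single i 1 + hermForm 4 F 2 (Pi.single i 1) v • x₀) (by
    rw [herm_add_left hF, herm_smul_left hF, hx₀, mul_one, f4_add_self hF])
  rw [herm_add_left hF, herm_smul_left hF, ← hc] at h1
  have hsingle : ∀ u : Fin 4 → F, hermForm 4 F 2 (Pi.single i 1) u = u i ^ 2 := fun u => by
    simp only [hermForm]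
    rw [Finset.sum_eq_single i (fun j _ hj => by rw [Pi.single_eq_of_ne hj, zero_mul])
      (fun h => absurd (Finset.mem_univ i) h), Pi.single_eq_same, one_mul]
  rw [hsingle, hsingle] at h1
  have h2 : w i ^ 2 = v i ^ 2 * c := by
    have := eq_neg_of_add_eq_zero_left h1
    rw [this, neg_eq_iff_add_eq_zero, f4_add_self hF]
  have h3 := congrArg (· ^ 2) h2
  simp only [mul_pow, ← pow_mul] at h3
  rw [f4_pow hF, f4_pow hF] at h3
  rw [h3, Pi.smul_apply, smul_eq_mul, mul_comm]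

theorem exists_trace_one (hF : Fintype.card F = 4) : ∃ a : F, a + a ^ 2 = 1 := by
  refine ⟨f4Equiv hF ⟨2⟩, ?_⟩
  rw [← map_pow, ← map_add, ← map_one (f4Equiv hF)]
  exact congrArg _ (by decide)

namespace NatData

variable (N : NatData G F)

/-- `t` acts as the transvection with centre `v`. -/
def TV (t : G) (v : Fin 4 → F) : Prop := ∀ x, N.act t x = transvec v x

theorem d_cent {t : G} (ht : t ∈ N.dset) : t ∈ centralizer ({N.z} : Set G) :=
  mem_centralizer_singleton_iff.2 ht.2.1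

theorem d_sq {t : G} (ht : t ∈ N.dset) : t * t = 1 := by
  obtain ⟨c, rfl⟩ := isConj_iff.1 ht.1
  calc c * N.z * c⁻¹ * (c * N.z * c⁻¹) = c * (N.z * N.z) * c⁻¹ := by group
    _ = 1 := by rw [N.z_sq, mul_one, mul_inv_cancel]

theorem d_inv {t : G} (ht : t ∈ N.dset) : t⁻¹ = t := inv_eq_of_mul_eq_one_right (N.d_sq ht)

theorem d_conj {g t : G} (hg : g ∈ centralizer ({N.z} : Set G)) (ht : t ∈ N.dset) :
    g * t * g⁻¹ ∈ N.dset := by
  have hgz : g * N.z = N.z * g := mem_centralizer_singleton_iff.1 hg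
  refine ⟨ht.1.trans (isConj_iff.2 ⟨g, rfl⟩), ?_, fun e => ht.2.2 ?_⟩
  · exact mem_centralizer_singleton_iff.1 (mul_mem (mul_mem hg (N.d_cent ht)) (inv_mem hg))
  · calc t = g⁻¹ * (g * t * g⁻¹) * g := by group
      _ = g⁻¹ * (N.z * g) := by rw [e, mul_assoc]
      _ = N.z := by rw [← hgz, inv_mul_cancel_left]

theorem tv_conj {g t : G} (hg : g ∈ centralizer ({N.z} : Set G)) (ht : t ∈ N.dset) {v : Fin 4 → F}
    (h : N.TV t v) : N.TV (g * t * g⁻¹) (N.act g v) :=
  N.act_conj_transvec hg (N.d_cent ht) h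

theorem tv_smul {t : G} {v : Fin 4 → F} {k : F} (hk : k ≠ 0) (h : N.TV t v) : N.TV t (k • v) :=
  fun x => (h x).trans (transvec_smul N.hF hk v x).symm

theorem tv_conj_J {j t : G} (hj : j ∈ N.J) (ht : t ∈ N.dset) {v : Fin 4 → F} (h : N.TV t v) :
    N.TV (j * t * j⁻¹) v := by
  have := N.tv_conj (N.J_cent hj) ht h
  rwa [N.act_J hj] at this

variable (O : N.Orbit)
include O

/-- No product of two members is `z`. -/
theorem prod_ne_z {t u : G} (ht : t ∈ N.dset) (hu : u ∈ N.dset) : t * u ≠ N.z := fun h => by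
  have e : t * N.z = u := by rw [← h, ← mul_assoc, N.d_sq ht, one_mul]
  exact O.exclusive t ht (e ▸ hu.1)

/-- The difference of a member and a conjugate under `J`. -/
theorem shift {j t : G} (hj : j ∈ N.J) (ht : t ∈ N.dset) {v : Fin 4 → F} (h : N.TV t v) :
    t * (j * t * j⁻¹) ∈ N.J ∧ N.vec (t * (j * t * j⁻¹)) = hermForm 4 F 2 (N.vec j) v • v := by
  have e : t * (j * t * j⁻¹) = t * j * t⁻¹ * j⁻¹ := by rw [N.d_inv ht]; group
  have h1 := N.J_normal t (N.d_cent ht) j hj
  refine ⟨e ▸ mul_mem h1 (inv_mem hj), ?_⟩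
  rw [e, N.vec_mul _ h1 _ (inv_mem hj), N.vec_inv hj, N.act_vec t (N.d_cent ht) j hj, h]
  unfold transvec
  rw [add_comm (N.vec j), add_assoc,
    show N.vec j + N.vec j = 0 from funext fun i => f4_add_self N.hF _, add_zero]

/-- `J` is transitive on the members over a point. -/
theorem fibre_eq {t u : G} (ht : t ∈ N.dset) (hu : u ∈ N.dset) {v : Fin 4 → F} (hv : v ≠ 0)
    (hvv : hermForm 4 F 2 v v = 0) (h : N.TV t v) (h' : N.TV u v) : ∃ j ∈ N.J, j * t * j⁻¹ = u := by
  classical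
  choose x hx using fun k : F => exists_pairing hv k
  choose j hj hjx using fun k : F => N.vec_surj (x k)
  let φ : F → {s // s ∈ N.dset ∧ ∀ y, N.act s y = transvec v y} := fun k =>
    ⟨j k * t * (j k)⁻¹, N.d_conj (N.J_cent (hj k)) ht, N.tv_conj_J (hj k) ht h⟩
  have hinj : Function.Injective φ := by
    intro k l e
    have e' : j k * t * (j k)⁻¹ = j l * t * (j l)⁻¹ := congrArg Subtype.val e
    have hc : (j l)⁻¹ * j k * t = t * ((j l)⁻¹ * j k) := by
      calc (j l)⁻¹ * j k * t = (j l)⁻¹ * (j k * t * (j k)⁻¹) * j k := by group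
        _ = t * ((j l)⁻¹ * j k) := by rw [e']; group
    have h0 := (O.cent t ht v h _ (mul_mem (inv_mem (hj l)) (hj k))).1 hc
    rw [N.vec_mul _ (inv_mem (hj l)) _ (hj k), N.vec_inv (hj l), hjx, hjx, herm_add_left N.hF, hx,
      hx] at h0
    have := eq_neg_of_add_eq_zero_left h0
    rw [this]
    exact (neg_eq_iff_add_eq_zero.2 (f4_add_self N.hF k)).symm
  have hcard : Nat.card F = Nat.card {s // s ∈ N.dset ∧ ∀ y, N.act s y = transvec v y} := by
    rw [Nat.card_eq_fintype_card, N.hF]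
    exact (O.cover v hv hvv).symm.trans (Nat.card_coe_set_eq _).symm
  haveI : Finite {s // s ∈ N.dset ∧ ∀ y, N.act s y = transvec v y} := Nat.finite_of_card_ne_zero (by
    rw [← hcard, Nat.card_eq_fintype_card, N.hF]; norm_num)
  obtain ⟨k, hk⟩ := (hinj.bijective_of_nat_card_le hcard.ge).surjective ⟨u, hu, h'⟩
  exact ⟨j k, hj k, congrArg Subtype.val hk⟩

/-- Two members over a point commute, and their product is a non-central element over the point. -/
theorem same_point {t u : G} (ht : t ∈ N.dset) (hu : u ∈ N.dset) {v : Fin 4 → F} (hv : v ≠ 0)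
    (hvv : hermForm 4 F 2 v v = 0) (h : N.TV t v) (h' : N.TV u v) :
    t * u ∈ N.J ∧ Commute t u ∧ (∃ k : F, N.vec (t * u) = k • v) ∧
      (t ≠ u → N.vec (t * u) ≠ 0) := by
  obtain ⟨j, hj, rfl⟩ := N.fibre_eq O ht hu hv hvv h h'
  obtain ⟨hm, hs⟩ := N.shift O hj ht h
  refine ⟨hm, ?_, ⟨_, hs⟩, fun hne h0 => ?_⟩
  · have hc : t * (j * t * j⁻¹) * t = t * (t * (j * t * j⁻¹)) :=
      (O.cent t ht v h _ hm).2 (by rw [hs, herm_smul_left N.hF, hvv, mul_zero])
    show t * (j * t * j⁻¹) = j * t * j⁻¹ * t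
    rw [mul_assoc t (j * t * j⁻¹) t] at hc
    exact (mul_left_cancel hc).symm
  · rcases (N.vec_zero _ hm).1 h0 with e | e
    · exact hne ((inv_eq_of_mul_eq_one_right e).symm.trans (N.d_inv ht)).symm
    · exact N.prod_ne_z O ht hu e

theorem cent_self {t : G} (ht : t ∈ N.dset) {v : Fin 4 → F} (h : N.TV t v) {x : G} (hx : x ∈ N.J)
    (hxv : hermForm 4 F 2 (N.vec x) v = 0) : x * t = t * x := (O.cent t ht v h x hx).2 hxv

/-- Members over orthogonal points commute. -/
theorem collinear_commute {t u : G} (ht : t ∈ N.dset) (hu : u ∈ N.dset) {v w : Fin 4 → F} (hv : v ≠ 0)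
    (hw : w ≠ 0) (hvv : hermForm 4 F 2 v v = 0) (hww : hermForm 4 F 2 w w = 0) (h : N.TV t v)
    (h' : N.TV u w) (hvw : hermForm 4 F 2 v w = 0) : Commute t u := by
  by_cases hp : ∃ k : F, w = k • v
  · obtain ⟨k, rfl⟩ := hp
    have hk : k ≠ 0 := fun e => hw (by rw [e, zero_smul])
    exact (N.same_point O ht hu hw hww (N.tv_smul hk h) h').2.1
  push Not at hp
  have hwv : hermForm 4 F 2 w v = 0 := herm_orth_symm N.hF hvw
  set u' := t * u * t⁻¹ with hu'
  have hu'd : u' ∈ N.dset := N.d_conj (N.d_cent ht) hu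
  have hu'v : N.TV u' w := by
    have := N.tv_conj (N.d_cent ht) hu h'
    rw [h w] at this
    unfold transvec at this
    rwa [hwv, zero_smul, add_zero] at this
  obtain ⟨hcJ, hcu, ⟨l, hl⟩, -⟩ := N.same_point O hu hu'd hw hww h' hu'v
  set c := u * u' with hc
  by_cases hl0 : l = 0
  · rw [hl0, zero_smul] at hl
    rcases (N.vec_zero c hcJ).1 hl with e | e
    · have e' : u' = u := ((inv_eq_of_mul_eq_one_right e).symm.trans (N.d_inv hu))
      exact mul_inv_eq_iff_eq_mul.1 e'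
    · exact absurd e (N.prod_ne_z O hu hu'd)
  exfalso
  obtain ⟨a, ha⟩ := exists_trace_one N.hF
  obtain ⟨x, hx1, hx2⟩ := exists_orth_pairing N.hF hv hp (a / l ^ 2)
  obtain ⟨d', hd', rfl⟩ := N.vec_surj x
  have hd't : d' * t = t * d' := N.cent_self O ht h hd' hx1
  have hu2 : d' * u * d'⁻¹ ∈ N.dset := N.d_conj (N.J_cent hd') hu
  obtain ⟨hdJ, hdu, ⟨m, hm⟩, -⟩ := N.same_point O hu hu2 hw hww h' (N.tv_conj_J hd' hu h')
  set d := u * (d' * u * d'⁻¹) with hd
  have hdt : d * t = t * d := N.cent_self O ht h hdJ (by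
    rw [hm, herm_smul_left N.hF, hwv, mul_zero])
  have hdu' : d * u = u * d := N.cent_self O hu h' hdJ (by
    rw [hm, herm_smul_left N.hF, hww, mul_zero])
  have hdd : d * d = 1 := (N.sq_iff d hdJ).2 (by
    rw [hm, herm_smul_left N.hF, herm_smul_right N.hF, hww, mul_zero, mul_zero])
  have hcd : c * d = d * c := (N.comm_iff c hcJ d hdJ).2 (by
    rw [hl, hm, herm_smul_left N.hF, herm_smul_right N.hF, hww, mul_zero, mul_zero, zero_pow two_ne_zero,
      add_zero])
  have huu : u * u = 1 := N.d_sq hu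
  have e2 : d' * u * d'⁻¹ = u * d := by rw [hd, ← mul_assoc, huu, one_mul]
  have key : d' * c * d'⁻¹ = c := by
    have e3 : d' * c * d'⁻¹ = (d' * u * d'⁻¹) * (t * (d' * u * d'⁻¹) * t⁻¹) := by
      rw [hc, hu']
      calc d' * (u * (t * u * t⁻¹)) * d'⁻¹ = (d' * u * d'⁻¹) * (d' * t * u * t⁻¹ * d'⁻¹) := by group
        _ = (d' * u * d'⁻¹) * (t * d' * u * (d' * t)⁻¹) := by rw [← hd't]; group
        _ = _ := by rw [hd't]; group
    rw [e3, e2]
    calc u * d * (t * (u * d) * t⁻¹) = u * d * (t * u * t⁻¹) * (t * d * t⁻¹) := by group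
      _ = u * d * u' * d := by rw [← hu', ← hdt, mul_inv_cancel_right]
      _ = d * c * d := by rw [hc, ← hdu']; group
      _ = c := by rw [← hcd, mul_assoc, hdd, mul_one]
  have hcd' : c * d' = d' * c := by
    conv_lhs => rw [← key]
    rw [inv_mul_cancel_right]
  have h0 := (N.comm_iff c hcJ d' hd').1 hcd'
  rw [hl, herm_smul_left N.hF, herm_swap N.hF (N.vec d') w, hx2, div_pow, ← pow_mul, f4_pow N.hF,
    mul_div_cancel₀ _ hl0, ← pow_mul, f4_pow N.hF, add_comm, ha] at h0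
  exact one_ne_zero h0

/-- Members over non-orthogonal points braid. -/
theorem noncollinear {t u : G} (ht : t ∈ N.dset) (hu : u ∈ N.dset) {v w : Fin 4 → F} (hv : v ≠ 0)
    (hw : w ≠ 0) (hvv : hermForm 4 F 2 v v = 0) (hww : hermForm 4 F 2 w w = 0) (h : N.TV t v)
    (h' : N.TV u w) (hvw : hermForm 4 F 2 v w ≠ 0) : ¬ Commute t u ∧ (t * u) ^ 3 = 1 := by
  set a := hermForm 4 F 2 v w with ha
  have hwv : hermForm 4 F 2 w v = a ^ 2 := herm_swap N.hF v w
  have ha3 : a * a ^ 2 = 1 := by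
    refine mul_left_cancel₀ hvw ?_
    rw [mul_one]
    calc a * (a * a ^ 2) = a ^ 4 := by ring
      _ = a := f4_pow N.hF a
  set p := w + a ^ 2 • v with hp
  have htut : N.TV (t * u * t⁻¹) p := by
    have := N.tv_conj (N.d_cent ht) hu h'
    rw [h w] at this
    unfold transvec at this
    rwa [hwv] at this
  have hutu : N.TV (u * t * u⁻¹) p := by
    have := N.tv_conj (N.d_cent hu) ht h
    rw [h' v] at this
    unfold transvec at this
    rw [← ha] at this
    have e : a ^ 2 • (v + a • w) = p := by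
      rw [smul_add, smul_smul, mul_comm, ha3, one_smul, hp, add_comm]
    exact e ▸ N.tv_smul (pow_ne_zero 2 hvw) this
  have hind : ∀ k : F, k • w ≠ v := by
    intro k e
    rw [← e, herm_smul_left N.hF, hww, mul_zero] at ha
    exact hvw ha
  have hpne : p ≠ 0 := by
    intro e
    refine hind a ?_
    have e' : a • p = 0 := by rw [e, smul_zero]
    rw [hp, smul_add, smul_smul, ha3, one_smul] at e'
    rw [eq_neg_of_add_eq_zero_left e']
    exact funext fun i => neg_eq_iff_add_eq_zero.2 (f4_add_self N.hF _)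
  have hpp : hermForm 4 F 2 p p = 0 := by
    rw [← herm_zero_left (F := F) p]
    have hpv : hermForm 4 F 2 p v = a ^ 2 := by
      rw [hp, herm_add_left N.hF, herm_smul_left N.hF, hvv, mul_zero, add_zero, hwv]
    have hpw : hermForm 4 F 2 p w = a ^ 2 * a := by
      rw [hp, herm_add_left N.hF, herm_smul_left N.hF, hww, zero_add, ← ha]
    rw [herm_zero_left]
    conv_lhs => arg 5; rw [hp]
    rw [herm_add_right N.hF, herm_smul_right N.hF, hpv, hpw, ← pow_mul, f4_pow N.hF, mul_comm (a ^ 2),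
      f4_add_self N.hF]
  refine ⟨fun hc => ?_, ?_⟩
  · rw [hc.eq, mul_inv_cancel_right] at htut
    obtain ⟨k, hk, e⟩ := transvec_inj hw fun x => (h' x).symm.trans (htut x)
    have e' : (1 - k) • w = (k * a ^ 2) • v := by
      rw [sub_smul, one_smul, sub_eq_iff_eq_add, add_comm]
      conv_lhs => rw [e, hp, smul_add, smul_smul]
    refine hind ((k * a ^ 2)⁻¹ * (1 - k)) ?_
    rw [← smul_smul, e', inv_smul_smul₀ (mul_ne_zero hk (pow_ne_zero 2 hvw))]
  have hti := N.d_inv ht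
  have hui := N.d_inv hu
  have d1 : t * u * t⁻¹ ∈ N.dset := N.d_conj (N.d_cent ht) hu
  have d2 : u * t * u⁻¹ ∈ N.dset := N.d_conj (N.d_cent hu) ht
  have e3 : (t * u) ^ 3 = t * u * t⁻¹ * (u * t * u⁻¹) := by
    rw [hti, hui]
    simp only [pow_succ, pow_zero, one_mul, mul_assoc]
  have d3 : t * u * t * (t * u)⁻¹ ∈ N.dset := N.d_conj (mul_mem (N.d_cent ht) (N.d_cent hu)) ht
  have h3v : N.TV (t * u * t * (t * u)⁻¹) w := by
    have := N.tv_conj (mul_mem (N.d_cent ht) (N.d_cent hu)) ht h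
    rw [N.act_mul (N.d_cent ht) (N.d_cent hu), h' v] at this
    unfold transvec at this
    rw [← ha, N.act_add (N.d_cent ht), h, h] at this
    unfold transvec at this
    rw [hvv, zero_smul, add_zero, herm_smul_left N.hF, hwv, ha3, one_smul] at this
    have e : v + (a • w + v) = a • w := by
      rw [add_comm (a • w) v, ← add_assoc, show v + v = 0 from funext fun i => f4_add_self N.hF _,
        zero_add]
    rw [e] at this
    have := N.tv_smul (inv_ne_zero hvw) this
    rwa [inv_smul_smul₀ hvw] at this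
  have e4 : (t * u) ^ 3 = t * u * t * (t * u)⁻¹ * u := by
    rw [mul_inv_rev, hti, hui]
    simp only [pow_succ, pow_zero, one_mul, mul_assoc]
  obtain ⟨hm, -, ⟨k, hk⟩, -⟩ := N.same_point O d1 d2 hpne hpp htut hutu
  obtain ⟨-, -, ⟨l, hl⟩, -⟩ := N.same_point O d3 hu hw hww h3v h'
  rw [← e4] at hl
  rw [← e3] at hk hm
  rw [hk] at hl
  have hk0 : k = 0 := by
    by_contra hk0
    refine hind ((k * a ^ 2)⁻¹ * (l - k)) ?_
    have e' : (l - k) • w = (k * a ^ 2) • v := by
      rw [sub_smul, ← hl, hp, smul_add, add_sub_cancel_left, smul_smul]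
    rw [← smul_smul, e', inv_smul_smul₀ (mul_ne_zero hk0 (pow_ne_zero 2 hvw))]
  rw [hk0, zero_smul] at hk
  rcases (N.vec_zero _ hm).1 hk with e | e
  · exact e
  · exact absurd (e3 ▸ e) (N.prod_ne_z O d1 d2)

/-- The four members over a point multiply to `z`. -/
theorem four_prod {b c d e : G} (hb : b ∈ N.dset) (hc : c ∈ N.dset) (hd : d ∈ N.dset) (he : e ∈ N.dset)
    {v : Fin 4 → F} (hv : v ≠ 0) (hvv : hermForm 4 F 2 v v = 0) (tb : N.TV b v) (tc : N.TV c v)
    (td : N.TV d v) (te : N.TV e v) (n1 : b ≠ c) (n2 : b ≠ d) (n3 : b ≠ e) (n4 : c ≠ d) (n5 : c ≠ e)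
    (n6 : d ≠ e) : b * c * d * e = N.z := by
  obtain ⟨cJ, cb, ⟨kc, hkc⟩, hc0⟩ := N.same_point O hb hc hv hvv tb tc
  obtain ⟨dJ, db, ⟨kd, hkd⟩, hd0⟩ := N.same_point O hb hd hv hvv tb td
  obtain ⟨eJ, eb, ⟨ke, hke⟩, he0⟩ := N.same_point O hb he hv hvv tb te
  have nz : ∀ {k : F} {x : G}, N.vec x = k • v → N.vec x ≠ 0 → k ≠ 0 :=
    fun {k x} hk hx e0 => hx (by rw [hk, e0, zero_smul])
  have dist : ∀ {x y : G}, x ∈ N.dset → y ∈ N.dset → N.TV x v → N.TV y v → x ≠ y →
      N.vec (b * x) ≠ N.vec (b * y) := by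
    intro x y hx hy tx ty hne hxy
    obtain ⟨xJ, xb, -, -⟩ := N.same_point O hb hx hv hvv tb tx
    obtain ⟨yJ, -, -, -⟩ := N.same_point O hb hy hv hvv tb ty
    refine (N.same_point O hx hy hv hvv tx ty).2.2.2 hne ?_
    have e : x * y = (b * x) * (b * y) := by
      rw [xb.eq, mul_assoc, ← mul_assoc b b, N.d_sq hb, one_mul]
    rw [e, N.vec_mul _ xJ _ yJ, hxy]
    exact funext fun i => f4_add_self N.hF _
  have kcd : kc ≠ kd := fun e0 => dist hc hd tc td n4 (by rw [hkc, hkd, e0])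
  have kce : kc ≠ ke := fun e0 => dist hc he tc te n5 (by rw [hkc, hke, e0])
  have kde : kd ≠ ke := fun e0 => dist hd he td te n6 (by rw [hkd, hke, e0])
  have kc0 : kc ≠ 0 := nz hkc (hc0 n1)
  have kd0 : kd ≠ 0 := nz hkd (hd0 n2)
  have ke0 : ke ≠ 0 := nz hke (he0 n3)
  have three : ∀ p q r : F, p ≠ 0 → q ≠ 0 → r ≠ 0 → p ≠ q → p ≠ r → q ≠ r →
      p + q + r = 0 ∧ p ^ 2 * q + (p ^ 2 * q) ^ 2 = 1 := by
    have h0 : ∀ x y w : CfsgLib.InvChar.FQ4, x ≠ 0 → y ≠ 0 → w ≠ 0 → x ≠ y → x ≠ w → y ≠ w →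
        x + y + w = 0 ∧ x * x * y + x * x * y * (x * x * y) = 1 := by decide
    intro p q r
    obtain ⟨x, rfl⟩ := (f4Equiv N.hF).surjective p
    obtain ⟨y, rfl⟩ := (f4Equiv N.hF).surjective q
    obtain ⟨w, rfl⟩ := (f4Equiv N.hF).surjective r
    simp only [map_ne_zero_iff _ (f4Equiv N.hF).injective, ne_eq, (f4Equiv N.hF).injective.eq_iff,
      pow_two, ← map_mul, ← map_add, map_eq_zero_iff _ (f4Equiv N.hF).injective,
      map_eq_one_iff _ (f4Equiv N.hF).injective]
    exact h0 x y w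
  have hprod : b * c * d * e = (b * c) * (b * d) * (b * e) * (b * b) := by
    have hbe : Commute (b * e) b := (Commute.refl b).mul_left eb.symm
    calc b * c * d * e = b * c * (b * b) * d * e := by rw [N.d_sq hb, mul_one]
      _ = (b * c) * (b * (b * d)) * e := by group
      _ = (b * c) * ((b * d) * b) * e := by rw [((Commute.refl b).mul_right db).eq]
      _ = (b * c) * (b * d) * (b * e) := by group
      _ = _ := by rw [N.d_sq hb, mul_one]
  rw [hprod, N.d_sq hb, mul_one]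
  have hsum : N.vec ((b * c) * (b * d) * (b * e)) = 0 := by
    rw [N.vec_mul _ (mul_mem cJ dJ) _ eJ, N.vec_mul _ cJ _ dJ, hkc, hkd, hke, ← add_smul, ← add_smul,
      (three _ _ _ kc0 kd0 ke0 kcd kce kde).1, zero_smul]
  rcases (N.vec_zero _ (mul_mem (mul_mem cJ dJ) eJ)).1 hsum with h1 | h1
  swap
  · exact h1
  exfalso
  -- a conjugate would be `e * z`
  obtain ⟨j, hj, rfl⟩ := N.fibre_eq O hb hc hv hvv tb tc
  have hmu : hermForm 4 F 2 (N.vec j) v = kc := by
    have := (N.shift O hj hb tb).2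
    rw [hkc] at this
    exact (smul_left_injective F hv this).symm
  have hm : j * d * j⁻¹ ∈ N.dset := N.d_conj (N.J_cent hj) hd
  have hnc : ¬ (b * d) * j = j * (b * d) := by
    intro hcm
    have := (N.comm_iff _ dJ j hj).1 hcm
    rw [hkd, herm_smul_left N.hF, herm_swap N.hF (N.vec j) v, hmu, mul_comm kd,
      (three _ _ _ kc0 kd0 ke0 kcd kce kde).2] at this
    exact one_ne_zero this
  have hjd : j * (b * d) * j⁻¹ = (b * d) * N.z := by
    rcases N.comm_or j hj _ dJ with h2 | h2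
    · exact absurd h2.symm hnc
    · rw [h2, mul_assoc, ← N.J_z (inv_mem hj)]; group
  refine O.exclusive e he ?_
  have e1 : b * e = ((b * j * b * j⁻¹) * (b * d))⁻¹ := by
    rw [show b * j * b * j⁻¹ = b * (j * b * j⁻¹) by group]
    exact (inv_eq_of_mul_eq_one_right h1).symm
  have hcc : (b * (j * b * j⁻¹) * (b * d))⁻¹ = b * (j * b * j⁻¹) * (b * d) := by
    refine inv_eq_of_mul_eq_one_right ((N.sq_iff _ (mul_mem cJ dJ)).2 ?_)
    rw [N.vec_mul _ cJ _ dJ, hkc, hkd, ← add_smul, herm_smul_left N.hF, herm_smul_right N.hF, hvv,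
      mul_zero, mul_zero]
  have e2 : e * N.z = j * d * j⁻¹ := by
    have e5 : b * j * b * j⁻¹ = b * (j * b * j⁻¹) := by group
    rw [e5, hcc] at e1
    have e6 : e = j * b * j⁻¹ * (b * d) := by
      calc e = b * (b * e) := by rw [← mul_assoc, N.d_sq hb, one_mul]
        _ = _ := by rw [e1, ← mul_assoc b, ← mul_assoc b, N.d_sq hb, one_mul]
    rw [e6, mul_assoc, ← hjd]
    calc j * b * j⁻¹ * (j * (b * d) * j⁻¹) = j * (b * b) * d * j⁻¹ := by group
      _ = _ := by rw [N.d_sq hb, mul_one]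
  rw [e2]
  exact hm.1

end NatData

end CfsgLib.Recog.U6Cent
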