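import Cfsg.Agent.Lib.Recog.U6Cent.NatFibre
import Cfsg.Agent.Lib.Recog.U6Cent.NatCoord

/-!
Orbits and centralizers of the involutions of `J` in the natural case.
-/

set_option autoImplicit false
set_option linter.style.haveILetI false

namespace CfsgLib.Recog.U6Cent

open Subgroup Cfsg CfsgLib.InvChar
open scoped Matrix

variable {G : Type*} [Group G] {F : Type*} [Field F] [Fintype F]

namespace NatData

variable (N : NatData G F)

/-- The image of `J` under conjugation by `k`. -/
def cj (k : G) : Subgroup G := N.J.map (MulAut.conj k).toMonoidHom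

theorem mem_cj {k x : G} : x ∈ N.cj k ↔ k⁻¹ * x * k ∈ N.J := by
  constructor
  · rintro ⟨y, hy, rfl⟩
    simpa [mul_assoc] using hy
  · intro h
    exact ⟨_, h, by simp [mul_assoc]⟩

/-- An element with a prescribed action carrying one involution of `J` to another. -/
theorem exists_fix {x y h : G} (hx : x ∈ N.J) (hy : y ∈ N.J) (hy0 : N.vec y ≠ 0)
    (hh : h ∈ centralizer ({N.z} : Set G)) (e : N.act h (N.vec x) = N.vec y) :
    ∃ u ∈ centralizer ({N.z} : Set G), u * x * u⁻¹ = y ∧ ∀ v, N.act u v = N.act h v := by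
  have hm := N.J_normal h hh x hx
  rcases N.vec_eq hy hm ((N.act_vec h hh x hx).trans e).symm with h' | h'
  · exact ⟨h, hh, h', fun _ => rfl⟩
  obtain ⟨a, ha⟩ := exists_trace_one N.hF
  obtain ⟨w, hw⟩ := exists_pairing hy0 a
  obtain ⟨j, hj, rfl⟩ := N.vec_surj w
  have hne : ¬ j * y = y * j := fun hc => by
    have := (N.comm_iff j hj y hy).1 hc
    rw [hw, ha] at this
    exact one_ne_zero this
  have hjy : j * y * j⁻¹ = y * N.z := by
    rw [(N.comm_or j hj y hy).resolve_left hne, mul_assoc (y * j), ← N.J_z (inv_mem hj)]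
    group
  have hjz : j * N.z * j⁻¹ = N.z := by rw [N.J_z hj, mul_inv_cancel_right]
  refine ⟨j * h, mul_mem (N.J_cent hj) hh, ?_, fun v => ?_⟩
  · calc j * h * x * (j * h)⁻¹ = j * (h * x * h⁻¹) * j⁻¹ := by group
      _ = j * y * j⁻¹ * (j * N.z * j⁻¹) := by rw [h']; group
      _ = y := by rw [hjy, hjz, mul_assoc, N.z_sq, mul_one]
  · rw [N.act_mul (N.J_cent hj) hh, N.act_J hj]

theorem vec_ne {x : G} (hx : x ∈ N.J) (h1 : x ≠ 1) (hz : x ≠ N.z) : N.vec x ≠ 0 := fun h => by
  rcases (N.vec_zero x hx).1 h with e | e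
  exacts [h1 e, hz e]

/-- The centralizer of `z` is transitive on the involutions of `J` other than `z`. -/
theorem invol_orbit {x y : G} (hx : x ∈ N.J) (hx2 : x * x = 1) (hx0 : N.vec x ≠ 0) (hy : y ∈ N.J)
    (hy2 : y * y = 1) (hy0 : N.vec y ≠ 0) :
    ∃ u ∈ centralizer ({N.z} : Set G), u * x * u⁻¹ = y := by
  obtain ⟨M, hM⟩ := exists_su_map N.hF ((N.sq_iff x hx).1 hx2) hx0 ((N.sq_iff y hy).1 hy2) hy0
  obtain ⟨h, hh, he⟩ := N.act_surj M
  obtain ⟨u, hu, e, -⟩ := N.exists_fix hx hy hy0 (N.H0_le hh) (by rw [he, hM])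
  exact ⟨u, hu, e⟩

/-- A set in `J` with vectors in `T` has at most twice as many elements as `T`. -/
theorem card_le_vec (U : Subgroup G) (hU : U ≤ N.J) (T : Set (Fin 4 → F))
    (hT : ∀ x ∈ U, N.vec x ∈ T) : Nat.card U ≤ 2 * Nat.card T := by
  classical
  choose r hr hrv using N.vec_surj
  let f : U → Bool × T := fun x => (decide (r (N.vec x) = x), ⟨N.vec x, hT x x.2⟩)
  have hf : Function.Injective f := by
    intro x y e
    simp only [f, Prod.mk.injEq, Subtype.mk.injEq, decide_eq_decide] at e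
    obtain ⟨e1, e2⟩ := e
    have hor : ∀ w : U, r (N.vec w) = w ∨ (w : G) = r (N.vec w) * N.z := fun w =>
      (N.vec_eq (hr _) (hU w.2) (hrv _)).imp Eq.symm id
    rw [e2] at e1
    refine Subtype.ext ?_
    rcases hor x with h | h
    · rw [e2] at h
      exact h.symm.trans (e1.1 h)
    · rcases hor y with h' | h'
      · rw [← e1.2 h', h']
      · rw [h, h', e2]
  calc Nat.card U ≤ Nat.card (Bool × T) := Nat.card_le_card_of_injective f hf
    _ = 2 * Nat.card T := by simp

/-- The isotropic nonzero vectors are 135 in number. -/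
theorem card_iso (hF : Fintype.card F = 4) :
    Nat.card {v : Fin 4 → F // hermForm 4 F 2 v v = 0 ∧ v ≠ 0} = 135 := by
  let f : Fin 45 × Fˣ → {v : Fin 4 → F // hermForm 4 F 2 v v = 0 ∧ v ≠ 0} := fun p =>
    ⟨(p.2 : F) • pv hF p.1,
      by rw [herm_smul_left hF, herm_smul_right hF, pv_iso hF, mul_zero, mul_zero],
      smul_ne_zero p.2.ne_zero (pv_ne hF p.1)⟩
  have hf : Function.Bijective f := by
    constructor
    · rintro ⟨i, k⟩ ⟨j, l⟩ e
      simp only [f, Subtype.mk.injEq] at e
      obtain rfl : i = j := pv_unique hF (k := (k : F)⁻¹ * l) (by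
        rw [mul_smul, ← e, inv_smul_smul₀ k.ne_zero])
      obtain rfl : k = l := Units.ext (smul_left_injective F (pv_ne hF i) e)
      rfl
    · rintro ⟨v, h, hv⟩
      obtain ⟨i, k, hk, rfl⟩ := pv_cover hF hv h
      exact ⟨(i, Units.mk0 k hk), rfl⟩
  classical
  rw [← Nat.card_eq_of_bijective f hf, Nat.card_prod, Nat.card_eq_fintype_card, Fintype.card_fin,
    Nat.card_units, Nat.card_eq_fintype_card, hF]

/-- The orbit of an involution of `J` other than `z` has 270 elements. -/
theorem card_cent {t : G} (ht : t ∈ N.J) (ht2 : t * t = 1) (ht0 : N.vec t ≠ 0) :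
    Nat.card (centralizer ({N.z} : Set G) ⊓ centralizer ({t} : Set G) : Subgroup G) * 270 =
      Nat.card (centralizer ({N.z} : Set G)) := by
  classical
  set C := centralizer ({N.z} : Set G) with hC
  letI : MulAction C G := MulAction.compHom G ((MulAut.conj : G →* MulAut G).comp C.subtype)
  have hsmul : ∀ (c : C) (x : G), c • x = (c : G) * x * (c : G)⁻¹ := fun c x => rfl
  have horb : MulAction.orbit C t = {x | x ∈ N.J ∧ x * x = 1 ∧ N.vec x ≠ 0} := by
    ext x
    constructor
    · rintro ⟨c, rfl⟩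
      simp only [Set.mem_ofPred_eq, hsmul]
      refine ⟨N.J_normal c c.2 t ht, by rw [conj_mul, ht2, mul_one, mul_inv_cancel], ?_⟩
      rw [N.act_vec c c.2 t ht]
      exact N.act_ne_zero c.2 ht0
    · rintro ⟨hx, hx2, hx0⟩
      obtain ⟨u, hu, e⟩ := N.invol_orbit ht ht2 ht0 hx hx2 hx0
      exact ⟨⟨u, hu⟩, (hsmul _ _).trans e⟩
  have h270 : (MulAction.orbit C t).ncard = 270 := by
    rw [horb, ← Nat.card_coe_set_eq]
    choose r hr hrv using N.vec_surj
    let f : Bool × {v : Fin 4 → F // hermForm 4 F 2 v v = 0 ∧ v ≠ 0} →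
        {x | x ∈ N.J ∧ x * x = 1 ∧ N.vec x ≠ 0} := fun p =>
      ⟨bif p.1 then r p.2 * N.z else r p.2, by
        have hv : N.vec (r p.2 * N.z) = p.2 := (N.vec_mul_z (hr _)).trans (hrv _)
        cases p.1
        · exact ⟨hr _, (N.sq_iff _ (hr _)).2 (by rw [hrv]; exact p.2.2.1), by rw [cond_false, hrv]; exact p.2.2.2⟩
        · refine ⟨mul_mem (hr _) N.z_mem, (N.sq_iff _ (mul_mem (hr _) N.z_mem)).2 ?_, ?_⟩
          · rw [hv]; exact p.2.2.1
          · rw [cond_true, hv]; exact p.2.2.2⟩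
    have hf : Function.Bijective f := by
      constructor
      · rintro ⟨b, v⟩ ⟨b', v'⟩ e
        simp only [f, Subtype.mk.injEq] at e
        obtain rfl : v = v' := Subtype.ext <| by
          have := congrArg N.vec e
          cases b <;> cases b' <;> simpa [N.vec_mul_z (hr _), hrv] using this
        cases b <;> cases b' <;> simp [N.z_ne] at e ⊢
      · rintro ⟨x, hx, hx2, hx0⟩
        rcases N.vec_eq (hr (N.vec x)) hx (hrv _) with e | e
        · exact ⟨(false, ⟨N.vec x, (N.sq_iff x hx).1 hx2, hx0⟩), Subtype.ext e.symm⟩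
        · exact ⟨(true, ⟨N.vec x, (N.sq_iff x hx).1 hx2, hx0⟩), Subtype.ext e.symm⟩
    rw [← Nat.card_eq_of_bijective f hf, Nat.card_prod, card_iso N.hF, Nat.card_eq_fintype_card,
      Fintype.card_bool]
  have hstab : MulAction.stabilizer C t = (centralizer ({t} : Set G)).subgroupOf C := by
    ext c
    rw [MulAction.mem_stabilizer_iff, hsmul, mem_subgroupOf, mem_centralizer_singleton_iff,
      mul_inv_eq_iff_eq_mul]
  have h := (MulAction.stabilizer C t).card_mul_index
  rw [MulAction.index_stabilizer, h270, hstab] at h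
  rw [← h, ← Nat.card_congr (subgroupOfEquivOfLe
    (inf_le_left (a := C) (b := centralizer ({t} : Set G)))).toEquiv, inf_subgroupOf_left]

/-- An involution of `J` other than `z` commutes with half of `J`. -/
theorem card_J_cent {x : G} (hx : x ∈ N.J) (hx0 : N.vec x ≠ 0) :
    Nat.card (N.J ⊓ centralizer ({x} : Set G) : Subgroup G) = 256 := by
  obtain ⟨a, ha⟩ := exists_trace_one N.hF
  obtain ⟨w, hw⟩ := exists_pairing hx0 a
  obtain ⟨j, hj, rfl⟩ := N.vec_surj w
  have hidx : ((centralizer ({x} : Set G)).subgroupOf N.J).index = 2 := by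
    refine index_eq_two_iff.2 ⟨⟨j, hj⟩, fun b => ?_⟩
    simp only [mem_subgroupOf, mem_centralizer_singleton_iff, Subgroup.coe_mul]
    rw [N.comm_iff _ (mul_mem b.2 hj) x hx, N.comm_iff _ b.2 x hx, N.vec_mul _ b.2 _ hj,
      herm_add_left N.hF, hw, f4_frob N.hF, add_add_add_comm, ha]
    set c := hermForm 4 F 2 (N.vec b) (N.vec x)
    have hc : (c + c ^ 2) * (c + c ^ 2 + 1) = 0 := by
      linear_combination f4_pow N.hF c + (c ^ 3 + c ^ 2 + c) * f4_char N.hF
    rcases mul_eq_zero.1 hc with h | h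
    · exact Or.inr ⟨h, by rw [h, zero_add]; exact one_ne_zero⟩
    · refine Or.inl ⟨h, fun h0 => ?_⟩
      rw [h0, zero_add] at h
      exact one_ne_zero h
  have h := ((centralizer ({x} : Set G)).subgroupOf N.J).card_mul_index
  rw [hidx, N.card_J, ← inf_subgroupOf_left,
    Nat.card_congr (subgroupOfEquivOfLe (inf_le_left (a := N.J) (b := centralizer ({x} : Set G)))).toEquiv] at h
  omega

omit [Fintype F] in
theorem map_conj_cent (g x : G) :
    (centralizer ({x} : Set G)).map (MulAut.conj g).toMonoidHom = centralizer ({g * x * g⁻¹} : Set G) := by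
  ext y
  rw [mem_centralizer_singleton_iff]
  constructor
  · rintro ⟨w, hw, rfl⟩
    have := mem_centralizer_singleton_iff.1 hw
    show g * w * g⁻¹ * (g * x * g⁻¹) = g * x * g⁻¹ * (g * w * g⁻¹)
    rw [conj_mul, conj_mul, this]
  · intro h
    refine ⟨g⁻¹ * y * g, mem_centralizer_singleton_iff.2 ?_, by simp [mul_assoc]⟩
    calc g⁻¹ * y * g * x = g⁻¹ * (y * (g * x * g⁻¹)) * g := by group
      _ = _ := by rw [h]; group

end NatData

end CfsgLib.Recog.U6Cent
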