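import Cfsg.Agent.Lib.Recog.U6Cent.NatCoord

/-!
The finite checks behind the fact that `z` is the only one of its conjugates in `O₂(C(z))`: sets of vectors which
are totally singular for the quadratic form of squaring and invariant under the transvections fixing `(1,1,0,0)`.
-/

set_option autoImplicit false
set_option maxRecDepth 100000

namespace CfsgLib.Recog.U6Cent

open Cfsg CfsgLib.InvChar

/-- A vector by its coordinates. -/
def qv (a b c d : FQ4) : Fin 4 → FQ4 := ![a, b, c, d]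

/-- The displacement of `w` under the transvection of the point `i`. -/
def qd (i : Fin 45) (w : Fin 4 → FQ4) : Fin 4 → FQ4 := fun x => Gq.hq w (Gq.rep i) * Gq.rep i x

/-- Membership in the field of two elements. -/
def qb (x : FQ4) : Prop := x + x * x = 0

instance qbDec (x : FQ4) : Decidable (qb x) := inferInstanceAs (Decidable (_ = _))

theorem out_check : ∀ a b c d : FQ4, Gq.hq (qv a b c d) (qv a b c d) = 0 → Gq.hq (qv a b c d) q0 = 1 →
    ∃ i, Gq.hq (Gq.rep i) q0 = 0 ∧ ∃ j, Gq.hq (Gq.rep j) q0 = 0 ∧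
      ¬ qb (Gq.hq (qd i (qv a b c d)) (qd j (qv a b c d))) := by
  decide +kernel

theorem line_check : ∀ a c d : FQ4, Gq.hq (qv a a c d) (qv a a c d) = 0 → (c ≠ 0 ∨ d ≠ 0) →
    (∃ i, Gq.hq (Gq.rep i) q0 = 0 ∧ ∃ j, Gq.hq (Gq.rep j) q0 = 0 ∧
      ∀ x, qd i (qv a a c d) x + qd j (qv a a c d) x = (⟨2⟩ : FQ4) * q0 x) ∧
    (∃ i, Gq.hq (Gq.rep i) q0 = 0 ∧ (qd i (qv a a c d) 2 ≠ 0 ∨ qd i (qv a a c d) 3 ≠ 0) ∧
      (qd i (qv a a c d) 2 ≠ c ∨ qd i (qv a a c d) 3 ≠ d)) ∧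
    ∀ k l : FQ4, k ≠ 0 → k ≠ 1 → ¬ qb (Gq.hq (qv a a c d) (qv l l (k * c) (k * d))) ∨
      ∃ i, Gq.hq (Gq.rep i) q0 = 0 ∧ (¬ qb (Gq.hq (qd i (qv a a c d)) (qv a a c d)) ∨
        ¬ qb (Gq.hq (qd i (qv a a c d)) (qv l l (k * c) (k * d)))) := by
  decide +kernel

theorem q0_pairing : ∀ a b c d : FQ4, Gq.hq (qv a b c d) q0 = a + b := by decide +kernel

theorem qb_cases : ∀ x : FQ4, qb x → x = 0 ∨ x = 1 := by decide +kernel

theorem q_add_self : ∀ x : FQ4, x + x = 0 := by decide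

theorem q_add_eq : ∀ a b : FQ4, a + b = 0 → a = b := by decide

/-- The properties of the set used below. -/
structure QSing (S : Set (Fin 4 → FQ4)) : Prop where
  q0_mem : q0 ∈ S
  add : ∀ a ∈ S, ∀ b ∈ S, (fun x => a x + b x) ∈ S
  sing : ∀ a ∈ S, Gq.hq a a = 0
  sub : ∀ a ∈ S, ∀ b ∈ S, qb (Gq.hq a b)
  inv : ∀ i, Gq.hq (Gq.rep i) q0 = 0 → ∀ a ∈ S, (fun x => a x + qd i a x) ∈ S

namespace QSing

variable {S : Set (Fin 4 → FQ4)} (h : QSing S)
include h

theorem qd_mem {i : Fin 45} (hi : Gq.hq (Gq.rep i) q0 = 0) {a : Fin 4 → FQ4} (ha : a ∈ S) : qd i a ∈ S := by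
  have h1 := h.add a ha _ (h.inv i hi a ha)
  convert h1 using 1
  funext x
  rw [← add_assoc, q_add_self, zero_add]

theorem eq_diag {a : Fin 4 → FQ4} (ha : a ∈ S) : a = qv (a 0) (a 0) (a 2) (a 3) := by
  have e : a = qv (a 0) (a 1) (a 2) (a 3) := funext fun x => by fin_cases x <;> rfl
  rcases qb_cases _ (h.sub a ha _ h.q0_mem) with h0 | h0
  · rw [e, q0_pairing] at h0
    conv_lhs => rw [e, ← q_add_eq _ _ h0]
  · exfalso
    rw [e] at h0
    obtain ⟨i, hi, j, hj, hb⟩ := out_check _ _ _ _ (e ▸ h.sing a ha) h0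
    rw [← e] at hb
    exact hb (h.sub _ (h.qd_mem hi ha) _ (h.qd_mem hj ha))

/-- No member has a proper multiple modulo the line of `q0` as a member. -/
theorem no_mult {a b : Fin 4 → FQ4} (ha : a ∈ S) (hb : b ∈ S) {k : FQ4} (hk : k ≠ 0) (hk1 : k ≠ 1)
    (h2 : b 2 = k * a 2) (h3 : b 3 = k * a 3) : a 2 = 0 ∧ a 3 = 0 := by
  by_contra hc
  have ea := h.eq_diag ha
  have eb := h.eq_diag hb
  rw [h2, h3] at eb
  obtain ⟨-, -, hm⟩ := line_check (a 0) (a 2) (a 3) (ea ▸ h.sing a ha) (by tauto)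
  rcases hm k (b 0) hk hk1 with hm | ⟨i, hi, hm | hm⟩
  · rw [← ea, ← eb] at hm
    exact hm (h.sub a ha b hb)
  · rw [← ea] at hm
    exact hm (h.sub _ (h.qd_mem hi ha) a ha)
  · rw [← ea, ← eb] at hm
    exact hm (h.sub _ (h.qd_mem hi ha) b hb)

/-- Either the set lies on the line of `q0`, or it contains the line and at least sixteen vectors. -/
theorem dichotomy : (∀ a ∈ S, a 2 = 0 ∧ a 3 = 0) ∨
    ((fun x => (⟨2⟩ : FQ4) * q0 x) ∈ S ∧
      ∃ f : FQ4 × Bool × Bool → Fin 4 → FQ4, Function.Injective f ∧ ∀ p, f p ∈ S) := by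
  by_cases hall : ∀ a ∈ S, a 2 = 0 ∧ a 3 = 0
  · exact Or.inl hall
  right
  push Not at hall
  obtain ⟨a, ha, hne⟩ := hall
  have ea := h.eq_diag ha
  have hne' : a 2 ≠ 0 ∨ a 3 ≠ 0 := by tauto
  obtain ⟨⟨i, hi, j, hj, hij⟩, ⟨l, hl, hl0, hla⟩, -⟩ :=
    line_check (a 0) (a 2) (a 3) (ea ▸ h.sing a ha) hne'
  rw [← ea] at hij hl0 hla
  have hw : (fun x => (⟨2⟩ : FQ4) * q0 x) ∈ S := by
    have := h.add _ (h.qd_mem hi ha) _ (h.qd_mem hj ha)
    rwa [show (fun x => qd i a x + qd j a x) = fun x => (⟨2⟩ : FQ4) * q0 x from funext hij] at this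
  have hz : (fun _ => (0 : FQ4)) ∈ S := by
    convert h.add a ha a ha using 1
    exact funext fun x => (q_add_self _).symm
  have hline : ∀ k : FQ4, (fun x => k * q0 x) ∈ S := by
    intro k
    rcases fq4_cases k with rfl | rfl | rfl | rfl
    · convert hz using 1; funext x; fin_cases x <;> rfl
    · convert h.q0_mem using 1; funext x; fin_cases x <;> rfl
    · exact hw
    · convert h.add _ h.q0_mem _ hw using 1; funext x; fin_cases x <;> rfl
  have hd := h.qd_mem hl ha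
  refine ⟨hw, fun p x => p.1 * q0 x + ((bif p.2.1 then a x else 0) + (bif p.2.2 then qd l a x else 0)),
    fun p p' e => ?_, fun ⟨k, e1, e2⟩ => h.add _ (hline k) _ ?_⟩
  · obtain ⟨k, e1, e2⟩ := p
    obtain ⟨k', e1', e2'⟩ := p'
    have h0 := congrFun e 0
    have h2 := congrFun e 2
    have h3 := congrFun e 3
    simp only [show q0 2 = 0 from rfl, show q0 3 = 0 from rfl, show q0 0 = 1 from rfl] at h0 h2 h3
    have key : ∀ c d c' d' : FQ4, (c ≠ 0 ∨ d ≠ 0) → (c' ≠ 0 ∨ d' ≠ 0) → (c' ≠ c ∨ d' ≠ d) →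
        ∀ k k' : FQ4, ∀ u v u' v' : Bool,
          k * 0 + ((bif u then c else 0) + (bif v then c' else 0)) =
            k' * 0 + ((bif u' then c else 0) + (bif v' then c' else 0)) →
          k * 0 + ((bif u then d else 0) + (bif v then d' else 0)) =
            k' * 0 + ((bif u' then d else 0) + (bif v' then d' else 0)) → u = u' ∧ v = v' := by
      decide +kernel
    obtain ⟨rfl, rfl⟩ := key _ _ _ _ hne' hl0 hla k k' e1 e2 e1' e2' h2 h3
    rw [mul_one, mul_one] at h0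
    rw [add_right_cancel h0]
  · cases e1 <;> cases e2
    · simpa [q_add_self] using hz
    · simpa using hd
    · simpa using ha
    · exact h.add a ha _ hd

end QSing

end CfsgLib.Recog.U6Cent
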