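import Cfsg.Agent.Lib.Recog.U6Cent.NatJStep
import Cfsg.Agent.Lib.Recog.U6Cent.NatJChecks

/-!
The intersection of `J` with a conjugate of it: its vectors form a set to which the finite checks apply.
-/

set_option autoImplicit false
set_option linter.style.haveILetI false

namespace CfsgLib.Recog.U6Cent

open Subgroup Cfsg CfsgLib.InvChar
open scoped Matrix

variable {G : Type*} [Group G] {F : Type*} [Field F] [Fintype F]

namespace NatData

variable (N : NatData G F)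

/-- The meet of `J` with its conjugate by `g`. -/
def meetJ (g : G) : Subgroup G := N.J ⊓ N.cj g

theorem mem_meetJ {g x : G} : x ∈ N.meetJ g ↔ x ∈ N.J ∧ g⁻¹ * x * g ∈ N.J := by
  rw [meetJ, mem_inf, mem_cj]

/-- A member of the vectors of a subgroup, in the model field. -/
def mvec (A : Subgroup G) : Set (Fin 4 → FQ4) :=
  {w | ∃ x ∈ A, N.vec x = fun j => f4Equiv N.hF (w j)}

theorem cj_cent {g x : G} (hx : x ∈ N.cj g) : x ∈ centralizer ({g * N.z * g⁻¹} : Set G) := by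
  rw [← map_conj_cent]
  obtain ⟨y, hy, rfl⟩ := hx
  exact mem_map_of_mem _ (N.J_cent hy)

theorem cj_conj {g a x : G} (ha : a ∈ centralizer ({g * N.z * g⁻¹} : Set G)) (hx : x ∈ N.cj g) :
    a * x * a⁻¹ ∈ N.cj g := by
  rw [mem_cj] at hx ⊢
  rw [← map_conj_cent] at ha
  obtain ⟨c, hc, rfl⟩ := ha
  have := N.J_normal c hc _ hx
  rwa [show g⁻¹ * ((MulAut.conj g).toMonoidHom c * x * ((MulAut.conj g).toMonoidHom c)⁻¹) * g =
    c * (g⁻¹ * x * g) * c⁻¹ by simp [mul_assoc]]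

theorem cj_eq {g k : G} (h : k * N.z * k⁻¹ = g * N.z * g⁻¹) : N.cj k = N.cj g := by
  have hc : k⁻¹ * g ∈ centralizer ({N.z} : Set G) := mem_centralizer_singleton_iff.2 <| by
    calc k⁻¹ * g * N.z = k⁻¹ * (g * N.z * g⁻¹) * g := by group
      _ = _ := by rw [← h]; group
  ext x
  rw [mem_cj, mem_cj]
  constructor <;> intro hx
  · have := N.J_normal _ (inv_mem hc) _ hx
    rwa [show (k⁻¹ * g)⁻¹ * (k⁻¹ * x * k) * (k⁻¹ * g)⁻¹⁻¹ = g⁻¹ * x * g by group] at this
  · have := N.J_normal _ hc _ hx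
    rwa [show k⁻¹ * g * (g⁻¹ * x * g) * (k⁻¹ * g)⁻¹ = k⁻¹ * x * k by group] at this

theorem meetJ_mul {r g : G} (hr : r ∈ centralizer ({N.z} : Set G)) :
    N.meetJ (r * g) = (N.meetJ g).map (MulAut.conj r).toMonoidHom := by
  ext x
  rw [mem_meetJ]
  constructor
  · rintro ⟨h1, h2⟩
    refine ⟨r⁻¹ * x * r, N.mem_meetJ.2 ⟨?_, ?_⟩, by simp [mul_assoc]⟩
    · have := N.J_normal r⁻¹ (inv_mem hr) x h1
      rwa [inv_inv] at this
    · rwa [show g⁻¹ * (r⁻¹ * x * r) * g = (r * g)⁻¹ * x * (r * g) by group]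
  · rintro ⟨y, hy, rfl⟩
    obtain ⟨h1, h2⟩ := N.mem_meetJ.1 hy
    refine ⟨N.J_normal r hr y h1, ?_⟩
    rwa [show (r * g)⁻¹ * (MulAut.conj r).toMonoidHom y * (r * g) = g⁻¹ * y * g by simp [mul_assoc]]

/-- The commutator of an element of `J` and an element of `C(z)`. -/
theorem vec_comm {y a : G} (hy : y ∈ centralizer ({N.z} : Set G)) (ha : a ∈ N.J) :
    a * y * a⁻¹ * y⁻¹ ∈ N.J ∧ N.vec (a * y * a⁻¹ * y⁻¹) = N.vec a + N.act y (N.vec a) := by
  have h := N.J_normal y hy a⁻¹ (inv_mem ha)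
  rw [show a * y * a⁻¹ * y⁻¹ = a * (y * a⁻¹ * y⁻¹) by group]
  exact ⟨mul_mem ha h, by rw [N.vec_mul a ha _ h, N.act_vec y hy _ (inv_mem ha), N.vec_inv ha]⟩

theorem sq_conj {g x : G} (hx : g⁻¹ * x * g ∈ N.J) :
    x * x = 1 ∨ x * x = g * N.z * g⁻¹ := by
  rcases N.sq_or _ hx with h | h
  · left
    calc x * x = g * ((g⁻¹ * x * g) * (g⁻¹ * x * g)) * g⁻¹ := by group
      _ = 1 := by rw [h, mul_one, mul_inv_cancel]
  · right
    calc x * x = g * ((g⁻¹ * x * g) * (g⁻¹ * x * g)) * g⁻¹ := by group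
      _ = _ := by rw [h]

/-- Two inner actions bound a subgroup by twice its part in `J`. -/
theorem card_two_act [Finite G] (U : Subgroup G) (hU : U ≤ centralizer ({N.z} : Set G))
    {w : Fin 4 → F}
    (h : ∀ y ∈ U, (∀ v, N.act y v = v) ∨ ∀ v, N.act y v = transvec w v) :
    Nat.card U ≤ 2 * Nat.card (N.J ⊓ U : Subgroup G) := by
  classical
  let f : U ⧸ N.J.subgroupOf U → Bool := fun q => decide ((q.out : G) ∈ N.J)
  have hf : Function.Injective f := by
    intro p q e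
    rw [← QuotientGroup.out_eq' p, ← QuotientGroup.out_eq' q, QuotientGroup.eq, mem_subgroupOf]
    simp only [f, decide_eq_decide] at e
    by_cases hp : (p.out : G) ∈ N.J
    · simpa using mul_mem (inv_mem hp) (e.1 hp)
    · have hq : (q.out : G) ∉ N.J := fun hq => hp (e.2 hq)
      have hp' := (h _ p.out.2).resolve_left fun hh => hp ((N.act_one _ (hU p.out.2)).1 hh)
      have hq' := (h _ q.out.2).resolve_left fun hh => hq ((N.act_one _ (hU q.out.2)).1 hh)
      simpa using N.mem_J_of_act_eq (hU p.out.2) (hU q.out.2) fun v => (hp' v).trans (hq' v).symm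
  have h1 := Nat.card_le_card_of_injective f hf
  rw [Nat.card_eq_fintype_card (α := Bool), Fintype.card_bool] at h1
  rw [card_eq_card_quotient_mul_card_subgroup (N.J.subgroupOf U), ← inf_subgroupOf_right,
    Nat.card_congr (subgroupOfEquivOfLe (inf_le_right (a := N.J) (b := U))).toEquiv]
  rw [inf_subgroupOf_right] at *
  exact Nat.mul_le_mul_right _ h1

/-- An element moving the vectors orthogonal to `v0` along its line acts linearly. -/
theorem linear_of_perp {y : G} (hy : y ∈ centralizer ({N.z} : Set G))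
    (hp : ∀ x, hermForm 4 F 2 x (v0 N.hF) = 0 → ∃ k : F, N.act y x = x + k • v0 N.hF) :
    ∃ M : SU 4 F 2, ∀ v, N.act y v = slToMat 4 F M *ᵥ v := by
  refine (N.act_cases hy).resolve_right fun hs => ?_
  obtain ⟨w, hw0, hw1, hw2, -⟩ := exists_omega N.hF
  obtain ⟨-, -, c2, -⟩ := v0_coord N.hF
  obtain ⟨a, ha⟩ := hp (Pi.single 2 1) (by rw [herm_v0 N.hF]; simp)
  obtain ⟨b, hb⟩ := hp (w • Pi.single 2 1) (by rw [herm_v0 N.hF]; simp)
  rw [hs, ha] at hb
  have h := congrFun hb 2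
  simp [c2] at h
  rw [hw2] at h
  exact one_ne_zero (by linear_combination h : (1 : F) = 0)

/-- An element moving `e₀` and the vectors orthogonal to `v0` along its line. -/
theorem two_acts {y : G} (hy : y ∈ centralizer ({N.z} : Set G)) (hv : N.act y (v0 N.hF) = v0 N.hF)
    (hp : ∀ x, hermForm 4 F 2 x (v0 N.hF) = 0 → ∃ k : F, N.act y x = x + k • v0 N.hF)
    (h0 : ∃ k : F, N.act y (Pi.single 0 1) = Pi.single 0 1 + k • v0 N.hF) :
    (∀ v, N.act y v = v) ∨ ∀ v, N.act y v = transvec (v0 N.hF) v := by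
  obtain ⟨M, hM⟩ := N.linear_of_perp hy hp
  obtain ⟨γ, e0⟩ := h0
  obtain ⟨α, e2⟩ := hp (Pi.single 2 1) (by rw [herm_v0 N.hF]; simp)
  obtain ⟨β, e3⟩ := hp (Pi.single 3 1) (by rw [herm_v0 N.hF]; simp)
  rw [hM] at hv e0 e2 e3
  rcases iso_line N.hF M hv e0 e2 e3 with h | h
  exacts [Or.inl fun v => (hM v).trans (h v), Or.inr fun v => (hM v).trans (h v)]

variable [Finite G] {g : G} (ht : g * N.z * g⁻¹ ∈ N.J) (hne : g * N.z * g⁻¹ ≠ N.z)
include ht hne

theorem z_mem_meetJ : N.z ∈ N.meetJ g := N.mem_meetJ.2 ⟨N.z_mem, N.step ht hne⟩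

omit hne [Finite G] in
theorem t_mem_meetJ : g * N.z * g⁻¹ ∈ N.meetJ g :=
  N.mem_meetJ.2 ⟨ht, by rw [show g⁻¹ * (g * N.z * g⁻¹) * g = N.z by group]; exact N.z_mem⟩

omit ht [Finite G] in
theorem meetJ_sq {x : G} (hx : x ∈ N.meetJ g) : x * x = 1 := by
  obtain ⟨h1, h2⟩ := N.mem_meetJ.1 hx
  rcases N.sq_or x h1 with h | h
  · exact h
  rcases N.sq_conj h2 with h' | h'
  exacts [h', absurd (h'.symm.trans h) hne]

omit ht [Finite G] in
theorem meetJ_comm {x y : G} (hx : x ∈ N.meetJ g) (hy : y ∈ N.meetJ g) : x * y = y * x := by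
  have := N.meetJ_sq hne (mul_mem hx hy)
  rwa [mul_eq_one_iff_eq_inv, mul_inv_rev, inv_eq_of_mul_eq_one_right (N.meetJ_sq hne hy),
    inv_eq_of_mul_eq_one_right (N.meetJ_sq hne hx)] at this

omit [Finite G] in
theorem meetJ_card {k : G} (hk : k * N.z * k⁻¹ ∈ N.J) (hk' : k * N.z * k⁻¹ ≠ N.z) :
    Nat.card (N.meetJ k) = Nat.card (N.meetJ g) := by
  have h1 : ∀ g : G, g * N.z * g⁻¹ * (g * N.z * g⁻¹) = 1 := fun g => by
    rw [conj_mul, N.z_sq, mul_one, mul_inv_cancel]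
  have h2 : ∀ g : G, g * N.z * g⁻¹ ≠ 1 := fun g e => N.z_ne (conj_eq_one_iff.1 e)
  obtain ⟨r, hr, e⟩ := N.invol_orbit ht (h1 g) (N.vec_ne ht (h2 g) hne) hk (h1 k) (N.vec_ne hk (h2 k) hk')
  have hcj : N.cj k = N.cj (r * g) := N.cj_eq (by rw [← e]; group)
  have : N.meetJ k = (N.meetJ g).map (MulAut.conj r).toMonoidHom := by
    rw [← N.meetJ_mul hr]; simp only [meetJ, hcj]
  rw [this]
  exact Nat.card_congr ((N.meetJ g).equivMapOfInjective _ (MulAut.conj r).injective).toEquiv.symm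

omit [Finite G] in
theorem qsing (hv : N.vec (g * N.z * g⁻¹) = v0 N.hF) : QSing (N.mvec (N.meetJ g)) where
  q0_mem := ⟨_, N.t_mem_meetJ ht, hv⟩
  add := by
    rintro a ⟨x, hx, ex⟩ b ⟨y, hy, ey⟩
    refine ⟨x * y, mul_mem hx hy, ?_⟩
    rw [N.vec_mul x hx.1 y hy.1, ex, ey]
    funext j
    simp
  sing := by
    rintro a ⟨x, hx, ex⟩
    have := (N.sq_iff x hx.1).1 (N.meetJ_sq hne hx)
    rwa [ex, herm_map N.hF, map_eq_zero_iff _ (f4Equiv N.hF).injective] at this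
  sub := by
    rintro a ⟨x, hx, ex⟩ b ⟨y, hy, ey⟩
    have := (N.comm_iff x hx.1 y hy.1).1 (N.meetJ_comm hne hx hy)
    rwa [ex, ey, herm_map N.hF, ← map_pow, ← map_add, map_eq_zero_iff _ (f4Equiv N.hF).injective,
      pow_two] at this
  inv := by
    rintro i hi a ⟨x, hx, ex⟩
    obtain ⟨M, hM⟩ := exists_su_transvec N.hF (pv_iso N.hF i)
    obtain ⟨h, hh, he⟩ := N.act_surj M
    have hfix : N.act h (v0 N.hF) = v0 N.hF := by
      rw [he, hM, transvec, herm_orth_symm N.hF (u := pv N.hF i) (by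
        unfold pv v0; rw [herm_map N.hF, hi, map_zero]), zero_smul, add_zero]
    obtain ⟨u, hu, eu, hua⟩ := N.exists_fix (x := g * N.z * g⁻¹) (y := g * N.z * g⁻¹) ht ht
      (by rw [hv]; exact v0_ne N.hF) (N.H0_le hh) (by rw [hv, hfix])
    have hA : N.meetJ (u * g) = N.meetJ g := by
      have hcj : N.cj (u * g) = N.cj g := N.cj_eq (by
        rw [show u * g * N.z * (u * g)⁻¹ = u * (g * N.z * g⁻¹) * u⁻¹ by group, eu])
      simp only [meetJ, hcj]
    refine ⟨u * x * u⁻¹, hA ▸ (N.meetJ_mul hu).symm ▸ mem_map_of_mem _ hx, ?_⟩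
    rw [N.act_vec u hu x hx.1, hua, he, hM, ex]
    unfold pv transvec
    rw [herm_map N.hF]
    funext j
    simp only [Pi.add_apply, Pi.smul_apply, smul_eq_mul, qd, map_add, map_mul]

end NatData

end CfsgLib.Recog.U6Cent
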