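import Cfsg.Agent.Lib.Recog.U6Cent.NatJBase

/-!
If `t` in `J` is conjugate to `z` then `z` lies in the conjugate of `J` at `t`; the intersection of the two is
elementary abelian. Isometries which move three basis vectors along a line.
-/

set_option autoImplicit false
set_option linter.style.haveILetI false

namespace CfsgLib.Recog.U6Cent

open Subgroup Cfsg CfsgLib.InvChar
open scoped Matrix

variable {G : Type*} [Group G] {F : Type*} [Field F] [Fintype F]

theorem v0_coord (hF : Fintype.card F = 4) :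
    v0 hF 0 = 1 ∧ v0 hF 1 = 1 ∧ v0 hF 2 = 0 ∧ v0 hF 3 = 0 :=
  ⟨map_one _, map_one _, map_zero _, map_zero _⟩

theorem herm_v0 (hF : Fintype.card F = 4) (x : Fin 4 → F) : hermForm 4 F 2 x (v0 hF) = x 0 + x 1 := by
  obtain ⟨h0, h1, h2, h3⟩ := v0_coord hF
  simp [hermForm, Fin.sum_univ_four, h0, h1, h2, h3]

/-- A linear isometry fixing `v0` which moves `e₀, e₂, e₃` along the line of `v0`. -/
theorem iso_line (hF : Fintype.card F = 4) (M : SU 4 F 2)
    (h0 : slToMat 4 F M *ᵥ v0 hF = v0 hF) {γ α β : F}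
    (e0 : slToMat 4 F M *ᵥ Pi.single 0 1 = Pi.single 0 1 + γ • v0 hF)
    (e2 : slToMat 4 F M *ᵥ Pi.single 2 1 = Pi.single 2 1 + α • v0 hF)
    (e3 : slToMat 4 F M *ᵥ Pi.single 3 1 = Pi.single 3 1 + β • v0 hF) :
    (∀ x, slToMat 4 F M *ᵥ x = x) ∨ (∀ x, slToMat 4 F M *ᵥ x = transvec (v0 hF) x) := by
  obtain ⟨c0, c1, c2, c3⟩ := v0_coord hF
  have hM : ∀ x y, hermForm 4 F 2 (slToMat 4 F M *ᵥ x) (slToMat 4 F M *ᵥ y) = hermForm 4 F 2 x y := M.2
  have hα : α = 0 := by
    have h := hM (Pi.single 0 1) (Pi.single 2 1)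
    rw [e0, e2] at h
    simp [hermForm, Fin.sum_univ_four, c0, c1, c2, c3] at h
    refine pow_eq_zero_iff two_ne_zero |>.1 ?_
    linear_combination h - γ * α ^ 2 * f4_char hF
  have hβ : β = 0 := by
    have h := hM (Pi.single 0 1) (Pi.single 3 1)
    rw [e0, e3] at h
    simp [hermForm, Fin.sum_univ_four, c0, c1, c2, c3] at h
    refine pow_eq_zero_iff two_ne_zero |>.1 ?_
    linear_combination h - γ * β ^ 2 * f4_char hF
  have hγ : γ = 0 ∨ γ = 1 := by
    have h := hM (Pi.single 0 1) (Pi.single 0 1)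
    rw [e0] at h
    simp [hermForm, Fin.sum_univ_four, c0, c1, c2, c3] at h
    have h' : γ * (γ + 1) = 0 := by
      linear_combination h - (γ + γ ^ 2 + γ ^ 3) * f4_char hF
    rcases mul_eq_zero.1 h' with h' | h'
    · exact Or.inl h'
    · exact Or.inr (by linear_combination h' - f4_char hF)
  have key : ∀ x : Fin 4 → F, slToMat 4 F M *ᵥ x = x + (γ * (x 0 + x 1)) • v0 hF := by
    intro x
    have ex : x = (x 0 + x 1) • Pi.single 0 1 + x 1 • v0 hF + x 2 • Pi.single 2 1 + x 3 • Pi.single 3 1 := by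
      funext i
      fin_cases i <;>
        simp [c0, c1, c2, c3, add_assoc, f4_add_self hF]
    conv_lhs => rw [ex]
    simp only [Matrix.mulVec_add, Matrix.mulVec_smul, h0, e0, e2, e3, hα, hβ]
    funext i
    fin_cases i <;> simp [c0, c1, c2, c3]
    · linear_combination x 1 * f4_char hF
    · ring
  rcases hγ with rfl | rfl
  · exact Or.inl fun x => by rw [key, zero_mul, zero_smul, add_zero]
  · exact Or.inr fun x => by rw [key, one_mul, transvec, herm_v0 hF]

namespace NatData

variable [Finite G] (N : NatData G F)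

omit [Finite G] in
theorem fix_card {f : (Fin 4 → F) → Fin 4 → F}
    (hadd : ∀ v w, f (v + w) = f v + f w)
    (hk : (∀ (k : F) v, f (k • v) = k • f v) ∨ (∀ (k : F) v, f (k • v) = k ^ 2 • f v))
    (hne : ∃ v, f v ≠ v) (hF : Fintype.card F = 4) : Nat.card {v // f v = v} ≤ 64 := by
  have hV : Nat.card (Fin 4 → F) = 256 := by
    rw [Nat.card_fun, Nat.card_eq_fintype_card, hF]; simp
  rcases hk with hk | hk
  · obtain ⟨v, hv⟩ := hne
    let φ : {v // f v = v} × F → (Fin 4 → F) := fun p => p.1.1 + p.2 • v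
    have hφ : Function.Injective φ := by
      rintro ⟨⟨a, ha⟩, k⟩ ⟨⟨b, hb⟩, l⟩ (e : a + k • v = b + l • v)
      have hkl : k = l := by
        by_contra hne'
        refine hv (smul_right_injective (Fin 4 → F) (sub_ne_zero.2 hne') ?_)
        have h1 : (k - l) • v = b - a := by
          rw [sub_smul, sub_eq_sub_iff_add_eq_add, add_comm, e]
        have h2 : f (b - a) = b - a := by
          have h := hadd (b - a) a
          rw [sub_add_cancel, hb, ha] at h
          exact eq_sub_of_add_eq h.symm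
        show (k - l) • f v = (k - l) • v
        rw [← hk, h1, h2]
      subst hkl
      exact Prod.ext (Subtype.ext (add_right_cancel e)) rfl
    have h := Nat.card_le_card_of_injective φ hφ
    rw [Nat.card_prod, Nat.card_eq_fintype_card (α := F), hF, hV] at h
    omega
  · obtain ⟨w, hw0, hw1, hw2, hw3⟩ := exists_omega hF
    let φ : {v // f v = v} × {v // f v = v} → (Fin 4 → F) := fun p => p.1.1 + w • p.2.1
    have hφ : Function.Injective φ := by
      rintro ⟨⟨a, ha⟩, ⟨b, hb⟩⟩ ⟨⟨a', ha'⟩, ⟨b', hb'⟩⟩ (e : a + w • b = a' + w • b')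
      have e' := congrArg f e
      rw [hadd, hadd, hk, hk, ha, hb, ha', hb'] at e'
      have hbb : b = b' := by
        funext i
        have h1 := congrFun e i
        have h2 := congrFun e' i
        simp only [Pi.add_apply, Pi.smul_apply, smul_eq_mul, hw2] at h1 h2
        linear_combination h2 - h1
      subst hbb
      exact Prod.ext (Subtype.ext (add_right_cancel e)) rfl
    have h := Nat.card_le_card_of_injective φ hφ
    rw [Nat.card_prod, hV] at h
    by_contra hc
    have := Nat.mul_le_mul (not_le.1 hc).le (not_le.1 hc).le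
    omega

/-- If `t = g z g⁻¹` lies in `J` then so does `g⁻¹ z g`. -/
theorem step {g : G} (ht : g * N.z * g⁻¹ ∈ N.J) (hne : g * N.z * g⁻¹ ≠ N.z) : g⁻¹ * N.z * g ∈ N.J := by
  by_contra hsJ
  set t := g * N.z * g⁻¹ with ht'
  set s := g⁻¹ * N.z * g with hs'
  have ht2 : t * t = 1 := by rw [conj_mul, N.z_sq, mul_one, mul_inv_cancel]
  have ht0 : N.vec t ≠ 0 := N.vec_ne ht (fun e => N.z_ne (conj_eq_one_iff.1 e)) hne
  have htz := N.J_z ht
  have hsC : s ∈ centralizer ({N.z} : Set G) := mem_centralizer_singleton_iff.2 <| by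
    calc s * N.z = g⁻¹ * (N.z * t) * g := by rw [hs', ht']; group
      _ = g⁻¹ * (t * N.z) * g := by rw [htz]
      _ = _ := by rw [hs', ht']; group
  set C := centralizer ({N.z} : Set G) with hC
  have hCs : Nat.card (C ⊓ centralizer ({s} : Set G) : Subgroup G) =
      Nat.card (C ⊓ centralizer ({t} : Set G) : Subgroup G) := by
    rw [Nat.card_congr ((C ⊓ centralizer ({s} : Set G)).equivMapOfInjective
      (MulAut.conj g).toMonoidHom (MulAut.conj g).injective).toEquiv,
      map_inf _ _ _ (MulAut.conj g).injective, hC, map_conj_cent, map_conj_cent, ← ht',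
      show g * s * g⁻¹ = N.z by rw [hs']; group, inf_comm]
  set D := C ⊓ centralizer ({s} : Set G) with hD
  have h1 : N.J.relIndex D ∣ N.J.relIndex C := by
    haveI : (N.J.subgroupOf C).Normal := ⟨fun x hx c => N.J_normal c c.2 x hx⟩
    rw [← relIndex_subgroupOf (H := N.J) (K := D) (L := C) inf_le_left]
    exact relIndex_dvd_index_of_normal _ _
  have h2 : Nat.card (N.J ⊓ centralizer ({s} : Set G) : Subgroup G) * N.J.relIndex D = Nat.card D := by
    have e : N.J ⊓ centralizer ({s} : Set G) = N.J ⊓ D := by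
      rw [hD, ← inf_assoc, inf_eq_left.2 (show N.J ≤ C from fun x hx => N.J_cent hx)]
    rw [e, ← inf_relIndex_right N.J D, ← relIndex_bot_left, ← relIndex_bot_left D,
      relIndex_mul_relIndex _ _ _ bot_le inf_le_right]
  have h3 : N.J.relIndex C * 512 = Nat.card C := by
    rw [← N.card_J, ← relIndex_bot_left N.J, mul_comm, relIndex_mul_relIndex _ _ _ bot_le
      (fun x hx => N.J_cent hx : N.J ≤ C), relIndex_bot_left]
  have h4 : Nat.card (N.J ⊓ centralizer ({s} : Set G) : Subgroup G) ∣ 128 := by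
    have hfix : Nat.card {v // N.act s v = v} ≤ 64 := by
      refine fix_card (N.act_add hsC) ?_ ?_ N.hF
      · rcases N.act_cases hsC with ⟨M, hM⟩ | h
        · exact Or.inl fun k v => by rw [hM, hM, Matrix.mulVec_smul]
        · exact Or.inr h
      · by_contra hall
        push Not at hall
        exact hsJ ((N.act_one s hsC).1 hall)
    have hle : Nat.card (N.J ⊓ centralizer ({s} : Set G) : Subgroup G) ≤ 128 := by
      refine (N.card_le_vec _ inf_le_left {v | N.act s v = v} fun x hx => ?_).trans ?_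
      · show N.act s (N.vec x) = N.vec x
        have hc := mem_centralizer_singleton_iff.1 (mem_inf.1 hx).2
        rw [← N.act_vec s hsC x hx.1, ← hc, mul_inv_cancel_right]
      · exact (Nat.mul_le_mul_left 2 hfix).trans (by norm_num)
    have hdvd : Nat.card (N.J ⊓ centralizer ({s} : Set G) : Subgroup G) ∣ 2 ^ 9 := by
      have := card_dvd_of_le (inf_le_left (a := N.J) (b := centralizer ({s} : Set G)))
      rwa [N.card_J] at this
    obtain ⟨i, hi, e⟩ := (Nat.dvd_prime_pow Nat.prime_two).1 hdvd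
    rw [e] at hle ⊢
    have : i ≤ 7 := (Nat.pow_le_pow_iff_right (by norm_num : 1 < 2)).1 (hle.trans_eq (by norm_num))
    exact (pow_dvd_pow 2 this).trans (dvd_of_eq (by norm_num))
  have h5 := N.card_cent ht ht2 ht0
  rw [← hC, ← hCs, ← h2] at h5
  obtain ⟨a, ha⟩ := h4
  obtain ⟨b, hb⟩ := h1
  have hr : N.J.relIndex C = 25920 ∨ N.J.relIndex C = 51840 := by
    rcases N.card_H with h | h <;> rw [← hC] at h <;> omega
  generalize Nat.card (N.J ⊓ centralizer ({s} : Set G) : Subgroup G) = x at *
  generalize N.J.relIndex D = y at *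
  generalize Nat.card C = c at *
  generalize N.J.relIndex C = r at *
  have e : x * y * 270 * (a * b) = 128 * r * 270 := by rw [ha, hb]; ring
  rw [h5, ← h3] at e
  rcases hr with rfl | rfl <;> omega

end NatData

end CfsgLib.Recog.U6Cent
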