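import Cfsg.Agent.Lib.Recog.U6Cent.NatOutGeom

/-!
A conjugate `t` of `z` in `C(z)` outside `J`: the intersection `X = J ⊓ J_t`, its behaviour on the
image of `1 + t`, and the size of `C(z) ⊓ J_t`.
-/

set_option autoImplicit false
set_option linter.unusedSectionVars false

namespace CfsgLib.Recog.U6Cent

open Subgroup Cfsg

variable {G : Type*} [Group G] {F : Type*} [Field F] [Fintype F]

namespace NatData

variable (N : NatData G F)

/-- The intersection of `J` with its conjugate by `g`. -/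
def Xs (g : G) : Subgroup G := N.J ⊓ N.J.map (MulAut.conj g).toMonoidHom

theorem mem_Xs {g x : G} : x ∈ N.Xs g ↔ x ∈ N.J ∧ g⁻¹ * x * g ∈ N.J := by
  rw [Xs, mem_inf, mem_map]
  constructor
  · rintro ⟨h1, y, hy, rfl⟩
    refine ⟨h1, ?_⟩
    simpa [mul_assoc] using hy
  · rintro ⟨h1, h2⟩
    exact ⟨h1, _, h2, by simp [mul_assoc]⟩

/-- `1 + t` in coordinates. -/
def nv (t : G) (v : Fin 4 → F) : Fin 4 → F := v + N.act t v

/-- The vectors of the elements of `J` centralizing `t`. -/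
def kSet (t : G) : Set (Fin 4 → F) := {v | ∃ x ∈ N.J, x * t = t * x ∧ N.vec x = v}

/-- The difference of `t` and its conjugate by `y`. -/
def xv (_ : NatData G F) (t y : G) : G := t * (y * t * y⁻¹)

theorem act_t_t {t : G} (ht : t ∈ N.dset) (v : Fin 4 → F) : N.act t (N.act t v) = v := by
  rw [← N.act_mul (N.d_cent ht) (N.d_cent ht), N.d_sq ht, N.act_one_elt]

theorem nv_add {t : G} (ht : t ∈ N.dset) (v w : Fin 4 → F) : N.nv t (v + w) = N.nv t v + N.nv t w := by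
  unfold nv
  rw [N.act_add (N.d_cent ht)]
  abel

theorem nv_eq_zero {t : G} (v : Fin 4 → F) : N.nv t v = 0 ↔ N.act t v = v := by
  unfold nv
  constructor
  · exact fun h => (v_eq_of_add_zero N.hF h).symm
  · exact fun h => by rw [h, vadd_self N.hF]

theorem nv_nv {t : G} (ht : t ∈ N.dset) (v : Fin 4 → F) : N.act t (N.nv t v) = N.nv t v := by
  unfold nv
  rw [N.act_add (N.d_cent ht), N.act_t_t ht, add_comm]

theorem z_comm {x : G} (hx : x ∈ (centralizer ({N.z} : Set G))) : x * N.z = N.z * x := mem_centralizer_singleton_iff.1 hx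

theorem xv_mem {t y : G} (ht : t ∈ N.dset) (hy : y ∈ N.J) : N.xv t y ∈ N.J := by
  rw [xv, show t * (y * t * y⁻¹) = t * y * t⁻¹ * y⁻¹ by rw [N.d_inv ht]; group]
  exact mul_mem (N.J_normal t (N.d_cent ht) y hy) (inv_mem hy)

theorem xv_vec {t y : G} (ht : t ∈ N.dset) (hy : y ∈ N.J) : N.vec (N.xv t y) = N.nv t (N.vec y) := by
  rw [xv, show t * (y * t * y⁻¹) = t * y * t⁻¹ * y⁻¹ by rw [N.d_inv ht]; group,
    N.vec_mul _ (N.J_normal t (N.d_cent ht) y hy) _ (inv_mem hy), N.vec_inv hy,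
    N.act_vec t (N.d_cent ht) y hy, nv, add_comm]

theorem t_xv {t : G} (ht : t ∈ N.dset) (y : G) : t * N.xv t y = y * t * y⁻¹ := by
  rw [xv, ← mul_assoc, N.d_sq ht, one_mul]

/-- Two elements of `J` with the same vector differ by at most `z`. -/
theorem eq_or_mul_z {x y : G} (hx : x ∈ N.J) (hy : y ∈ N.J) (h : N.vec x = N.vec y) :
    x = y ∨ x = y * N.z := by
  have h0 : N.vec (y⁻¹ * x) = 0 := by
    rw [N.vec_mul _ (inv_mem hy) _ hx, N.vec_inv hy, h, vadd_self N.hF]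
  rcases (N.vec_zero _ (mul_mem (inv_mem hy) hx)).1 h0 with e | e
  · exact Or.inl (inv_mul_eq_one.1 e).symm
  · exact Or.inr (by rw [← e, mul_inv_cancel_left])

variable (hJ : ∀ x ∈ N.J, IsConj N.z x → x = N.z)
include hJ

theorem d_not_J {t : G} (ht : t ∈ N.dset) : t ∉ N.J := fun h => ht.2.2 (hJ t h ht.1)

variable {t g : G} (ht : t ∈ N.dset) (hg : g * N.z * g⁻¹ = t)
include ht hg

theorem z_notin_Xs : N.z ∉ N.Xs g := fun h => by
  have h1 := hJ _ (N.mem_Xs.1 h).2 (isConj_iff.2 ⟨g⁻¹, by rw [inv_inv]⟩)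
  refine ht.2.2 ?_
  rw [← hg]
  calc g * N.z * g⁻¹ = g * (g⁻¹ * N.z * g) * g⁻¹ := by rw [h1]
    _ = N.z := by group

theorem xs_comm_t {x : G} (hx : x ∈ N.Xs g) : x * t = t * x := by
  have h := N.J_z (N.mem_Xs.1 hx).2
  rw [← hg]
  calc x * (g * N.z * g⁻¹) = g * (g⁻¹ * x * g * N.z) * g⁻¹ := by group
    _ = g * N.z * g⁻¹ * x := by rw [h]; group

theorem xs_sq {x : G} (hx : x ∈ N.Xs g) : x * x = 1 := by
  rcases N.sq_or x (N.mem_Xs.1 hx).1 with h | h
  · exact h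
  · exact absurd (h ▸ mul_mem hx hx) (N.z_notin_Xs hJ ht hg)

theorem xs_comm {x y : G} (hx : x ∈ N.Xs g) (hy : y ∈ N.Xs g) : x * y = y * x := by
  rcases N.comm_or x (N.mem_Xs.1 hx).1 y (N.mem_Xs.1 hy).1 with h | h
  · exact h
  · refine absurd ?_ (N.z_notin_Xs hJ ht hg)
    rw [show N.z = (y * x)⁻¹ * (x * y) by rw [h]; group]
    exact mul_mem (inv_mem (mul_mem hy hx)) (mul_mem hx hy)

theorem xs_fixed {x : G} (hx : x ∈ N.Xs g) : N.act t (N.vec x) = N.vec x := by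
  rw [← N.act_vec t (N.d_cent ht) x (N.mem_Xs.1 hx).1, ← N.xs_comm_t hJ ht hg hx, mul_inv_cancel_right]

theorem xs_vec_ne {x : G} (hx : x ∈ N.Xs g) (h1 : x ≠ 1) : N.vec x ≠ 0 := fun h => by
  rcases (N.vec_zero x (N.mem_Xs.1 hx).1).1 h with e | e
  · exact h1 e
  · exact N.z_notin_Xs hJ ht hg (e ▸ hx)

theorem xs_vec_inj {x y : G} (hx : x ∈ N.Xs g) (hy : y ∈ N.Xs g) (h : N.vec x = N.vec y) : x = y := by
  rcases N.eq_or_mul_z (N.mem_Xs.1 hx).1 (N.mem_Xs.1 hy).1 h with e | e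
  · exact e
  · refine absurd ?_ (N.z_notin_Xs hJ ht hg)
    rw [show N.z = y⁻¹ * x by rw [e, inv_mul_cancel_left]]
    exact mul_mem (inv_mem hy) hx

/-- **Flip.** -/
theorem xs_flip {x : G} (hx : x ∈ N.Xs g) (h1 : x ≠ 1) : ¬ IsConj N.z (t * x) := fun h => by
  set x' := g⁻¹ * x * g with hx'
  have hm : x' ∈ N.J := (N.mem_Xs.1 hx).2
  have e := hJ _ (mul_mem N.z_mem hm) (h.trans (isConj_iff.2 ⟨g⁻¹, by
    rw [inv_inv, ← hg, hx']; group⟩))
  refine h1 ?_
  have e1 : x' = 1 := mul_eq_left.1 e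
  calc x = g * x' * g⁻¹ := by rw [hx']; group
    _ = 1 := by rw [e1]; group

theorem xv_eq {x y : G} (hx : x ∈ N.Xs g) (h1 : x ≠ 1) (hy : y ∈ N.J)
    (h : N.vec x = N.nv t (N.vec y)) : N.xv t y = x * N.z := by
  rcases N.eq_or_mul_z (N.xv_mem ht hy) (N.mem_Xs.1 hx).1 ((N.xv_vec ht hy).trans h.symm) with e | e
  · refine absurd ?_ (N.xs_flip hJ ht hg hx h1)
    rw [← e, N.t_xv ht]
    exact ht.1.trans (isConj_iff.2 ⟨y, rfl⟩)
  · exact e

/-- If `X` meets the image of `1 + t` then `t z` is no conjugate. -/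
theorem not_conj_tz {x : G} (hx : x ∈ N.Xs g) (h1 : x ≠ 1) {w : Fin 4 → F}
    (h : N.vec x = N.nv t w) : ¬ IsConj N.z (t * N.z) := fun hc => by
  obtain ⟨y, hy, rfl⟩ := N.vec_surj w
  refine N.xs_flip hJ ht hg hx h1 (hc.trans (isConj_iff.2 ⟨y, ?_⟩))
  have e : y * (t * N.z) * y⁻¹ = y * t * y⁻¹ * N.z := by
    rw [mul_assoc y t N.z |>.symm, mul_assoc (y * t), ← N.J_z (inv_mem hy)]
    group
  rw [e, ← N.t_xv ht, N.xv_eq hJ ht hg hx h1 hy h, mul_assoc, mul_assoc x, N.z_sq, mul_one]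

/-- **The sign function has no zero.** -/
theorem no_pair {x₁ x₂ : G} (h1 : x₁ ∈ N.Xs g) (h2 : x₂ ∈ N.Xs g) (n1 : x₁ ≠ 1) (n2 : x₂ ≠ 1)
    (hne : x₁ ≠ x₂) {w₁ w₂ : Fin 4 → F} (e1 : N.vec x₁ = N.nv t w₁) (e2 : N.vec x₂ = N.nv t w₂)
    (hB : hermForm 4 F 2 w₁ (N.vec x₂) + hermForm 4 F 2 w₁ (N.vec x₂) ^ 2 = 0) : False := by
  obtain ⟨y₁, hy₁, rfl⟩ := N.vec_surj w₁
  obtain ⟨y₂, hy₂, rfl⟩ := N.vec_surj w₂
  have hm1 := (N.mem_Xs.1 h1).1
  have hm2 := (N.mem_Xs.1 h2).1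
  have h3 : x₁ * x₂ ≠ 1 := fun e => hne (by
    calc x₁ = x₁ * x₂ * x₂⁻¹ := by group
      _ = x₂ := by rw [e, one_mul, inv_eq_of_mul_eq_one_right (N.xs_sq hJ ht hg h2)])
  have hv : N.vec (x₁ * x₂) = N.nv t (N.vec (y₁ * y₂)) := by
    rw [N.vec_mul _ hm1 _ hm2, N.vec_mul _ hy₁ _ hy₂, N.nv_add ht, e1, e2]
  have q := N.xv_eq hJ ht hg (mul_mem h1 h2) h3 (mul_mem hy₁ hy₂) hv
  have q1 := N.xv_eq hJ ht hg h1 n1 hy₁ e1
  have q2 := N.xv_eq hJ ht hg h2 n2 hy₂ e2
  have hc : y₁ * x₂ = x₂ * y₁ := (N.comm_iff _ hy₁ _ hm2).2 hB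
  have hcz : y₁ * (x₂ * N.z) = x₂ * N.z * y₁ := by
    rw [← mul_assoc, hc, mul_assoc, N.J_z hy₁, mul_assoc]
  have key : N.xv t (y₁ * y₂) = N.xv t y₁ * N.xv t y₂ := by
    calc N.xv t (y₁ * y₂) = N.xv t y₁ * y₁ * N.xv t y₂ * y₁⁻¹ := by
          simp only [xv, mul_inv_rev]
          calc t * (y₁ * y₂ * t * (y₂⁻¹ * y₁⁻¹))
              = t * (y₁ * t * y₁⁻¹) * y₁ * (t⁻¹ * (y₂ * t * y₂⁻¹)) * y₁⁻¹ := by group
            _ = _ := by rw [N.d_inv ht]
      _ = N.xv t y₁ * (y₁ * N.xv t y₂ * y₁⁻¹) := by group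
      _ = _ := by rw [q2, hcz, mul_inv_cancel_right]
  rw [q, q1, q2] at key
  have e : x₁ * N.z * (x₂ * N.z) = x₁ * x₂ := by
    calc x₁ * N.z * (x₂ * N.z) = x₁ * (N.z * x₂) * N.z := by group
      _ = x₁ * x₂ * (N.z * N.z) := by rw [← N.J_z hm2]; group
      _ = x₁ * x₂ := by rw [N.z_sq, mul_one]
  rw [e, mul_eq_left] at key
  exact N.z_ne key

/-- `C(z, t)` normalises `X`. -/
theorem xs_conj {c x : G} (hc : c ∈ (centralizer ({N.z} : Set G))) (hct : c * t = t * c) (hx : x ∈ N.Xs g) :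
    c * x * c⁻¹ ∈ N.Xs g := by
  obtain ⟨h1, h2⟩ := N.mem_Xs.1 hx
  refine N.mem_Xs.2 ⟨N.J_normal c hc x h1, ?_⟩
  have hc' : g⁻¹ * c * g ∈ (centralizer ({N.z} : Set G)) := by
    refine mem_centralizer_singleton_iff.2 ?_
    calc g⁻¹ * c * g * N.z = g⁻¹ * (c * (g * N.z * g⁻¹)) * g := by group
      _ = g⁻¹ * ((g * N.z * g⁻¹) * c) * g := by rw [hg, hct]
      _ = N.z * (g⁻¹ * c * g) := by group
  have := N.J_normal _ hc' _ h2
  rwa [show g⁻¹ * c * g * (g⁻¹ * x * g) * (g⁻¹ * c * g)⁻¹ = g⁻¹ * (c * x * c⁻¹) * g by group] at this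

/-- The vectors of `X` are invariant under what acts like an element of `C(z, t)`. -/
theorem xs_act {c x : G} (hc : c ∈ (centralizer ({N.z} : Set G))) (hct : c * t = t * c) (hx : x ∈ N.Xs g) :
    ∃ x' ∈ N.Xs g, N.vec x' = N.act c (N.vec x) :=
  ⟨_, N.xs_conj hJ ht hg hc hct hx, N.act_vec c hc x (N.mem_Xs.1 hx).1⟩

omit hJ hg in
/-- A lift of a map commuting with `t` can be chosen fixing `t` or sending it to `t z`. -/
theorem fix_or_swap {c : G} (hc : c ∈ (centralizer ({N.z} : Set G))) (hcomm : ∀ v, N.act c (N.act t v) = N.act t (N.act c v))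
    (hmod : ∀ j ∈ N.J, c * t * c⁻¹ = t * j → N.act t (N.vec j) = N.vec j →
      ∃ w, N.vec j = N.nv t w) :
    ∃ c' ∈ (centralizer ({N.z} : Set G)), (∀ v, N.act c' v = N.act c v) ∧ (c' * t * c'⁻¹ = t ∨ c' * t * c'⁻¹ = t * N.z) := by
  have htc := N.d_cent ht
  set j := t * (c * t * c⁻¹) with hj
  have hjc : j ∈ (centralizer ({N.z} : Set G)) := mul_mem htc (mul_mem (mul_mem hc htc) (inv_mem hc))
  have hjJ : j ∈ N.J := (N.act_one j hjc).1 fun v => by
    rw [hj, N.act_mul htc (mul_mem (mul_mem hc htc) (inv_mem hc)),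
      N.act_mul (mul_mem hc htc) (inv_mem hc), N.act_mul hc htc, hcomm, N.act_inv_act hc,
      N.act_t_t ht]
  have htj : c * t * c⁻¹ = t * j := by rw [hj, ← mul_assoc, N.d_sq ht, one_mul]
  have hfix : N.act t (N.vec j) = N.vec j := by
    rw [← N.act_vec t htc j hjJ, ← N.vec_inv hjJ]
    congr 1
    symm
    refine inv_eq_of_mul_eq_one_right ?_
    have hsq : t * j * (t * j) = 1 := by rw [← htj]; exact N.d_sq (N.d_conj hc ht)
    calc j * (t * j * t⁻¹) = t⁻¹ * (t * j * (t * j)) * t⁻¹ := by group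
      _ = (t * t)⁻¹ := by rw [hsq]; group
      _ = 1 := by rw [N.d_sq ht, inv_one]
  obtain ⟨w, hw⟩ := hmod j hjJ htj hfix
  obtain ⟨y, hy, rfl⟩ := N.vec_surj w
  have hyc := N.J_cent hy
  refine ⟨y⁻¹ * c, mul_mem (inv_mem hyc) hc, fun v => by
    rw [N.act_mul (inv_mem hyc) hc, N.act_J (inv_mem hy)], ?_⟩
  have e0 : y⁻¹ * c * t * (y⁻¹ * c)⁻¹ = y⁻¹ * (t * j) * y := by rw [← htj]; group
  rw [e0]
  rcases N.eq_or_mul_z hjJ (N.xv_mem ht hy) (hw.trans (N.xv_vec ht hy).symm) with e | e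
  · left
    rw [e, N.t_xv ht]; group
  · right
    rw [e]
    calc y⁻¹ * (t * (N.xv t y * N.z)) * y = y⁻¹ * (t * N.xv t y) * N.z * y := by group
      _ = y⁻¹ * (y * t * y⁻¹) * N.z * y := by rw [N.t_xv ht]
      _ = t * (y⁻¹ * (N.z * y)) := by group
      _ = t * N.z := by rw [← N.J_z hy, inv_mul_cancel_left]

omit hJ ht in
theorem card_CJt : Nat.card ↥((centralizer ({N.z} : Set G)) ⊓ N.J.map (MulAut.conj g).toMonoidHom) =
    Nat.card ↥(N.J ⊓ centralizer ({g⁻¹ * N.z * g} : Set G)) := by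
  have e : (centralizer ({N.z} : Set G)) ⊓ N.J.map (MulAut.conj g).toMonoidHom =
      (N.J ⊓ centralizer ({g⁻¹ * N.z * g} : Set G)).map (MulAut.conj g).toMonoidHom := by
    rw [Subgroup.map_inf _ _ _ (MulAut.conj g).injective, inf_comm]
    congr 1
    ext x
    rw [mem_map_equiv, mem_centralizer_singleton_iff, mem_centralizer_singleton_iff]
    simp only [MulAut.conj_symm_apply]
    constructor <;> intro h
    · calc g⁻¹ * x * g * (g⁻¹ * N.z * g) = g⁻¹ * (x * N.z) * g := by group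
        _ = g⁻¹ * N.z * g * (g⁻¹ * x * g) := by rw [h]; group
    · calc x * N.z = g * (g⁻¹ * x * g * (g⁻¹ * N.z * g)) * g⁻¹ := by group
        _ = N.z * x := by rw [h]; group
  rw [e, Subgroup.card_map_of_injective (MulAut.conj g).injective]

omit hJ in
theorem other_mem_dset : g⁻¹ * N.z * g ∈ N.dset := by
  refine ⟨isConj_iff.2 ⟨g⁻¹, by rw [inv_inv]⟩, ?_, fun e => ht.2.2 ?_⟩
  · have h := ht.2.1
    rw [← hg] at h
    calc g⁻¹ * N.z * g * N.z = g⁻¹ * (N.z * (g * N.z * g⁻¹)) * g := by group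
      _ = g⁻¹ * (g * N.z * g⁻¹ * N.z) * g := by rw [h]
      _ = N.z * (g⁻¹ * N.z * g) := by group
  · rw [← hg]
    calc g * N.z * g⁻¹ = g * (g⁻¹ * N.z * g) * g⁻¹ := by rw [e]
      _ = N.z := by group

/-- If `X` is trivial, `C(z) ⊓ J_t` acts faithfully fixing the vectors of `J ⊓ C(t)`. -/
theorem xs_bot_card [Finite G] (hX : ∀ x ∈ N.Xs g, x = 1) :
    Nat.card ↥((centralizer ({N.z} : Set G)) ⊓ N.J.map (MulAut.conj g).toMonoidHom) ≤
      {f | ∃ c ∈ (centralizer ({N.z} : Set G)), f = N.act c ∧ ∀ u ∈ N.kSet t, f u = u}.ncard := by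
  rw [show Nat.card ↥((centralizer ({N.z} : Set G)) ⊓ N.J.map (MulAut.conj g).toMonoidHom) =
    (((centralizer ({N.z} : Set G)) ⊓ N.J.map (MulAut.conj g).toMonoidHom : Subgroup G) : Set G).ncard
      from Nat.card_coe_set_eq _]
  refine Set.ncard_le_ncard_of_injOn N.act ?_ ?_ (Set.toFinite _)
  · intro c hc
    obtain ⟨hc1, hc2⟩ := mem_inf.1 hc
    refine ⟨c, hc1, rfl, ?_⟩
    rintro u ⟨x, hx, hxt, rfl⟩
    obtain ⟨y, hy, rfl⟩ := mem_map.1 hc2
    rw [← N.act_vec _ hc1 x hx]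
    congr 1
    set d := MulAut.conj g y * x * (MulAut.conj g y)⁻¹ * x⁻¹ with hd
    have hd1 : d ∈ N.J := mul_mem (N.J_normal _ hc1 x hx) (inv_mem hx)
    have hx' : g⁻¹ * x * g ∈ (centralizer ({N.z} : Set G)) := by
      refine mem_centralizer_singleton_iff.2 ?_
      calc g⁻¹ * x * g * N.z = g⁻¹ * (x * (g * N.z * g⁻¹)) * g := by group
        _ = g⁻¹ * (g * N.z * g⁻¹ * x) * g := by rw [hg, hxt]
        _ = N.z * (g⁻¹ * x * g) := by group
    have hd2 : g⁻¹ * d * g ∈ N.J := by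
      have h2 := mul_mem hy (N.J_normal _ hx' _ (inv_mem hy))
      have : g⁻¹ * d * g = y * (g⁻¹ * x * g * y⁻¹ * (g⁻¹ * x * g)⁻¹) := by
        rw [hd]; simp only [MulAut.conj_apply]; group
      rwa [this]
    have := hX d (N.mem_Xs.2 ⟨hd1, hd2⟩)
    rw [hd, mul_inv_eq_one] at this
    exact this
  · intro c hc c' hc' e
    obtain ⟨hc1, hc2⟩ := mem_inf.1 hc
    obtain ⟨hc1', hc2'⟩ := mem_inf.1 hc'
    have hJm : c⁻¹ * c' ∈ N.J := (N.act_one _ (mul_mem (inv_mem hc1) hc1')).1 fun v => by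
      rw [N.act_mul (inv_mem hc1) hc1', ← e, N.act_act_inv hc1]
    exact inv_mul_eq_one.1 (hX _ (mem_inf.2 ⟨hJm, mul_mem (inv_mem hc2) hc2'⟩))

omit hJ hg in
theorem kSet_fixed {v : Fin 4 → F} (hv : v ∈ N.kSet t) : N.act t v = v := by
  obtain ⟨x, hx, hxt, rfl⟩ := hv
  rw [← N.act_vec t (N.d_cent ht) x hx, ← hxt, mul_inv_cancel_right]

omit hJ hg in
/-- `J ⊓ C(t)` is twice its set of vectors. -/
theorem card_CJ [Finite G] : Nat.card ↥(N.J ⊓ centralizer ({t} : Set G)) = 2 * (N.kSet t).ncard := by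
  classical
  set S := N.J ⊓ centralizer ({t} : Set G) with hS
  let φ : S →* Multiplicative (Fin 4 → F) :=
    { toFun := fun x => Multiplicative.ofAdd (N.vec (x : G))
      map_one' := by simp [N.vec_one]
      map_mul' := fun x y => by
        rw [Subgroup.coe_mul, N.vec_mul _ (mem_inf.1 x.2).1 _ (mem_inf.1 y.2).1]
        rfl }
  have hrange : Nat.card φ.range = (N.kSet t).ncard := by
    rw [← Nat.card_coe_set_eq]
    refine Nat.card_congr (Equiv.subtypeEquiv Multiplicative.toAdd fun a => ?_)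
    constructor
    · rintro ⟨x, rfl⟩
      exact ⟨x, (mem_inf.1 x.2).1, mem_centralizer_singleton_iff.1 (mem_inf.1 x.2).2, rfl⟩
    · rintro ⟨x, hx, hxt, e⟩
      exact ⟨⟨x, mem_inf.2 ⟨hx, mem_centralizer_singleton_iff.2 hxt⟩⟩, by
        show Multiplicative.ofAdd (N.vec x) = a
        rw [e]; rfl⟩
  have hzS : N.z ∈ S := mem_inf.2 ⟨N.z_mem, mem_centralizer_singleton_iff.2 ht.2.1.symm⟩
  have hker : Nat.card φ.ker = 2 := by
    have e : φ.ker = Subgroup.zpowers (⟨N.z, hzS⟩ : S) := by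
      have hz2 : (⟨N.z, hzS⟩ : S) * ⟨N.z, hzS⟩ = 1 := Subtype.ext N.z_sq
      refine le_antisymm (fun x hx => ?_) (zpowers_le.2 ?_)
      · have h0 : N.vec (x : G) = 0 := hx
        rcases (N.vec_zero _ (mem_inf.1 x.2).1).1 h0 with e | e
        · rw [show x = 1 from Subtype.ext e]; exact one_mem _
        · rw [show x = ⟨N.z, hzS⟩ from Subtype.ext e]; exact mem_zpowers _
      · show Multiplicative.ofAdd (N.vec N.z) = 1
        rw [N.vec_z]; rfl
    rw [e, Nat.card_zpowers, Subgroup.orderOf_mk, orderOf_eq_prime_iff]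
    exact ⟨by rw [pow_two, N.z_sq], N.z_ne⟩
  have h := Subgroup.card_eq_card_quotient_mul_card_subgroup φ.ker
  rw [Nat.card_congr (QuotientGroup.quotientKerEquivRange φ).toEquiv, hker, hrange] at h
  rw [h, mul_comm]

omit hJ hg in
/-- The kernel and the image of `1 + t`. -/
theorem card_ker_range :
    {v | N.act t v = v}.ncard * (Set.range (N.nv t)).ncard = 256 := by
  classical
  let φ : (Fin 4 → F) →+ (Fin 4 → F) :=
    { toFun := N.nv t
      map_zero' := by rw [N.nv_eq_zero, N.act_zero (N.d_cent ht)]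
      map_add' := N.nv_add ht }
  have h := AddSubgroup.card_eq_card_quotient_mul_card_addSubgroup φ.ker
  rw [Nat.card_congr (QuotientAddGroup.quotientKerEquivRange φ).toEquiv,
    Nat.card_eq_fintype_card (α := Fin 4 → F), Fintype.card_fun, N.hF, Fintype.card_fin] at h
  have e1 : Nat.card φ.ker = {v | N.act t v = v}.ncard := by
    rw [← Nat.card_coe_set_eq]
    exact Nat.card_congr (Equiv.subtypeEquivRight fun v => N.nv_eq_zero v)
  have e2 : Nat.card φ.range = (Set.range (N.nv t)).ncard := by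
    rw [← Nat.card_coe_set_eq]
    rfl
  rw [e1, e2] at h
  rw [mul_comm, ← h]
  norm_num

omit hJ hg in
theorem sixteen_le_ker : 16 ≤ {v | N.act t v = v}.ncard := by
  have h := N.card_ker_range ht
  have hle : (Set.range (N.nv t)).ncard ≤ {v | N.act t v = v}.ncard := by
    refine Set.ncard_le_ncard ?_ (Set.toFinite _)
    rintro _ ⟨v, rfl⟩
    exact N.nv_nv ht v
  by_contra hlt
  push Not at hlt
  nlinarith

omit hJ hg in
/-- At least half of the fixed vectors come from `J ⊓ C(t)`. -/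
theorem ker_le_two_kSet : {v | N.act t v = v}.ncard ≤ 2 * (N.kSet t).ncard := by
  classical
  set K := N.kSet t with hK
  have htc := N.d_cent ht
  have key : ∀ v, N.act t v = v → v ∉ K → ∀ x ∈ N.J, N.vec x = v → t * x * t⁻¹ = x * N.z := by
    intro v hv hvK x hx e
    rcases N.eq_or_mul_z (N.J_normal t htc x hx) hx (by rw [N.act_vec t htc x hx, e, hv]) with h | h
    · exact absurd ⟨x, hx, (mul_inv_eq_iff_eq_mul.1 h).symm, e⟩ hvK
    · exact h
  by_cases hall : ∀ v, N.act t v = v → v ∈ K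
  · have := Set.ncard_le_ncard (s := {v | N.act t v = v}) hall (Set.toFinite _)
    omega
  push Not at hall
  obtain ⟨a, ha, haK⟩ := hall
  obtain ⟨x, hx, rfl⟩ := N.vec_surj a
  have hsub : {v | N.act t v = v} ⊆ K ∪ (fun v => N.vec x + v) '' K := by
    intro v hv
    by_cases hvK : v ∈ K
    · exact Or.inl hvK
    refine Or.inr ⟨N.vec x + v, ?_, vadd_cancel N.hF _ _⟩
    obtain ⟨y, hy, rfl⟩ := N.vec_surj v
    refine ⟨x * y, mul_mem hx hy, ?_, N.vec_mul x hx y hy⟩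
    have e1 := key _ ha haK x hx rfl
    have e2 := key _ hv hvK y hy rfl
    have e3 : t * (x * y) * t⁻¹ = x * y := by
      calc t * (x * y) * t⁻¹ = t * x * t⁻¹ * (t * y * t⁻¹) := by group
        _ = x * (N.z * y) * N.z := by rw [e1, e2]; group
        _ = x * y * (N.z * N.z) := by rw [← N.J_z hy]; group
        _ = x * y := by rw [N.z_sq, mul_one]
    exact (mul_inv_eq_iff_eq_mul.1 e3).symm
  calc {v | N.act t v = v}.ncard ≤ (K ∪ (fun v => N.vec x + v) '' K).ncard :=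
        Set.ncard_le_ncard hsub (Set.toFinite _)
    _ ≤ K.ncard + ((fun v => N.vec x + v) '' K).ncard := Set.ncard_union_le _ _
    _ ≤ 2 * K.ncard := by
        have := Set.ncard_image_le (f := fun v => N.vec x + v) (Set.toFinite K)
        omega

omit hJ in
/-- `C(z) ⊓ J_t` has order at least sixteen. -/
theorem sixteen_le_CJt [Finite G] :
    16 ≤ Nat.card ↥((centralizer ({N.z} : Set G)) ⊓ N.J.map (MulAut.conj g).toMonoidHom) := by
  rw [N.card_CJt hg, N.card_CJ (N.other_mem_dset ht hg)]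
  have := N.sixteen_le_ker (N.other_mem_dset ht hg)
  have := N.ker_le_two_kSet (N.other_mem_dset ht hg)
  omega

omit hJ ht hg in
/-- The maps of `C(z)` fixing a set, counted through the linear ones. -/
theorem fix_card_le (U : Set (Fin 4 → F)) :
    {f | ∃ c ∈ (centralizer ({N.z} : Set G)), f = N.act c ∧ ∀ u ∈ U, f u = u}.ncard ≤ 2 * (linFix U).ncard := by
  classical
  set S := {f | ∃ c ∈ (centralizer ({N.z} : Set G)), f = N.act c ∧ ∀ u ∈ U, f u = u} with hSdef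
  set A := {f | ∃ c ∈ (centralizer ({N.z} : Set G)), c ∉ N.H0 ∧ f = N.act c ∧ ∀ u ∈ U, f u = u} with hA
  have hsub : S ⊆ linFix U ∪ A := by
    rintro f ⟨c, hc, rfl, hU⟩
    by_cases h : c ∈ N.H0
    · exact Or.inl ⟨N.act_add hc, N.act_smul h, N.act_herm h, hU⟩
    · exact Or.inr ⟨c, hc, h, rfl, hU⟩
  have hAle : A.ncard ≤ (linFix U).ncard := by
    rcases A.eq_empty_or_nonempty with h | ⟨f₀, c₀, hc₀, hn₀, rfl, hU₀⟩
    · rw [h]; simp
    refine Set.ncard_le_ncard_of_injOn (fun f => N.act c₀ ∘ f) ?_ ?_ (Set.toFinite _)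
    · rintro f ⟨c, hc, hn, rfl, hU⟩
      refine ⟨fun a b => ?_, fun k a => ?_, fun a b => ?_, fun u hu => ?_⟩
      · simp only [Function.comp_apply]
        rw [N.act_add hc, N.act_add hc₀]
      · simp only [Function.comp_apply]
        rw [N.act_outer c hc hn, N.act_outer c₀ hc₀ hn₀, ← pow_mul, f4_pow N.hF]
      · simp only [Function.comp_apply]
        rw [N.act_form c₀ hc₀ hn₀, N.act_form c hc hn, ← pow_mul, f4_pow N.hF]
      · simp only [Function.comp_apply]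
        rw [hU u hu, hU₀ u hu]
    · intro f _ f' _ e
      exact funext fun v => N.act_inj hc₀ (congrFun e v)
  calc S.ncard ≤ (linFix U ∪ A).ncard := Set.ncard_le_ncard hsub (Set.toFinite _)
    _ ≤ (linFix U).ncard + A.ncard := Set.ncard_union_le _ _
    _ ≤ _ := by omega

end NatData

end CfsgLib.Recog.U6Cent
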