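import Cfsg.Agent.Lib.Recog.U6Cent.NatOutCore

/-!
No conjugate of `z` other than itself lies in `C(z) \ H0`.
-/

set_option autoImplicit false
set_option linter.unusedSectionVars false

namespace CfsgLib.Recog.U6Cent

open Subgroup Cfsg

variable {G : Type*} [Group G] {F : Type*} [Field F] [Fintype F]

namespace NatData

variable (N : NatData G F) {t g : G} (ht : t ∈ N.dset)
include ht

/-- A fixed vector comes from elements which `t` fixes or multiplies by `z`. -/
theorem fixed_cases {x : G} (hx : x ∈ N.J) (h : N.act t (N.vec x) = N.vec x) :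
    t * x * t⁻¹ = x ∨ t * x * t⁻¹ = x * N.z :=
  N.eq_or_mul_z (N.J_normal t (N.d_cent ht) x hx) hx (by rw [N.act_vec t (N.d_cent ht) x hx, h])

/-- If `t` multiplies an element of `J` by `z` then `t z` is a conjugate. -/
theorem swap_conj {x : G} (h : t * x * t⁻¹ = x * N.z) : IsConj N.z (t * N.z) := by
  refine ht.1.trans (isConj_iff.2 ⟨x⁻¹, ?_⟩)
  calc x⁻¹ * t * x⁻¹⁻¹ = x⁻¹ * (t * x * t⁻¹) * t := by group
    _ = N.z * t := by rw [h, inv_mul_cancel_left]
    _ = t * N.z := ht.2.1.symm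

theorem comm_of_vec {x : G} (hnc : ¬ IsConj N.z (t * N.z)) (hx : x ∈ N.J)
    (h : N.act t (N.vec x) = N.vec x) : x * t = t * x := by
  rcases N.fixed_cases ht hx h with e | e
  · exact (mul_inv_eq_iff_eq_mul.1 e).symm
  · exact absurd (N.swap_conj ht e) hnc

/-- The element `t (y t y⁻¹)` commutes with `t` exactly when it is an involution. -/
theorem xv_sq_iff {y : G} : N.xv t y * t = t * N.xv t y ↔ N.xv t y * N.xv t y = 1 := by
  have h2 : y * t * y⁻¹ * (y * t * y⁻¹) = 1 := by
    calc y * t * y⁻¹ * (y * t * y⁻¹) = y * (t * t) * y⁻¹ := by group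
      _ = 1 := by rw [N.d_sq ht, mul_one, mul_inv_cancel]
  have e1 : N.xv t y * N.xv t y = N.xv t y * t * (y * t * y⁻¹) := by rw [xv]; group
  rw [e1, N.t_xv ht]
  constructor
  · intro h; rw [h, h2]
  · intro h
    calc N.xv t y * t = N.xv t y * t * (y * t * y⁻¹ * (y * t * y⁻¹)) := by rw [h2, mul_one]
      _ = y * t * y⁻¹ := by rw [← mul_assoc (N.xv t y * t), h, one_mul]

/-- Isotropic differences come from `J ⊓ C(t)`. -/
theorem range_mem_kSet {w : Fin 4 → F} (h : hermForm 4 F 2 (N.nv t w) (N.nv t w) = 0) :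
    N.nv t w ∈ N.kSet t := by
  obtain ⟨y, hy, rfl⟩ := N.vec_surj w
  refine ⟨N.xv t y, N.xv_mem ht hy, (N.xv_sq_iff ht).2 ?_, N.xv_vec ht hy⟩
  exact (N.sq_iff _ (N.xv_mem ht hy)).2 (by rwa [N.xv_vec ht hy])

omit ht in
/-- A lift of a transvection. -/
theorem exists_lift {p : Fin 4 → F} (hp : hermForm 4 F 2 p p = 0) :
    ∃ c ∈ N.H0, ∀ x, N.act c x = transvec p x := by
  obtain ⟨M, hM⟩ := exists_transvec_su N.hF hp
  obtain ⟨c, hc, h⟩ := N.act_surj M
  exact ⟨c, hc, fun x => (h x).trans (hM x)⟩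

variable (hJ : ∀ x ∈ N.J, IsConj N.z x → x = N.z) (hg : g * N.z * g⁻¹ = t)
include hJ hg

/-- **No member is outer.** -/
theorem outer_false [Finite G] (hn : t ∉ N.H0) : False := by
  classical
  have htc := N.d_cent ht
  have hsm : ∀ (k : F) v, N.act t (k • v) = k ^ 2 • N.act t v := N.act_outer t htc hn
  obtain ⟨ω, hω⟩ := exists_trace_one N.hF
  have hsplit : ∀ {b : Fin 4 → F}, ω • b + ω ^ 2 • b = b := by
    intro b; rw [← add_smul, hω, one_smul]
  have hrange : ∀ v, N.act t v = v → N.nv t (ω • v) = v := fun v hv => by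
    rw [nv, hsm, hv, hsplit]
  -- `K` spans a space of order at least `64`
  obtain ⟨x₁, hx₁, hne₁⟩ : ∃ x ∈ N.Xs g, x ≠ 1 := by
    by_contra hX
    push Not at hX
    have h1 := N.sixteen_le_CJt ht hg
    have h2 := N.xs_bot_card hJ ht hg hX
    have h3 := N.fix_card_le (N.kSet t)
    have hK : 8 ≤ (N.kSet t).ncard := by
      have := N.sixteen_le_ker ht
      have := N.ker_le_two_kSet ht
      omega
    have hspan : 32 ≤ Nat.card (Submodule.span F (N.kSet t)) := by
      have hle : ((N.kSet t) ×ˢ (N.kSet t)).ncard ≤ (Submodule.span F (N.kSet t) : Set (Fin 4 → F)).ncard := by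
        refine Set.ncard_le_ncard_of_injOn (fun p => p.1 + ω • p.2) ?_ ?_ (Set.toFinite _)
        · rintro ⟨p, q⟩ ⟨hp, hq⟩
          exact Submodule.add_mem _ (Submodule.subset_span hp)
            (Submodule.smul_mem _ _ (Submodule.subset_span hq))
        · rintro ⟨p, q⟩ ⟨hp, hq⟩ ⟨p', q'⟩ ⟨hp', hq'⟩ e
          simp only at e
          have e2 := congrArg (N.act t) e
          rw [N.act_add htc, N.act_add htc, hsm, hsm, N.kSet_fixed ht hp, N.kSet_fixed ht hq,
            N.kSet_fixed ht hp', N.kSet_fixed ht hq'] at e2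
          have e3 : q = q' := by
            calc q = (p + ω • q) + (p + ω ^ 2 • q) := by
                  rw [add_add_add_comm, vadd_self N.hF, zero_add, hsplit]
              _ = (p' + ω • q') + (p' + ω ^ 2 • q') := by rw [e, e2]
              _ = q' := by rw [add_add_add_comm, vadd_self N.hF, zero_add, hsplit]
          subst e3
          rw [add_right_cancel e]
      rw [Set.ncard_prod] at hle
      have e : Nat.card (Submodule.span F (N.kSet t)) =
          (Submodule.span F (N.kSet t) : Set (Fin 4 → F)).ncard := Nat.card_coe_set_eq _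
      have : 8 * 8 ≤ (N.kSet t).ncard * (N.kSet t).ncard := Nat.mul_le_mul hK hK
      omega
    have := card_linFix_le N.hF hspan
    omega
  set a := N.vec x₁ with ha
  have haf : N.act t a = a := N.xs_fixed hJ ht hg hx₁
  have ha0 : a ≠ 0 := N.xs_vec_ne hJ ht hg hx₁ hne₁
  have hnc : ¬ IsConj N.z (t * N.z) :=
    N.not_conj_tz hJ ht hg hx₁ hne₁ (w := ω • a) (hrange a haf).symm
  have hiso : ∀ w, N.act t w = w → hermForm 4 F 2 w w = 0 := by
    intro w hw
    obtain ⟨y, hy, e⟩ := N.vec_surj (ω • w)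
    have hv : N.vec (N.xv t y) = w := by rw [N.xv_vec ht hy, e, hrange w hw]
    have hc : N.xv t y * t = t * N.xv t y :=
      N.comm_of_vec ht hnc (N.xv_mem ht hy) (by rw [hv, hw])
    have := (N.sq_iff _ (N.xv_mem ht hy)).1 ((N.xv_sq_iff ht).1 hc)
    rwa [hv] at this
  have hreal : ∀ w, N.act t w = w → hermForm 4 F 2 a w = 0 ∨ hermForm 4 F 2 a w = 1 := by
    intro w hw
    refine f4_bool ?_
    have := N.act_form t htc hn a w
    rw [haf, hw] at this
    exact this.symm
  have hflip : ∀ w, N.act t w = w → hermForm 4 F 2 a w = 1 → ∃ x ∈ N.Xs g, N.vec x = a + w := by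
    intro w hw haw
    obtain ⟨c, hc, hcT⟩ := N.exists_lift (hiso w hw)
    have hcc := N.H0_le hc
    obtain ⟨c', hc', hact, hcase⟩ := N.fix_or_swap ht hcc (fun v => by
        rw [hcT, hcT, N.act_transvec htc, hw])
      (fun j hj _ hf => ⟨_, (hrange _ hf).symm⟩)
    rcases hcase with e | e
    · obtain ⟨x, hx, hxv⟩ := N.xs_act hJ ht hg hc' (mul_inv_eq_iff_eq_mul.1 e) hx₁
      refine ⟨x, hx, ?_⟩
      rw [hxv, hact, hcT, transvec, haw, one_smul]
    · exact absurd (e ▸ (N.d_conj hc' ht).1) hnc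
  obtain ⟨w₀, hw₀, haw₀⟩ : ∃ w, N.act t w = w ∧ hermForm 4 F 2 a w = 1 := by
    by_contra hne
    push Not at hne
    refine ha0 (eq_zero_of_herm N.hF fun x => herm_orth_symm N.hF ?_)
    have h1 : N.act t (x + ω • N.nv t x) = x + ω • N.nv t x := by
      rw [N.act_add htc, hsm, N.nv_nv ht]
      refine v_eq_of_add_zero N.hF ?_
      rw [add_add_add_comm, add_comm (N.act t x), ← nv, add_comm (ω ^ 2 • N.nv t x), hsplit,
        vadd_self N.hF]
    have h2 : N.act t (N.nv t x) = N.nv t x := N.nv_nv ht x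
    have q : ∀ w, N.act t w = w → hermForm 4 F 2 a w = 0 := fun w hw =>
      (hreal w hw).resolve_right (hne w hw)
    have h3 := q _ h1
    rw [herm_add_right N.hF, herm_smul_right N.hF, q _ h2, mul_zero, add_zero] at h3
    exact h3
  obtain ⟨b, hb, hab, hb0, hba⟩ :
      ∃ b, N.act t b = b ∧ hermForm 4 F 2 a b = 0 ∧ b ≠ 0 ∧ b ≠ a := by
    by_contra hne
    push Not at hne
    have hsub : {v | N.act t v = v} ⊆ ({0, a, w₀, w₀ + a} : Set (Fin 4 → F)) := by
      intro v hv
      simp only [Set.mem_ofPred_eq] at hv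
      simp only [Set.mem_insert_iff, Set.mem_singleton_iff]
      rcases hreal v hv with h | h
      · by_cases h0 : v = 0
        · exact Or.inl h0
        · exact Or.inr (Or.inl (hne v hv h h0))
      · have h' : hermForm 4 F 2 a (w₀ + v) = 0 := by
          rw [herm_add_right N.hF, haw₀, h, f4_add_self N.hF]
        by_cases h0 : w₀ + v = 0
        · exact Or.inr (Or.inr (Or.inl (v_eq_of_add_zero N.hF h0).symm))
        · have := hne _ (by rw [N.act_add htc, hw₀, hv]) h' h0
          exact Or.inr (Or.inr (Or.inr (by rw [← this, vadd_cancel N.hF])))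
    have h := Set.ncard_le_ncard hsub (Set.toFinite _)
    have h16 := N.sixteen_le_ker ht
    have h4 : ({0, a, w₀, w₀ + a} : Set (Fin 4 → F)).ncard ≤ 4 := by
      refine (Set.ncard_insert_le _ _).trans (Nat.succ_le_succ ?_)
      refine (Set.ncard_insert_le _ _).trans (Nat.succ_le_succ ?_)
      refine (Set.ncard_insert_le _ _).trans (Nat.succ_le_succ ?_)
      rw [Set.ncard_singleton]
    omega
  obtain ⟨y₁, hy₁, e₁⟩ := hflip w₀ hw₀ haw₀
  obtain ⟨y₂, hy₂, e₂⟩ := hflip (b + w₀) (by rw [N.act_add htc, hb, hw₀])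
    (by rw [herm_add_right N.hF, hab, haw₀, zero_add])
  have hv : N.vec (y₂ * y₁) = b := by
    rw [N.vec_mul _ (N.mem_Xs.1 hy₂).1 _ (N.mem_Xs.1 hy₁).1, e₁, e₂, add_add_add_comm,
      vadd_self N.hF, zero_add, add_assoc, vadd_self N.hF, add_zero]
  have hX2 : y₂ * y₁ ∈ N.Xs g := mul_mem hy₂ hy₁
  refine N.no_pair hJ ht hg hx₁ hX2 hne₁ (fun e => hb0 ?_) (fun e => hba ?_)
    (w₁ := ω • a) (w₂ := ω • b) (hrange a haf).symm (hv.trans (hrange b hb).symm) ?_
  · rw [← hv, e, N.vec_one]
  · rw [← hv, ← e, ha]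
  · rw [hv, herm_smul_left N.hF, hab, mul_zero, zero_pow two_ne_zero, add_zero]

end NatData

end CfsgLib.Recog.U6Cent
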