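import Cfsg.Agent.Lib.Recog.U6Cent.NatOutTrans

/-!
Every conjugate of `z` in `C(z)` outside `⟨z⟩` lies in `H0` and acts as a transvection.
-/

set_option autoImplicit false
set_option linter.unusedSectionVars false

namespace CfsgLib.Recog.U6Cent

open Subgroup Cfsg

variable {G : Type*} [Group G] {F : Type*} [Field F] [Fintype F]

namespace NatData

variable (N : NatData G F) {t : G} (ht : t ∈ N.dset) (hH : t ∈ N.H0)
include ht hH

theorem nv_smul (k : F) (x : Fin 4 → F) : N.nv t (k • x) = k • N.nv t x := by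
  rw [nv, nv, N.act_smul hH, smul_add]

theorem nv_adj (x y : Fin 4 → F) : hermForm 4 F 2 (N.nv t x) y = hermForm 4 F 2 x (N.nv t y) := by
  have h := N.act_herm hH (N.act t x) y
  rw [N.act_t_t ht] at h
  rw [nv, nv, herm_add_left N.hF, herm_add_right N.hF, h]

theorem nv_twice (x : Fin 4 → F) : N.nv t (N.nv t x) = 0 :=
  (N.nv_eq_zero _).2 (N.nv_nv ht x)

theorem nv_orth (x y : Fin 4 → F) : hermForm 4 F 2 (N.nv t x) (N.nv t y) = 0 := by
  rw [N.nv_adj ht hH, N.nv_twice ht hH, herm_zero_right]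

theorem rank_one {v : Fin 4 → F} (hv : v ≠ 0) (hne : ∃ x, N.nv t x ≠ 0)
    (h : ∀ x, ∃ k : F, N.nv t x = k • v) : hermForm 4 F 2 v v = 0 ∧ N.TV t v := by
  choose c hc using h
  obtain ⟨x₁, hx₁⟩ := hne
  have hc₁ : c x₁ ≠ 0 := fun e => hx₁ (by rw [hc, e, zero_smul])
  have hvv : hermForm 4 F 2 v v = 0 := by
    have := N.nv_orth ht hH x₁ x₁
    rw [hc, herm_smul_left N.hF, herm_smul_right N.hF] at this
    exact (mul_eq_zero.1 ((mul_eq_zero.1 this).resolve_left hc₁)).resolve_left (pow_ne_zero 2 hc₁)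
  obtain ⟨p, hp⟩ := exists_pairing hv (1 : F)
  have hvp : hermForm 4 F 2 v p = 1 := by rw [herm_swap N.hF p v, hp, one_pow]
  have key : ∀ x, c x = c p ^ 2 * hermForm 4 F 2 x v := fun x => by
    have := N.nv_adj ht hH x p
    rw [hc, hc, herm_smul_left N.hF, herm_smul_right N.hF, hvp, mul_one] at this
    exact this
  have hp1 : c p = 1 := by
    have := key p
    rw [hp, mul_one] at this
    rcases f4_bool this.symm with e | e
    · exact absurd (by rw [key, e, zero_pow two_ne_zero, zero_mul]) hc₁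
    · exact e
  refine ⟨hvv, fun x => ?_⟩
  have h1 := hc x
  rw [key, hp1, one_pow, one_mul] at h1
  rw [transvec, ← h1, nv, vadd_cancel N.hF]

/-- The two types of inner members. -/
theorem inner_cases :
    (∃ v : Fin 4 → F, v ≠ 0 ∧ hermForm 4 F 2 v v = 0 ∧ N.TV t v) ∨ (∀ x, N.nv t x = 0) ∨
      ((Set.range (N.nv t)).ncard = 16 ∧ ∀ x, N.act t x = x → x ∈ Set.range (N.nv t)) := by
  classical
  by_cases h0 : ∀ x, N.nv t x = 0
  · exact Or.inr (Or.inl h0)
  push Not at h0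
  obtain ⟨x₁, hx₁⟩ := h0
  by_cases h1 : ∀ x, ∃ k : F, N.nv t x = k • N.nv t x₁
  · exact Or.inl ⟨_, hx₁, N.rank_one ht hH hx₁ ⟨x₁, hx₁⟩ h1⟩
  push Not at h1
  obtain ⟨x₂, hx₂⟩ := h1
  refine Or.inr (Or.inr ?_)
  have hsub : Set.range (N.nv t) ⊆ {v | N.act t v = v} := by
    rintro _ ⟨v, rfl⟩
    exact N.nv_nv ht v
  have h16 : 16 ≤ (Set.range (N.nv t)).ncard := by
    have hinj : Set.InjOn (fun q : F × F => q.1 • N.nv t x₁ + q.2 • N.nv t x₂) Set.univ := by
      rintro ⟨a, b⟩ - ⟨a', b'⟩ - e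
      simp only at e
      have e' : (a + a') • N.nv t x₁ = (b + b') • N.nv t x₂ := by
        refine v_eq_of_add_zero N.hF ?_
        rw [add_smul, add_smul, add_add_add_comm, e, vadd_self N.hF]
      by_cases hb : b + b' = 0
      · rw [hb, zero_smul, smul_eq_zero] at e'
        have ha := e'.resolve_right hx₁
        rw [f4_eq_of_add_zero N.hF ha, f4_eq_of_add_zero N.hF hb]
      · refine absurd ?_ (hx₂ ((b + b')⁻¹ * (a + a')))
        rw [← smul_smul, e', inv_smul_smul₀ hb]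
    have h := Set.ncard_le_ncard_of_injOn (t := Set.range (N.nv t))
      (fun q : F × F => q.1 • N.nv t x₁ + q.2 • N.nv t x₂) (fun q (_ : q ∈ (Set.univ : Set (F × F))) =>
      (⟨q.1 • x₁ + q.2 • x₂, by rw [N.nv_add ht, N.nv_smul ht hH, N.nv_smul ht hH]⟩ :
        q.1 • N.nv t x₁ + q.2 • N.nv t x₂ ∈ Set.range (N.nv t))) hinj (Set.toFinite _)
    rwa [Set.ncard_univ, Nat.card_prod, Nat.card_eq_fintype_card, N.hF] at h
  have hmul := N.card_ker_range ht
  have hle := Set.ncard_le_ncard hsub (Set.toFinite _)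
  have he : (Set.range (N.nv t)).ncard = 16 := by nlinarith
  have hk : {v | N.act t v = v}.ncard = 16 := by
    rw [he] at hmul
    omega
  refine ⟨he, fun x hx => ?_⟩
  rw [Set.eq_of_subset_of_ncard_le hsub (by omega) (Set.toFinite _)]
  exact hx

/-- The fixed vectors of an inner member coming from `J ⊓ C(t)` are at least sixteen. -/
theorem sixteen_le_kSet (hJ : ∀ x ∈ N.J, IsConj N.z x → x = N.z) : 16 ≤ (N.kSet t).ncard := by
  classical
  rcases N.inner_cases ht hH with ⟨v, -, -, hT⟩ | h0 | ⟨h16, -⟩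
  · have := N.tv_ker ht hT
    have := N.ker_le_two_kSet ht
    omega
  · exact absurd ((N.act_one t (N.d_cent ht)).1 fun x => (N.nv_eq_zero x).1 (h0 x))
      (N.d_not_J hJ ht)
  · rw [← h16]
    refine Set.ncard_le_ncard ?_ (Set.toFinite _)
    rintro _ ⟨x, rfl⟩
    exact N.range_mem_kSet ht (N.nv_orth ht hH x x)

variable {g : G} (hJ : ∀ x ∈ N.J, IsConj N.z x → x = N.z) (hg : g * N.z * g⁻¹ = t)
include hJ hg

/-- **No member has a plane of differences.** -/
theorem plane_false [Finite G] (h16 : (Set.range (N.nv t)).ncard = 16)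
    (hker : ∀ x, N.act t x = x → x ∈ Set.range (N.nv t)) : False := by
  classical
  have htc := N.d_cent ht
  let φ : (Fin 4 → F) →ₗ[F] (Fin 4 → F) :=
    { toFun := N.nv t
      map_add' := N.nv_add ht
      map_smul' := N.nv_smul ht hH }
  set R := LinearMap.range φ with hRdef
  have hmem : ∀ x, x ∈ R ↔ x ∈ Set.range (N.nv t) := fun x => Iff.rfl
  have hRcard : Nat.card R = 16 := by
    rw [← h16, ← Nat.card_coe_set_eq]
    exact Nat.card_congr (Equiv.subtypeEquivRight hmem)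
  have hRd : Module.finrank F R = 2 := by
    have h := Module.natCard_eq_pow_finrank (K := F) (V := R)
    rw [hRcard, Nat.card_eq_fintype_card, N.hF] at h
    exact (Nat.pow_right_injective (le_refl 2 |>.trans (by norm_num : 2 ≤ 4)) (h.symm.trans (by norm_num : (16:ℕ) = 4 ^ 2)))
  have hperp : ∀ d, (∀ r ∈ R, hermForm 4 F 2 d r = 0) → d ∈ R := fun d hd =>
    (hmem d).2 (hker d ((N.nv_eq_zero d).1 (eq_zero_of_herm N.hF fun x => by
      refine herm_orth_symm N.hF ?_
      rw [N.nv_adj ht hH]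
      exact hd _ ((hmem _).2 ⟨x, rfl⟩))))
  have hiso : ∀ u ∈ R, ∀ w ∈ R, hermForm 4 F 2 u w = 0 := by
    rintro _ ⟨x, rfl⟩ _ ⟨y, rfl⟩
    exact N.nv_orth ht hH x y
  have hRK : (R : Set (Fin 4 → F)) ⊆ N.kSet t := by
    rintro _ ⟨x, rfl⟩
    exact N.range_mem_kSet ht (N.nv_orth ht hH x x)
  obtain ⟨ω, hω⟩ := exists_trace_one N.hF
  obtain ⟨x₁, hx₁, hne₁⟩ : ∃ x ∈ N.Xs g, x ≠ 1 := by
    by_contra hX
    push Not at hX
    have h2 := N.xs_bot_card hJ ht hg hX
    rw [N.card_CJt hg, N.card_CJ (N.other_mem_dset ht hg)] at h2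
    have ht' := N.other_mem_dset ht hg
    have hH' : g⁻¹ * N.z * g ∈ N.H0 := by
      by_contra hn
      obtain ⟨g', hg'⟩ := isConj_iff.1 ht'.1
      exact N.outer_false ht' hJ hg' hn
    have h1 := N.sixteen_le_kSet ht' hH' hJ
    have hsub : {f | ∃ c ∈ (centralizer ({N.z} : Set G)), f = N.act c ∧ ∀ u ∈ N.kSet t, f u = u} ⊆
        linFix (R : Set (Fin 4 → F)) := by
      rintro f ⟨c, hc, rfl, hU⟩
      by_cases hc0 : c ∈ N.H0
      · exact ⟨N.act_add hc, N.act_smul hc0, N.act_herm hc0, fun u hu => hU u (hRK hu)⟩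
      · obtain ⟨r, hr, hr0⟩ := R.ne_bot_iff.1 (fun e => by rw [e] at hRd; simp at hRd)
        have := N.act_outer c hc hc0 ω r
        rw [hU r (hRK hr), hU _ (hRK (R.smul_mem ω hr))] at this
        have hωω : ω = ω ^ 2 := smul_left_injective F hr0 this
        rw [← hωω, f4_add_self N.hF] at hω
        exact absurd hω zero_ne_one
    have h3 := (Set.ncard_le_ncard hsub (Set.toFinite _)).trans
      (card_linFix_plane N.hF R hRd hiso hperp)
    omega
  set a := N.vec x₁ with ha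
  have ha0 : a ≠ 0 := N.xs_vec_ne hJ ht hg hx₁ hne₁
  have haf : N.act t a = a := N.xs_fixed hJ ht hg hx₁
  obtain ⟨w₁, hw₁⟩ := hker a haf
  have hnc : ¬ IsConj N.z (t * N.z) := N.not_conj_tz hJ ht hg hx₁ hne₁ hw₁.symm
  -- a vector of `R` off the line of `a`
  obtain ⟨r, hr, hra⟩ : ∃ r ∈ R, ∀ k : F, r ≠ k • a := by
    by_contra hne
    push Not at hne
    have hle : R ≤ Submodule.span F {a} := fun r hr => by
      obtain ⟨k, rfl⟩ := hne r hr
      exact Submodule.smul_mem _ _ (Submodule.mem_span_singleton_self a)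
    have := Submodule.finrank_mono hle
    rw [hRd, finrank_span_singleton ha0] at this
    omega
  obtain ⟨z', hz1, hz2⟩ := exists_orth_pairing N.hF ha0 hra 1
  have hz3 : N.nv t z' ≠ 0 := fun e => by
    rw [hiso z' ((hmem _).2 (hker _ ((N.nv_eq_zero _).1 e))) r hr] at hz2
    exact zero_ne_one hz2
  obtain ⟨s', hs'⟩ : ∃ s', hermForm 4 F 2 z' (N.nv t s') ≠ 0 := by
    obtain ⟨s', hs'⟩ := exists_pairing hz3 (1 : F)
    refine ⟨s', fun e => ?_⟩
    rw [← N.nv_adj ht hH] at e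
    rw [herm_orth_symm N.hF e] at hs'
    exact zero_ne_one hs'
  obtain ⟨s, hs⟩ := exists_pairing ha0 (1 : F)
  obtain ⟨y₀, -, hya₀, hyy₀⟩ := exists_iso N.hF (fun x y => hermForm 4 F 2 x (N.nv t y))
    (fun x => hermForm 4 F 2 x a) Set.univ
    (fun u v w => herm_add_left N.hF u v _) (fun k u w => herm_smul_left N.hF k u _)
    (fun u w => by rw [← herm_swap N.hF, N.nv_adj ht hH])
    (fun u u' => herm_add_left N.hF u u' a)
    (fun k u hu hk => by rw [herm_smul_left N.hF]; exact mul_ne_zero hk hu)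
    (fun _ _ _ _ => trivial) (fun _ _ _ => trivial) (s := s) trivial
    (by rw [hs]; exact one_ne_zero) (z := z') trivial hz1 (s' := s') trivial hs'
  have haN : N.nv t a = 0 := (N.nv_eq_zero a).2 haf
  have haa : hermForm 4 F 2 a a = 0 := hiso a ((hmem _).2 ⟨w₁, hw₁⟩) a ((hmem _).2 ⟨w₁, hw₁⟩)
  -- make it isotropic
  obtain ⟨y, hya, hyy, hyN⟩ : ∃ y, hermForm 4 F 2 y a ≠ 0 ∧ hermForm 4 F 2 y y = 0 ∧
      hermForm 4 F 2 y (N.nv t y) = 0 := by
    rcases herm_self_cases N.hF y₀ with h | h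
    · exact ⟨y₀, hya₀, h, hyy₀⟩
    set k := ω / hermForm 4 F 2 a y₀ with hk
    have hay : hermForm 4 F 2 a y₀ ≠ 0 := fun e => hya₀ (herm_orth_symm N.hF e)
    refine ⟨y₀ + k • a, ?_, ?_, ?_⟩
    · rw [herm_add_left N.hF, herm_smul_left N.hF, haa, mul_zero, add_zero]
      exact hya₀
    · rw [herm_add_left N.hF, herm_add_right N.hF, herm_add_right N.hF, herm_smul_left N.hF,
        herm_smul_left N.hF, herm_smul_right N.hF, herm_smul_right N.hF, haa,
        herm_swap N.hF a y₀, h, ← mul_pow, hk, div_mul_cancel₀ _ hay, mul_zero, mul_zero, add_zero,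
        add_assoc, add_comm (ω ^ 2), hω, f4_add_self N.hF]
    · rw [N.nv_add ht, N.nv_smul ht hH, haN, smul_zero, add_zero, herm_add_left N.hF,
        herm_smul_left N.hF, ← N.nv_adj ht hH a, haN, herm_zero_left, mul_zero, add_zero]
      exact hyy₀
  set c := N.nv t y with hc
  have hcy : hermForm 4 F 2 c y = 0 := herm_orth_symm N.hF hyN
  have hcc : hermForm 4 F 2 c c = 0 := N.nv_orth ht hH y y
  have hsy : N.act t y = y + c := by rw [hc, nv, vadd_cancel N.hF]
  have hsc : N.act t c = c := N.nv_nv ht y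
  have hyc : hermForm 4 F 2 (y + c) (y + c) = 0 := by
    rw [herm_add_left N.hF, herm_add_right N.hF, herm_add_right N.hF, hyy, hyN, hcy, hcc]
    simp
  obtain ⟨d₁, hd₁, hT₁⟩ := N.exists_lift hyy
  obtain ⟨d₂, hd₂, hT₂⟩ := N.exists_lift hcc
  obtain ⟨d₃, hd₃, hT₃⟩ := N.exists_lift hyc
  have hd := mul_mem (mul_mem (N.H0_le hd₁) (N.H0_le hd₂)) (N.H0_le hd₃)
  have hact : ∀ x, N.act (d₁ * d₂ * d₃) x = x + hermForm 4 F 2 x (y + c) • (y + c) +
      hermForm 4 F 2 x c • c + hermForm 4 F 2 x y • y := fun x => by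
    rw [N.act_mul (mul_mem (N.H0_le hd₁) (N.H0_le hd₂)) (N.H0_le hd₃),
      N.act_mul (N.H0_le hd₁) (N.H0_le hd₂), hT₃, hT₂, hT₁]
    unfold transvec
    rw [herm_add_left N.hF, herm_smul_left N.hF, herm_add_left N.hF (w := c), hcc, hyN,
      add_zero, mul_zero, add_zero, herm_add_left N.hF, herm_add_left N.hF, herm_smul_left N.hF,
      herm_smul_left N.hF, herm_add_left N.hF (u := y), hyy, hcy, add_zero, mul_zero, mul_zero,
      add_zero, add_zero]
  obtain ⟨d, hdc, hdact, hcase⟩ := N.fix_or_swap ht hd (fun x => by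
      have hσ : ∀ p, hermForm 4 F 2 (N.act t x) p = hermForm 4 F 2 x (N.act t p) := fun p => by
        rw [← N.act_herm hH x (N.act t p), N.act_t_t ht]
      have hsyc : N.act t (y + c) = y := by
        rw [N.act_add htc, hsy, hsc, add_assoc, vadd_self N.hF, add_zero]
      rw [hact, hact, N.act_add htc, N.act_add htc, N.act_add htc, N.act_smul hH, N.act_smul hH,
        N.act_smul hH, hsyc, hsc, hsy, hσ, hσ, hσ, hsyc, hsy, hsc]
      exact add_right_comm _ _ _ |>.trans (by abel))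
    (fun j _ _ hf => by
      obtain ⟨w, hw⟩ := hker _ hf
      exact ⟨w, hw.symm⟩)
  rcases hcase with e | e
  swap
  · exact absurd (e ▸ (N.d_conj hdc ht).1) hnc
  obtain ⟨x, hx, hxv⟩ := N.xs_act hJ ht hg hdc (mul_inv_eq_iff_eq_mul.1 e) hx₁
  have hac : hermForm 4 F 2 a c = 0 := by rw [hc, ← N.nv_adj ht hH, haN, herm_zero_left]
  have hda : N.act d a = a + hermForm 4 F 2 a y • c := by
    rw [hdact, hact, herm_add_right N.hF, hac, add_zero, zero_smul, add_zero, smul_add,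
      add_assoc a, add_right_comm, vadd_self N.hF, zero_add]
  set b := hermForm 4 F 2 a y • c with hb
  have hbv : N.vec (x * x₁) = b := by
    rw [N.vec_mul _ (N.mem_Xs.1 hx).1 _ (N.mem_Xs.1 hx₁).1, hxv, ← ha, hda, add_comm,
      vadd_cancel N.hF]
  have hyR : c ≠ 0 := fun e0 => hya (hiso y ((hmem _).2 (hker y ((N.nv_eq_zero y).1 e0))) a
    ((hmem _).2 ⟨w₁, hw₁⟩))
  have hb0 : b ≠ 0 := smul_ne_zero (fun e0 => hya (herm_orth_symm N.hF e0)) hyR
  have hba : b ≠ a := fun e0 => N.act_ne_zero hdc ha0 (by rw [hda, e0, vadd_self N.hF])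
  refine N.no_pair hJ ht hg (mul_mem hx hx₁) hx₁ (fun e0 => hb0 ?_) hne₁ (fun e0 => hba ?_)
    (w₁ := hermForm 4 F 2 a y • y) (w₂ := w₁) (by rw [hbv, N.nv_smul ht hH]) hw₁.symm ?_
  · rw [← hbv, e0, N.vec_one]
  · rw [← hbv, e0]
  · have hay : hermForm 4 F 2 a y ≠ 0 := fun e0 => hya (herm_orth_symm N.hF e0)
    rw [← ha, herm_smul_left N.hF, herm_swap N.hF a y, f4_cube N.hF hay, one_pow, f4_add_self N.hF]

omit hH in
/-- **The type of a member.** -/
theorem member_type [Finite G] :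
    t ∈ N.H0 ∧ ∃ v : Fin 4 → F, v ≠ 0 ∧ hermForm 4 F 2 v v = 0 ∧ N.TV t v := by
  have hH : t ∈ N.H0 := by
    by_contra hn
    exact N.outer_false ht hJ hg hn
  refine ⟨hH, ?_⟩
  rcases N.inner_cases ht hH with h | h | ⟨h16, hker⟩
  · exact h
  · exact absurd ((N.act_one t (N.d_cent ht)).1 fun x => (N.nv_eq_zero x).1 (h x))
      (N.d_not_J hJ ht)
  · exact (N.plane_false ht hH hJ hg h16 hker).elim

end NatData

end CfsgLib.Recog.U6Cent
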