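import Cfsg.Agent.Lib.Recog.U6Cent.NatOutOuter

/-!
A conjugate of `z` acting as a transvection: `t z` is no conjugate.
-/

set_option autoImplicit false
set_option linter.unusedSectionVars false

namespace CfsgLib.Recog.U6Cent

open Subgroup Cfsg

variable {G : Type*} [Group G] {F : Type*} [Field F] [Fintype F]

/-- Two orthogonal transvections. -/
theorem transvec_twice (hF : Fintype.card F = 4) {p q : Fin 4 → F}
    (h : hermForm 4 F 2 q p = 0) (x : Fin 4 → F) :
    transvec p (transvec q x) = x + hermForm 4 F 2 x q • q + hermForm 4 F 2 x p • p := by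
  unfold transvec
  rw [herm_add_left hF, herm_smul_left hF, h, mul_zero, add_zero]

theorem transvec_comm (hF : Fintype.card F = 4) {p q : Fin 4 → F}
    (h : hermForm 4 F 2 q p = 0) (x : Fin 4 → F) :
    transvec p (transvec q x) = transvec q (transvec p x) := by
  rw [transvec_twice hF h, transvec_twice hF (herm_orth_symm hF h)]
  exact add_right_comm _ _ _

/-- A vector orthogonal to two given ones outside a line. -/
theorem exists_orth_two (hF : Fintype.card F = 4) {v a : Fin 4 → F} (hv : v ≠ 0)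
    (ha : ∀ k : F, a ≠ k • v) :
    ∃ z, hermForm 4 F 2 z v = 0 ∧ hermForm 4 F 2 z a = 0 ∧ ∀ k : F, z ≠ k • v := by
  classical
  obtain ⟨p, hp⟩ := exists_pairing hv (1 : F)
  obtain ⟨s, hs1, hs2⟩ := exists_orth_pairing hF hv ha 1
  by_contra hne
  push Not at hne
  have hsub : (Set.univ : Set (Fin 4 → F)) ⊆
      (fun q : F × F × F => q.1 • v + q.2.1 • p + q.2.2 • s) '' Set.univ := by
    intro x _
    set x' := x + hermForm 4 F 2 x v • p with hx'
    have h1 : hermForm 4 F 2 x' v = 0 := by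
      rw [hx', herm_add_left hF, herm_smul_left hF, hp, mul_one, f4_add_self hF]
    set x'' := x' + hermForm 4 F 2 x' a • s with hx''
    have h2 : hermForm 4 F 2 x'' v = 0 := by
      rw [hx'', herm_add_left hF, herm_smul_left hF, h1, hs1, mul_zero, add_zero]
    have h3 : hermForm 4 F 2 x'' a = 0 := by
      rw [hx'', herm_add_left hF, herm_smul_left hF, hs2, mul_one, f4_add_self hF]
    obtain ⟨k, hk⟩ := hne x'' h2 h3
    refine ⟨(k, hermForm 4 F 2 x v, hermForm 4 F 2 x' a), trivial, ?_⟩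
    show k • v + hermForm 4 F 2 x v • p + hermForm 4 F 2 x' a • s = x
    rw [← hk, hx'']
    generalize hermForm 4 F 2 x' a • s = S
    rw [hx', add_right_comm, add_assoc (x + _) S S, vadd_self hF, add_zero, add_assoc,
      vadd_self hF, add_zero]
  have h := Set.ncard_le_ncard hsub (Set.toFinite _)
  have h2 := Set.ncard_image_le (f := fun q : F × F × F => q.1 • v + q.2.1 • p + q.2.2 • s)
    (Set.toFinite (Set.univ : Set (F × F × F)))
  rw [Set.ncard_univ, Nat.card_eq_fintype_card, Fintype.card_fun, hF, Fintype.card_fin] at h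
  rw [Set.ncard_univ (α := F × F × F), Nat.card_prod, Nat.card_prod, Nat.card_eq_fintype_card, hF] at h2
  norm_num at h h2
  omega

namespace NatData

variable (N : NatData G F)

theorem nv_tv {t : G} {v : Fin 4 → F} (hT : N.TV t v) (x : Fin 4 → F) :
    N.nv t x = hermForm 4 F 2 x v • v := by
  rw [nv, hT, transvec, vadd_cancel N.hF]

theorem tv_fixed {t : G} {v : Fin 4 → F} (hv : v ≠ 0) (hT : N.TV t v) (x : Fin 4 → F) :
    N.act t x = x ↔ hermForm 4 F 2 x v = 0 := by
  rw [← N.nv_eq_zero, N.nv_tv hT, smul_eq_zero]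
  simp [hv]

theorem tv_range {t : G} {v : Fin 4 → F} (hv : v ≠ 0) (hT : N.TV t v) (k : F) :
    ∃ w, k • v = N.nv t w := by
  obtain ⟨x, hx⟩ := exists_pairing hv k
  exact ⟨x, by rw [N.nv_tv hT, hx]⟩

/-- The fixed vectors of a transvection are at least `64`. -/
theorem tv_ker {t : G} (ht : t ∈ N.dset) {v : Fin 4 → F} (hT : N.TV t v) :
    64 ≤ {x | N.act t x = x}.ncard := by
  classical
  have h := N.card_ker_range ht
  have hsub : Set.range (N.nv t) ⊆ (fun k : F => k • v) '' Set.univ := by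
    rintro _ ⟨x, rfl⟩
    exact ⟨_, trivial, (N.nv_tv hT x).symm⟩
  have h4 : (Set.range (N.nv t)).ncard ≤ 4 := by
    refine (Set.ncard_le_ncard hsub (Set.toFinite _)).trans
      ((Set.ncard_image_le (Set.toFinite _)).trans ?_)
    rw [Set.ncard_univ, Nat.card_eq_fintype_card, N.hF]
  by_contra hlt
  push Not at hlt
  nlinarith

variable {t g : G} (ht : t ∈ N.dset) (hJ : ∀ x ∈ N.J, IsConj N.z x → x = N.z)
  (hg : g * N.z * g⁻¹ = t) {v : Fin 4 → F} (hv : v ≠ 0) (hvv : hermForm 4 F 2 v v = 0)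
  (hT : N.TV t v)
include ht hJ hg hv hvv hT

/-- `X` has an element over the centre. -/
theorem tv_point [Finite G] : ∃ x ∈ N.Xs g, x ≠ 1 ∧ ∃ k : F, N.vec x = k • v := by
  classical
  have htc := N.d_cent ht
  have hfix := N.tv_fixed hv hT
  obtain ⟨x₁, hx₁, hne₁⟩ : ∃ x ∈ N.Xs g, x ≠ 1 := by
    by_contra hX
    push Not at hX
    have h1 := N.sixteen_le_CJt ht hg
    have h2 := N.xs_bot_card hJ ht hg hX
    have h3 := N.fix_card_le (N.kSet t)
    have hspan : 32 ≤ Nat.card (Submodule.span F (N.kSet t)) := by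
      have := N.tv_ker ht hT
      have := N.ker_le_two_kSet ht
      have h := Set.ncard_le_ncard (Submodule.subset_span (R := F) (s := N.kSet t)) (Set.toFinite _)
      have e : Nat.card (Submodule.span F (N.kSet t)) =
          (Submodule.span F (N.kSet t) : Set (Fin 4 → F)).ncard := Nat.card_coe_set_eq _
      omega
    have := card_linFix_le N.hF hspan
    omega
  set a := N.vec x₁ with ha
  have hav : hermForm 4 F 2 a v = 0 := (hfix a).1 (N.xs_fixed hJ ht hg hx₁)
  by_cases hA : ∃ k : F, a = k • v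
  · exact ⟨x₁, hx₁, hne₁, hA⟩
  push Not at hA
  obtain ⟨s, hs1, hs2⟩ := exists_orth_pairing N.hF hv hA 1
  obtain ⟨z', hz1, hz2, hz3⟩ := exists_orth_two N.hF hv hA
  obtain ⟨s', hs'1, hs'2⟩ : ∃ x, hermForm 4 F 2 x v = 0 ∧ hermForm 4 F 2 x z' ≠ 0 := by
    obtain ⟨x, h1, h2⟩ := exists_orth_pairing N.hF hv hz3 1
    exact ⟨x, h1, by rw [h2]; exact one_ne_zero⟩
  obtain ⟨w, hwv, hwa, hww⟩ := exists_iso N.hF (hermForm 4 F 2) (fun x => hermForm 4 F 2 x a)
    {x | hermForm 4 F 2 x v = 0} (herm_add_left N.hF) (herm_smul_left N.hF) (herm_swap N.hF)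
    (fun u u' => herm_add_left N.hF u u' a)
    (fun k u hu hk => by rw [herm_smul_left N.hF]; exact mul_ne_zero hk hu)
    (fun u hu u' hu' => by
      show hermForm 4 F 2 (u + u') v = 0
      rw [herm_add_left N.hF, show hermForm 4 F 2 u v = 0 from hu,
        show hermForm 4 F 2 u' v = 0 from hu', add_zero])
    (fun k u hu => by
      show hermForm 4 F 2 (k • u) v = 0
      rw [herm_smul_left N.hF, show hermForm 4 F 2 u v = 0 from hu, mul_zero])
    (s := s) hs1 (by rw [hs2]; exact one_ne_zero) (z := z') hz1 hz2 (s' := s') hs'1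
    (fun e => hs'2 (herm_orth_symm N.hF e))
  have hwv' : hermForm 4 F 2 w v = 0 := hwv
  have haw : hermForm 4 F 2 a w ≠ 0 := fun e => hwa (herm_orth_symm N.hF e)
  -- lifts of the elements of the radical of the point
  have lift : ∀ k : F, ∃ c ∈ centralizer ({N.z} : Set G),
      (∀ x, hermForm 4 F 2 x v = 0 → N.act c x = x + (k ^ 2 * hermForm 4 F 2 x w) • v) ∧
      (c * t * c⁻¹ = t ∨ c * t * c⁻¹ = t * N.z) := by
    intro k
    set u := k • w with hu
    have huv : hermForm 4 F 2 u v = 0 := by rw [hu, herm_smul_left N.hF, hwv', mul_zero]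
    have hvu : hermForm 4 F 2 v u = 0 := herm_orth_symm N.hF huv
    have huu : hermForm 4 F 2 u u = 0 := by
      rw [hu, herm_smul_left N.hF, herm_smul_right N.hF, hww, mul_zero, mul_zero]
    have huv2 : hermForm 4 F 2 (u + v) (u + v) = 0 := by
      rw [herm_add_left N.hF, herm_add_right N.hF, herm_add_right N.hF, huu, huv, hvu, hvv]
      simp
    obtain ⟨c₁, hc₁, hT₁⟩ := N.exists_lift huu
    obtain ⟨c₂, hc₂, hT₂⟩ := N.exists_lift huv2
    have hcc := mul_mem (N.H0_le hc₁) (N.H0_le hc₂)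
    have hact : ∀ x, N.act (c₁ * c₂) x = transvec u (transvec (u + v) x) := fun x => by
      rw [N.act_mul (N.H0_le hc₁) (N.H0_le hc₂), hT₂, hT₁]
    have hperp : ∀ x, hermForm 4 F 2 x v = 0 →
        N.act (c₁ * c₂) x = x + (k ^ 2 * hermForm 4 F 2 x w) • v := fun x hx => by
      rw [hact, transvec_twice N.hF (by rw [herm_add_left N.hF, huu, hvu, add_zero]),
        herm_add_right N.hF, hx, add_zero, smul_add, add_assoc x, add_right_comm, vadd_self N.hF,
        zero_add, hu, herm_smul_right N.hF]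
    obtain ⟨c', hc', hact', hcase⟩ := N.fix_or_swap ht hcc (fun x => by
        rw [hT, hT, hact, hact, transvec_comm N.hF (p := u + v) (q := v)
          (by rw [herm_add_right N.hF, hvu, hvv, add_zero]),
          transvec_comm N.hF (p := u) (q := v) hvu])
      (fun j hj hjt hjf => by
        obtain ⟨l, hl⟩ := mem_line N.hF hv (w := N.vec j) (fun x hx => by
          refine eq_zero_of_trace N.hF fun m => ?_
          obtain ⟨y, hy, hym⟩ := N.vec_surj (m • x)
          have hyv : hermForm 4 F 2 (N.vec y) v = 0 := by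
            rw [hym, herm_smul_left N.hF, hx, mul_zero]
          set c := c₁ * c₂ with hcdef
          set y' := c * y * c⁻¹ with hy'
          have hy'J : y' ∈ N.J := N.J_normal c hcc y hy
          obtain ⟨w', hw'⟩ := N.tv_range hv hT (k ^ 2 * hermForm 4 F 2 (N.vec y) w)
          obtain ⟨e₀, he₀, he₀t, he₀v⟩ := N.range_mem_kSet ht (w := w') (by
            rw [← hw', herm_smul_left N.hF, herm_smul_right N.hF, hvv, mul_zero, mul_zero])
          have hy'v : N.vec y' = N.vec (y * e₀) := by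
            rw [hy', N.act_vec c hcc y hy, hperp _ hyv, N.vec_mul _ hy _ he₀, he₀v, hw']
          have hcomm : j * y' = y' * j := by
            have hcz : c * N.z = N.z * c := N.z_comm hcc
            have htz : t * N.z = N.z * t := ht.2.1
            have hy0 := (hfix (N.vec y)).2 hyv
            have het' : t * e₀ * t⁻¹ = e₀ := by rw [← he₀t, mul_inv_cancel_right]
            have hy'cases : (t * y * t⁻¹ = y ∧ t * y' * t⁻¹ = y') ∨
                (t * y * t⁻¹ = y * N.z ∧ t * y' * t⁻¹ = y' * N.z) := by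
              have e1 : t * (y * e₀) * t⁻¹ = t * y * t⁻¹ * e₀ := by
                conv_rhs => rw [← het']
                group
              rcases N.eq_or_mul_z hy'J (mul_mem hy he₀) hy'v with q | q <;>
                rcases N.fixed_cases ht hy hy0 with r | r
              · exact Or.inl ⟨r, by rw [q, e1, r]⟩
              · exact Or.inr ⟨r, by rw [q, e1, r, mul_assoc y, ← N.J_z he₀, ← mul_assoc]⟩
              · refine Or.inl ⟨r, ?_⟩
                calc t * y' * t⁻¹ = t * (y * e₀) * t⁻¹ * (t * N.z * t⁻¹) := by rw [q]; group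
                  _ = y' := by rw [e1, r, htz, mul_inv_cancel_right, q]
              · refine Or.inr ⟨r, ?_⟩
                calc t * y' * t⁻¹ = t * (y * e₀) * t⁻¹ * (t * N.z * t⁻¹) := by rw [q]; group
                  _ = y' * N.z := by
                    rw [e1, r, htz, mul_inv_cancel_right, q, mul_assoc y, ← N.J_z he₀, ← mul_assoc]
            have hy'z : y' * N.z = N.z * y' := N.J_z hy'J
            have e2 : t * j * y' * (t * j)⁻¹ = t * y' * t⁻¹ := by
              rw [← hjt, hy']
              rcases hy'cases with ⟨r, r'⟩ | ⟨r, r'⟩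
              · rw [← hy', r']
                calc c * t * c⁻¹ * y' * (c * t * c⁻¹)⁻¹ = c * (t * y * t⁻¹) * c⁻¹ := by
                      rw [hy']; group
                  _ = y' := by rw [r]
              · rw [← hy', r']
                calc c * t * c⁻¹ * y' * (c * t * c⁻¹)⁻¹ = c * (t * y * t⁻¹) * c⁻¹ := by
                      rw [hy']; group
                  _ = c * y * (N.z * c⁻¹) := by rw [r]; group
                  _ = y' * N.z := by rw [← N.z_comm (inv_mem hcc), hy']; group
            have e3 : j * y' * j⁻¹ = y' := by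
              calc j * y' * j⁻¹ = t⁻¹ * (t * j * y' * (t * j)⁻¹) * t := by group
                _ = y' := by rw [e2]; group
            exact mul_inv_eq_iff_eq_mul.1 e3
          have h0 := (N.comm_iff y' hy'J j hj).1 hcomm.symm
          rw [hy', N.act_vec c hcc y hy, hperp _ hyv, herm_add_left N.hF, herm_smul_left N.hF,
            herm_orth_symm N.hF ((hfix (N.vec j)).1 hjf), mul_zero, add_zero, hym,
            herm_smul_left N.hF] at h0
          exact h0)
        obtain ⟨w', hw'⟩ := N.tv_range hv hT l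
        exact ⟨w', hl.trans hw'⟩)
    exact ⟨c', hc', fun x hx => by rw [hact', hperp x hx], hcase⟩
  obtain ⟨ω, hω⟩ := exists_trace_one N.hF
  have hω0 : ω ≠ 0 := fun e => by simp [e] at hω
  obtain ⟨c₁, hc₁, ha₁, hs₁⟩ := lift 1
  obtain ⟨c₂, hc₂, ha₂, hs₂⟩ := lift ω
  obtain ⟨c, hc, hct, k, hk, hck⟩ : ∃ c ∈ centralizer ({N.z} : Set G), c * t * c⁻¹ = t ∧
      ∃ k : F, k ≠ 0 ∧ N.act c a = a + k • v := by
    rcases hs₁ with e₁ | e₁
    · exact ⟨c₁, hc₁, e₁, _, mul_ne_zero (pow_ne_zero 2 one_ne_zero) haw, ha₁ a hav⟩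
    rcases hs₂ with e₂ | e₂
    · exact ⟨c₂, hc₂, e₂, _, mul_ne_zero (pow_ne_zero 2 hω0) haw, ha₂ a hav⟩
    refine ⟨c₁ * c₂, mul_mem hc₁ hc₂, ?_, (ω ^ 2 + 1) * hermForm 4 F 2 a w,
      mul_ne_zero ?_ haw, ?_⟩
    · calc c₁ * c₂ * t * (c₁ * c₂)⁻¹ = c₁ * (c₂ * t * c₂⁻¹) * c₁⁻¹ := by group
        _ = c₁ * t * (N.z * c₁⁻¹) := by rw [e₂]; group
        _ = c₁ * t * c₁⁻¹ * N.z := by rw [← N.z_comm (inv_mem hc₁), mul_assoc, mul_assoc, mul_assoc]
        _ = t := by rw [e₁, mul_assoc, N.z_sq, mul_one]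
    · intro e
      have : ω ^ 2 = 1 := f4_eq_of_add_zero N.hF e
      rw [this] at hω
      exact hω0 (add_eq_right.1 hω)
    · have hav2 : hermForm 4 F 2 (a + (ω ^ 2 * hermForm 4 F 2 a w) • v) v = 0 := by
        rw [herm_add_left N.hF, herm_smul_left N.hF, hav, hvv, mul_zero, add_zero]
      rw [N.act_mul hc₁ hc₂, ha₂ a hav, ha₁ _ hav2, herm_add_left N.hF, herm_smul_left N.hF,
        herm_orth_symm N.hF hwv', mul_zero, add_zero, one_pow, one_mul, add_assoc, ← add_smul,
        add_mul, one_mul]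
  obtain ⟨x, hx, hxv⟩ := N.xs_act hJ ht hg hc (mul_inv_eq_iff_eq_mul.1 hct) hx₁
  have hval : N.vec (x * x₁) = k • v := by
    rw [N.vec_mul _ (N.mem_Xs.1 hx).1 _ (N.mem_Xs.1 hx₁).1, hxv, hck, ← ha, add_comm,
      vadd_cancel N.hF]
  exact ⟨x * x₁, mul_mem hx hx₁, fun e => smul_ne_zero hk hv (by rw [← hval, e, N.vec_one]),
    k, hval⟩

/-- **`t z` is no conjugate.** -/
theorem tv_not_conj [Finite G] : ¬ IsConj N.z (t * N.z) := by
  obtain ⟨x, hx, hne, k, hk⟩ := N.tv_point ht hJ hg hv hvv hT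
  obtain ⟨w, hw⟩ := N.tv_range hv hT k
  exact N.not_conj_tz hJ ht hg hx hne (hk.trans hw)

end NatData

end CfsgLib.Recog.U6Cent
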