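import Cfsg.Agent.Lib.Recog.U6Cent.Gq

/-!
The isotropic points over an arbitrary field with four elements, and the algebra of the form.
-/

set_option autoImplicit false

namespace CfsgLib.Recog.U6Cent

open Cfsg CfsgLib.InvChar

variable {F : Type*} [Field F] [Fintype F] (hF : Fintype.card F = 4)
include hF

theorem f4_char : (2 : F) = 0 := by
  have h := FiniteField.cast_card_eq_zero F
  rw [hF] at h
  have : (2 : F) * 2 = 0 := by exact_mod_cast h
  simpa using this

theorem f4_pow (a : F) : a ^ 4 = a := by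
  rw [← hF]; exact FiniteField.pow_card a

theorem f4_add_self (a : F) : a + a = 0 := by rw [← two_mul, f4_char hF, zero_mul]

theorem f4_frob (a b : F) : (a + b) ^ 2 = a ^ 2 + b ^ 2 := by
  rw [add_sq, f4_char hF, zero_mul, zero_mul, add_zero]

theorem herm_add_left (u v w : Fin 4 → F) :
    hermForm 4 F 2 (u + v) w = hermForm 4 F 2 u w + hermForm 4 F 2 v w := by
  simp only [hermForm, Pi.add_apply, add_mul, Finset.sum_add_distrib]

theorem herm_add_right (u v w : Fin 4 → F) :
    hermForm 4 F 2 u (v + w) = hermForm 4 F 2 u v + hermForm 4 F 2 u w := by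
  simp only [hermForm, Pi.add_apply, f4_frob hF, mul_add, Finset.sum_add_distrib]

theorem herm_smul_left (k : F) (u v : Fin 4 → F) : hermForm 4 F 2 (k • u) v = k * hermForm 4 F 2 u v := by
  simp only [hermForm, Pi.smul_apply, smul_eq_mul, Finset.mul_sum, mul_assoc]

theorem herm_smul_right (k : F) (u v : Fin 4 → F) :
    hermForm 4 F 2 u (k • v) = k ^ 2 * hermForm 4 F 2 u v := by
  simp only [hermForm, Pi.smul_apply, smul_eq_mul, Finset.mul_sum, mul_pow]
  exact Finset.sum_congr rfl fun i _ => by ring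

theorem herm_swap (u v : Fin 4 → F) : hermForm 4 F 2 v u = hermForm 4 F 2 u v ^ 2 := by
  simp only [hermForm, Fin.sum_univ_four, f4_frob hF, mul_pow, ← pow_mul]
  rw [f4_pow hF, f4_pow hF, f4_pow hF, f4_pow hF]
  ring

omit [Fintype F] hF in
theorem herm_zero_left (v : Fin 4 → F) : hermForm 4 F 2 0 v = 0 := by simp [hermForm]

theorem herm_orth_symm {u v : Fin 4 → F} (h : hermForm 4 F 2 u v = 0) : hermForm 4 F 2 v u = 0 := by
  rw [herm_swap hF, h, zero_pow two_ne_zero]

/-- A field with four elements in coordinates. -/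
noncomputable def f4Equiv : FQ4 ≃+* F :=
  FiniteField.ringEquivOfCardEq (FQ4.card_eq.trans hF.symm)

/-- The vector of a point. -/
noncomputable def pv (i : Fin 45) : Fin 4 → F := fun j => f4Equiv hF (Gq.rep i j)

theorem herm_map (u v : Fin 4 → FQ4) :
    hermForm 4 F 2 (fun j => f4Equiv hF (u j)) (fun j => f4Equiv hF (v j)) =
      f4Equiv hF (Gq.hq u v) := by
  rw [← Gq.herm_eq]
  simp only [hermForm, map_sum, map_mul, map_pow]

theorem pv_iso (i : Fin 45) : hermForm 4 F 2 (pv hF i) (pv hF i) = 0 := by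
  unfold pv
  rw [herm_map hF, (Gq.rep_facts.1 i).1, map_zero]

theorem pv_ne (i : Fin 45) : pv hF i ≠ 0 := fun h => by
  obtain ⟨j, hj⟩ := (Gq.rep_facts.1 i).2
  exact hj ((map_eq_zero_iff _ (f4Equiv hF).injective).1 (congrFun h j))

theorem pv_orth (i j : Fin 45) :
    hermForm 4 F 2 (pv hF i) (pv hF j) = 0 ↔ Gq.hq (Gq.rep i) (Gq.rep j) = 0 := by
  unfold pv
  rw [herm_map hF, map_eq_zero_iff _ (f4Equiv hF).injective]

theorem pv_unique {i j : Fin 45} {k : F} (h : pv hF i = k • pv hF j) : i = j := by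
  refine Gq.rep_facts.2 i j ((f4Equiv hF).symm k) fun x => (f4Equiv hF).injective ?_
  rw [map_mul, RingEquiv.apply_symm_apply]
  exact congrFun h x

theorem pv_cover {v : Fin 4 → F} (hv : v ≠ 0) (h : hermForm 4 F 2 v v = 0) :
    ∃ (i : Fin 45) (k : F), k ≠ 0 ∧ v = k • pv hF i := by
  set e := f4Equiv hF with he
  set w : Fin 4 → FQ4 := fun j => e.symm (v j) with hw
  have hev : v = fun j => e (w j) := funext fun j => (e.apply_symm_apply (v j)).symm
  rw [hev, he, herm_map hF, map_eq_zero_iff _ (f4Equiv hF).injective] at h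
  have hne : w 0 ≠ 0 ∨ w 1 ≠ 0 ∨ w 2 ≠ 0 ∨ w 3 ≠ 0 := by
    by_contra hc
    push Not at hc
    refine hv (hev.trans (funext fun j => ?_))
    fin_cases j <;> simp [hc.1, hc.2.1, hc.2.2.1, hc.2.2.2]
  have e4 : w = ![w 0, w 1, w 2, w 3] := funext fun j => by fin_cases j <;> rfl
  obtain ⟨i, k, hk, h0, h1, h2, h3⟩ := Gq.rep_cover (w 0) (w 1) (w 2) (w 3) (e4 ▸ h) hne
  refine ⟨i, e k, (map_ne_zero_iff _ e.injective).2 hk, hev.trans (funext fun j => ?_)⟩
  show e (w j) = e k * e (Gq.rep i j)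
  rw [← map_mul]
  congr 1
  fin_cases j
  exacts [h0, h1, h2, h3]

end CfsgLib.Recog.U6Cent
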