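import Cfsg.Agent.Lib.Recog.U6Cent.RedBase

/-!
Linear algebra of the six-dimensional quadratic space of minus type over `𝔽₂`, as far as the reducible case needs it.
-/

set_option autoImplicit false

namespace CfsgLib.Recog.U6Cent.Red

open Module Submodule

abbrev L6 : Type := V6 →ₗ[ZMod 2] V6

/-- The polar form, bundled. -/
def bf : LinearMap.BilinForm (ZMod 2) V6 :=
  LinearMap.mk₂ (ZMod 2) b6 b6_add_left b6_smul_left b6_add_right b6_smul_right

theorem bf_apply (v w : V6) : bf v w = b6 v w := rfl

theorem bf_nondegenerate : bf.Nondegenerate :=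
  ⟨fun v h => eq_zero_of_b6 fun w => h w,
    fun v h => eq_zero_of_b6 fun w => (b6_comm v w).trans (h w)⟩

/-- Orthogonal complement. -/
def perp (W : Submodule (ZMod 2) V6) : Submodule (ZMod 2) V6 := bf.orthogonal W

theorem mem_perp {W : Submodule (ZMod 2) V6} {v : V6} : v ∈ perp W ↔ ∀ w ∈ W, b6 w v = 0 := Iff.rfl

theorem finrank_perp (W : Submodule (ZMod 2) V6) :
    finrank (ZMod 2) (perp W) = 6 - finrank (ZMod 2) W := by
  rw [perp, LinearMap.BilinForm.finrank_orthogonal bf_nondegenerate W]
  simp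

/-! ### Finite checks -/

theorem plane_perp : ∀ u : V6, ∃ p, q6 p = 1 ∧ b6 p u = 0 ∧ ∃ p', q6 p' = 1 ∧ b6 p' u = 0 ∧ b6 p p' = 1 := by
  decide +kernel

theorem partner : ∀ u : V6, q6 u = 0 → u ≠ 0 → ∀ x, q6 x = 1 → b6 x u = 0 →
    ∃ b, q6 b = 1 ∧ b6 b u = 0 ∧ b6 x b = 1 := by
  decide +kernel

theorem sum_one : ∀ u : V6, q6 u = 0 → u ≠ 0 → ∀ x, q6 x = 0 → b6 x u = 0 →
    ∃ a, q6 a = 1 ∧ b6 a u = 0 ∧ q6 (x + a) = 1 := by
  decide +kernel

set_option synthInstance.maxSize 2000 in
set_option synthInstance.maxHeartbeats 100000 in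
theorem sing_line_max : ∀ a : V6, q6 a = 0 → a ≠ 0 → ∀ b, q6 b = 0 → b6 a b = 0 → b ≠ 0 → b ≠ a →
    ∀ c, q6 c = 0 → b6 a c = 0 → b6 b c = 0 → c = 0 ∨ c = a ∨ c = b ∨ c = a + b := by
  decide +kernel

/-! ### Totally singular subspaces -/

theorem card_sub (W : Submodule (ZMod 2) V6) : Nat.card W = 2 ^ finrank (ZMod 2) W := by
  rw [Module.natCard_eq_pow_finrank (K := ZMod 2) (V := W)]
  simp

theorem b6_eq_zero_of_sing {U : Submodule (ZMod 2) V6} (h : ∀ x ∈ U, q6 x = 0) {x y : V6} (hx : x ∈ U)
    (hy : y ∈ U) : b6 x y = 0 := by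
  have := q6_add x y
  rw [h _ (U.add_mem hx hy), h _ hx, h _ hy] at this
  simpa using this.symm

/-- There is no totally singular subspace of dimension three. -/
theorem exists_q_one {U : Submodule (ZMod 2) V6} (hU : 3 ≤ finrank (ZMod 2) U) : ∃ x ∈ U, q6 x = 1 := by
  classical
  by_contra hcon
  push Not at hcon
  have h0 : ∀ x ∈ U, q6 x = 0 := fun x hx => (zmod2_cases _).resolve_right (hcon x hx)
  have h8 : 8 ≤ (U : Set V6).ncard := by
    rw [← Nat.card_coe_set_eq]
    calc 8 = 2 ^ 3 := rfl
      _ ≤ 2 ^ finrank (ZMod 2) U := Nat.pow_le_pow_right (by norm_num) hU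
      _ = _ := (card_sub U).symm
  have big : ∀ s : Finset V6, s.card ≤ 4 → ∃ x ∈ U, x ∉ s := by
    intro s hs
    by_contra hn
    push Not at hn
    have := Set.ncard_le_ncard (show (U : Set V6) ⊆ ↑s from fun x hx => hn x hx) s.finite_toSet
    rw [Set.ncard_coe_finset] at this
    omega
  obtain ⟨a, ha, ha'⟩ := big {0} (by simp)
  obtain ⟨b, hb, hb'⟩ := big {0, a} (le_trans Finset.card_le_two (by norm_num))
  obtain ⟨c, hc, hc'⟩ := big {0, a, b, a + b} Finset.card_le_four
  simp at ha' hb' hc'
  rcases sing_line_max a (h0 a ha) ha' b (h0 b hb) (b6_eq_zero_of_sing h0 ha hb) hb'.1 hb'.2 c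
    (h0 c hc) (b6_eq_zero_of_sing h0 ha hc) (b6_eq_zero_of_sing h0 hb hc) with e | e | e | e
  exacts [hc'.1 e, hc'.2.1 e, hc'.2.2.1 e, hc'.2.2.2 e]

/-! ### Isometries -/

/-- A linear isometry. -/
def Iso6 (g : L6) : Prop := ∀ x, q6 (g x) = q6 x

theorem Iso6.b6_map {g : L6} (hg : Iso6 g) (x y : V6) : b6 (g x) (g y) = b6 x y := by
  have h := q6_add (g x) (g y)
  rw [← map_add, hg, hg, hg, q6_add x y] at h
  exact (add_left_cancel h).symm

theorem Iso6.injective {g : L6} (hg : Iso6 g) : Function.Injective g := by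
  rw [injective_iff_map_eq_zero]
  intro x hx
  exact eq_zero_of_b6 fun w => by rw [← hg.b6_map, hx, b6_zero_left]

/-- `g - 1`. -/
def dm (g : L6) : L6 := g + LinearMap.id

theorem dm_apply (g : L6) (x : V6) : dm g x = g x + x := rfl

/-- The commutator space. -/
def im (g : L6) : Submodule (ZMod 2) V6 := LinearMap.range (dm g)

/-- The fixed space. -/
def fx (g : L6) : Submodule (ZMod 2) V6 := LinearMap.ker (dm g)

theorem mem_fx {g : L6} {x : V6} : x ∈ fx g ↔ g x = x := by
  rw [fx, LinearMap.mem_ker, dm_apply]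
  exact ⟨v6_eq_of_add, fun h => by rw [h, v6_add_self]⟩

theorem finrank_fx (g : L6) : finrank (ZMod 2) (fx g) = 6 - finrank (ZMod 2) (im g) := by
  have h := LinearMap.finrank_range_add_finrank_ker (dm g)
  rw [Module.finrank_fintype_fun_eq_card, Fintype.card_fin] at h
  exact Nat.eq_sub_of_add_eq' h

theorem finrank_im_le_six (g : L6) : finrank (ZMod 2) (im g) ≤ 6 := by
  simpa using (im g).finrank_le

theorem Iso6.perp_fx {g : L6} (hg : Iso6 g) : perp (fx g) = im g := by
  refine (Submodule.eq_of_le_of_finrank_eq ?_ ?_).symm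
  · rintro _ ⟨x, rfl⟩
    rw [mem_perp]
    intro w hw
    rw [mem_fx] at hw
    rw [dm_apply, b6_add_right]
    conv_lhs => arg 1; rw [← hw, hg.b6_map]
    exact CharTwo.add_self_eq_zero _
  · rw [finrank_perp, finrank_fx]
    have := finrank_im_le_six g
    omega

theorem Iso6.b6_fx {g : L6} (hg : Iso6 g) {x w : V6} (hw : g w = w) : b6 w (g x + x) = 0 := by
  have : dm g x ∈ perp (fx g) := by rw [hg.perp_fx]; exact ⟨x, rfl⟩
  exact mem_perp.1 this w (mem_fx.2 hw)

theorem im_le_fx {g : L6} (h2 : ∀ x, g (g x) = x) : im g ≤ fx g := by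
  rintro _ ⟨x, rfl⟩
  rw [mem_fx, dm_apply, map_add, h2, add_comm]

theorem finrank_im_le {g : L6} (h2 : ∀ x, g (g x) = x) : finrank (ZMod 2) (im g) ≤ 3 := by
  have := Submodule.finrank_mono (im_le_fx h2)
  rw [finrank_fx] at this
  omega

theorem fx_eq_top {g : L6} (h : finrank (ZMod 2) (im g) = 0) (x : V6) : g x = x := by
  rw [Submodule.finrank_eq_zero] at h
  have : dm g x ∈ im g := ⟨x, rfl⟩
  rw [h, Submodule.mem_bot, dm_apply] at this
  exact v6_eq_of_add this

theorem isotropic_im {g : L6} (hg : Iso6 g) (h2 : ∀ x, g (g x) = x) {x y : V6} (hx : x ∈ im g) (hy : y ∈ im g) :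
    b6 x y = 0 := by
  rw [← hg.perp_fx] at hy
  exact mem_perp.1 hy x (im_le_fx h2 hx)

/-- The diagonal of the form of an isometry. -/
theorem Iso6.b6_dm {g : L6} (hg : Iso6 g) (x : V6) : b6 (dm g x) x = q6 (dm g x) := by
  rw [dm_apply, q6_add, hg, b6_add_left, b6_self, add_zero, CharTwo.add_self_eq_zero, zero_add]

theorem b6_dm_symm {g : L6} (hg : Iso6 g) (h2 : ∀ x, g (g x) = x) (x y : V6) :
    b6 (dm g x) y = b6 x (dm g y) := by
  rw [dm_apply, dm_apply, b6_add_left, b6_add_right]
  congr 1
  rw [← hg.b6_map x (g y), h2]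

/-- A hyperplane of the fixed space of an involution is large. -/
theorem finrank_hyper {U F : Submodule (ZMod 2) V6} (hUF : U ≤ F)
    (h : ∀ a ∈ F, a ∉ U → ∀ b ∈ F, b ∉ U → a + b ∈ U) :
    finrank (ZMod 2) F ≤ finrank (ZMod 2) U + 1 := by
  by_cases he : ∀ a ∈ F, a ∈ U
  · exact le_trans (Submodule.finrank_mono he) (Nat.le_succ _)
  push Not at he
  obtain ⟨a, ha, ha'⟩ := he
  have : F ≤ U ⊔ Submodule.span (ZMod 2) {a} := by
    intro b hb
    by_cases hb' : b ∈ U
    · exact Submodule.mem_sup_left hb'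
    · rw [← add_zero b, ← v6_add_self a, ← add_assoc, add_comm b a]
      exact Submodule.add_mem _ (Submodule.mem_sup_left (h a ha ha' b hb hb'))
        (Submodule.mem_sup_right (Submodule.mem_span_singleton_self a))
  refine le_trans (Submodule.finrank_mono this) (le_trans (Submodule.finrank_add_le_finrank_add_finrank _ _) ?_)
  have : finrank (ZMod 2) (Submodule.span (ZMod 2) ({a} : Set V6)) ≤ 1 := by
    simpa using finrank_span_le_card ({a} : Set V6)
  omega

/-! ### Involutions of rank two that are squares of maps fixing a large subspace -/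

section Two

variable {e τ : L6} {U : Submodule (ZMod 2) V6}

theorem im_le_perp (he : Iso6 e) (hfix : ∀ u ∈ U, e u = u) (x : V6) : dm e x ∈ perp U :=
  mem_perp.2 fun u hu => he.b6_fx (hfix u hu)

theorem dm_square (heτ : ∀ x, e (e x) = τ x) (x : V6) : dm e (dm e x) = dm τ x := by
  simp only [dm_apply, map_add, heτ]
  rw [← add_assoc, add_assoc (τ x), v6_add_self, add_zero]

theorem noniso (he : Iso6 e) (heτ : ∀ x, e (e x) = τ x) (hfix : ∀ u ∈ U, e u = u)
    (hU : 3 ≤ finrank (ZMod 2) U) (hne : ∃ x, τ x ≠ x) : ∃ x ∈ U, ∃ y ∈ U, b6 x y = 1 := by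
  by_contra hcon
  push Not at hcon
  have hiso : U ≤ perp U := fun y hy =>
    mem_perp.2 fun x hx => (zmod2_cases _).resolve_right (hcon x hx y hy)
  have h6 := finrank_perp U
  have hle := Submodule.finrank_mono hiso
  have heq : U = perp U := Submodule.eq_of_le_of_finrank_eq hiso (by omega)
  obtain ⟨x, hx⟩ := hne
  apply hx
  have h1 : dm e x ∈ U := heq ▸ im_le_perp he hfix x
  have h2 : dm τ x = 0 := by rw [← dm_square heτ, dm_apply, hfix _ h1, v6_add_self]
  rw [dm_apply] at h2
  exact v6_eq_of_add h2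

variable {a b : L6}

theorem centralizer_contra (he : Iso6 e) (hτ : Iso6 τ) (ha : Iso6 a) (hb : Iso6 b)
    (heτ : ∀ x, e (e x) = τ x) (hτ2 : ∀ x, τ (τ x) = x) (hr : finrank (ZMod 2) (im τ) = 2)
    (hfix : ∀ u ∈ U, e u = u) (hU : 3 ≤ finrank (ZMod 2) U)
    (hae : ∀ x, a (e x) = e (a x)) (hbe : ∀ x, b (e x) = e (b x))
    (haU : ∀ u ∈ U, a u ∈ U) (hbU : ∀ u ∈ U, b u ∈ U)
    (hab : ∀ x, a (b x) = τ (b (a x))) : False := by
  have hne : ∃ x, τ x ≠ x := by
    by_contra hc
    push Not at hc
    have : im τ = ⊥ := by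
      rw [eq_bot_iff]
      rintro _ ⟨x, rfl⟩
      rw [Submodule.mem_bot, dm_apply, hc, v6_add_self]
    rw [this, finrank_bot] at hr
    omega
  obtain ⟨x, hx, y, hy, hxy⟩ := noniso he heτ hfix hU hne
  have hUfx : U ≤ fx τ := fun u hu => mem_fx.2 (by rw [← heτ, hfix u hu, hfix u hu])
  have hfd : finrank (ZMod 2) (fx τ) = 4 := by rw [finrank_fx, hr]
  have hU4 : finrank (ZMod 2) U ≤ 4 := hfd ▸ Submodule.finrank_mono hUfx
  have hperp3 : finrank (ZMod 2) (perp U) ≤ 3 := by rw [finrank_perp]; omega
  by_cases hcase : ∀ w ∈ perp U, τ w = w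
  · -- `[V, τ] ≤ U ⊓ perp U`
    have h1 : perp U ≤ perp (im τ) := fun w hw => by
      rw [mem_perp]
      rintro _ ⟨z, rfl⟩
      rw [b6_comm]
      exact hτ.b6_fx (hcase w hw)
    have h2 : im τ ≤ perp U := fun w hw => mem_perp.2 fun u hu => by
      obtain ⟨z, rfl⟩ := hw
      exact hτ.b6_fx (mem_fx.1 (hUfx hu))
    have hUpp : perp (perp U) = U := by
      refine (Submodule.eq_of_le_of_finrank_eq (fun u hu => mem_perp.2 fun w hw => ?_) ?_).symm
      · rw [b6_comm]; exact mem_perp.1 hw u hu
      · rw [finrank_perp, finrank_perp]; omega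
    have h3 : im τ ≤ U := fun w hw => by
      rw [← hUpp, mem_perp]
      intro v hv
      rw [b6_comm]
      exact mem_perp.1 (h1 hv) w hw
    -- the radical and the hyperbolic pair force dimension four
    have hdisj : Disjoint (im τ) (Submodule.span (ZMod 2) {x, y}) := by
      rw [Submodule.disjoint_def]
      intro w hw hw'
      obtain ⟨c, d, rfl⟩ := Submodule.mem_span_pair.1 hw'
      have hd : d = 0 := by
        have := mem_perp.1 (h2 hw) x hx
        simpa [b6_add_right, b6_smul_right, b6_self, hxy] using this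
      have hc : c = 0 := by
        have := mem_perp.1 (h2 hw) y hy
        simpa [b6_add_right, b6_smul_right, b6_self, b6_comm y x, hxy] using this
      simp [hc, hd]
    have hpair : finrank (ZMod 2) (Submodule.span (ZMod 2) ({x, y} : Set V6)) = 2 := by
      have hli : LinearIndependent (ZMod 2) ![x, y] := by
        rw [LinearIndependent.pair_iff]
        intro c d h
        have h1 := congrArg (fun v => b6 v y) h
        have h2 := congrArg (fun v => b6 x v) h
        simp [b6_add_left, b6_smul_left, b6_self, hxy, b6_zero_left] at h1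
        simp [b6_add_right, b6_smul_right, b6_self, hxy, b6_zero_right] at h2
        exact ⟨h1, h2⟩
      have := finrank_span_eq_card hli
      rw [Matrix.range_cons_cons_empty] at this
      simpa using this
    have hsup : im τ ⊔ Submodule.span (ZMod 2) {x, y} ≤ U :=
      sup_le h3 (Submodule.span_le.2 (Set.insert_subset hx (Set.singleton_subset_iff.2 hy)))
    have h4 := Submodule.finrank_mono hsup
    have h5 := Submodule.finrank_sup_add_finrank_inf_eq (im τ) (Submodule.span (ZMod 2) ({x, y} : Set V6))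
    rw [hdisj.eq_bot, finrank_bot, hr, hpair] at h5
    have hUeq : U = fx τ := Submodule.eq_of_le_of_finrank_eq hUfx (by omega)
    have himU : perp U ≤ U := by rw [hUeq, hτ.perp_fx, ← hUeq]; exact h3
    obtain ⟨v, hv⟩ := hne
    apply hv
    have h6 : dm τ v = 0 := by
      rw [← dm_square heτ, dm_apply, hfix _ (himU (im_le_perp he hfix v)), v6_add_self]
    exact v6_eq_of_add h6
  · push Not at hcase
    obtain ⟨v, hv, hvτ⟩ := hcase
    set n : L6 := dm e with hn
    have hnP : ∀ w, n w ∈ perp U := im_le_perp he hfix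
    have hsq : ∀ w, n (n w) = dm τ w := dm_square heτ
    have h4z : ∀ w, n (n (n (n w))) = 0 := fun w => by
      rw [hsq, hsq, dm_apply, dm_apply, map_add, hτ2]
      funext i
      simp only [Pi.add_apply, Pi.zero_apply]
      linear_combination (w i + τ w i) * two_zero
    have hn2 : n (n v) ≠ 0 := by
      rw [hsq, dm_apply]
      exact fun h => hvτ (v6_eq_of_add h)
    have li3 : ∀ w : V6, n (n w) ≠ 0 → n (n (n w)) = 0 → LinearIndependent (ZMod 2) ![w, n w, n (n w)] := by
      intro w hw hw3
      rw [Fintype.linearIndependent_iff]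
      intro c hc
      simp [Fin.sum_univ_three] at hc
      have e0 : c 0 • n (n w) = 0 := by
        have := congrArg (fun z => n (n z)) hc
        simpa [map_add, map_smul, hw3] using this
      have c0 : c 0 = 0 := (smul_eq_zero.1 e0).resolve_right hw
      have e1 : c 1 • n (n w) = 0 := by
        have := congrArg (fun z => n z) hc
        simpa [map_add, map_smul, hw3, c0] using this
      have c1 : c 1 = 0 := (smul_eq_zero.1 e1).resolve_right hw
      have c2 : c 2 = 0 := by
        simpa [c0, c1, hw] using hc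
      intro i
      fin_cases i <;> assumption
    have hn3 : n (n (n v)) = 0 := by
      by_contra h3
      have hli := li3 (n v) h3 (h4z v)
      have hli4 : LinearIndependent (ZMod 2) ![v, n v, n (n v), n (n (n v))] := by
        rw [Fintype.linearIndependent_iff]
        intro c hc
        simp [Fin.sum_univ_four] at hc
        have c0 : c 0 = 0 := by
          have := congrArg (fun z => n (n (n z))) hc
          simp [map_add, map_smul, h4z] at this
          exact this.resolve_right h3
        have h' := Fintype.linearIndependent_iff.1 hli ![c 1, c 2, c 3]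
          (by simpa [Fin.sum_univ_three, c0] using hc)
        intro i
        fin_cases i
        exacts [c0, h' 0, h' 1, h' 2]
      have hle : Submodule.span (ZMod 2) (Set.range ![v, n v, n (n v), n (n (n v))]) ≤ perp U := by
        rw [Submodule.span_le]
        rintro _ ⟨i, rfl⟩
        fin_cases i
        exacts [hv, hnP _, hnP _, hnP _]
      have := Submodule.finrank_mono hle
      rw [finrank_span_eq_card hli4] at this
      simp at this
      omega
    have hspan : perp U = Submodule.span (ZMod 2) (Set.range ![v, n v, n (n v)]) := by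
      refine (Submodule.eq_of_le_of_finrank_le ?_ ?_).symm
      · rw [Submodule.span_le]
        rintro _ ⟨i, rfl⟩
        fin_cases i
        exacts [hv, hnP _, hnP _]
      · rw [finrank_span_eq_card (li3 v hn2 hn3)]
        simpa using hperp3
    have keep : ∀ g : L6, Iso6 g → (∀ u ∈ U, g u ∈ U) → ∀ w ∈ perp U, g w ∈ perp U := by
      intro g hg hgU w hw
      rw [mem_perp]
      intro u hu
      let f : U → U := fun u => ⟨g u, hgU _ u.2⟩
      have hf : Function.Surjective f := Finite.surjective_of_injective fun p r h =>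
        Subtype.ext (hg.injective (congrArg Subtype.val h))
      obtain ⟨u', hu'⟩ := hf ⟨u, hu⟩
      rw [show u = g u' from (congrArg Subtype.val hu').symm, hg.b6_map]
      exact mem_perp.1 hw _ u'.2
    have commn : ∀ g : L6, (∀ z, g (e z) = e (g z)) → ∀ z, g (n z) = n (g z) := fun g hg z => by
      simp only [hn, dm_apply, map_add, hg]
    have coord : ∀ g : L6, Iso6 g → (∀ u ∈ U, g u ∈ U) →
        ∃ c : Fin 3 → ZMod 2, g v = c 0 • v + c 1 • n v + c 2 • n (n v) := by
      intro g hg hgU
      have := keep g hg hgU v hv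
      rw [hspan, Submodule.mem_span_range_iff_exists_fun] at this
      obtain ⟨c, hc⟩ := this
      exact ⟨c, by rw [← hc]; simp [Fin.sum_univ_three, add_assoc]⟩
    obtain ⟨c, hc⟩ := coord a ha haU
    obtain ⟨d, hd⟩ := coord b hb hbU
    have hcv : a (b v) = b (a v) := by
      rw [hc, hd]
      simp only [map_add, map_smul, commn a hae, commn b hbe, hc, hd, hn3, map_zero, smul_zero, add_zero]
      simp only [smul_add, smul_smul]
      rw [mul_comm (d 0) (c 0), mul_comm (d 1) (c 0), mul_comm (d 2) (c 0), mul_comm (d 0) (c 1),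
        mul_comm (d 1) (c 1), mul_comm (d 0) (c 2)]
      abel
    have hfixb : τ (b (a v)) = b (a v) := (hab v).symm.trans hcv
    have hτn : ∀ w, τ (n w) = n (τ w) := fun w => by
      simp only [hn, dm_apply, map_add, ← heτ]
    have hbn : ∀ w, b (a (n w)) = n (b (a w)) := fun w => by rw [commn a hae, commn b hbe]
    have hall : ∀ w ∈ perp U, τ (b (a w)) = b (a w) := by
      intro w hw
      rw [hspan, Submodule.mem_span_range_iff_exists_fun] at hw
      obtain ⟨f, rfl⟩ := hw
      simp [Fin.sum_univ_three, map_add, map_smul, hbn, hτn, hfixb]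
    have hsur : ∃ w ∈ perp U, b (a w) = v := by
      let f : perp U → perp U := fun w =>
        ⟨b (a w), keep b hb hbU _ (keep a ha haU _ w.2)⟩
      have hf : Function.Surjective f := Finite.surjective_of_injective fun p r h =>
        Subtype.ext (ha.injective (hb.injective (congrArg Subtype.val h)))
      obtain ⟨w, hw⟩ := hf ⟨v, hv⟩
      exact ⟨w, w.2, congrArg Subtype.val hw⟩
    obtain ⟨w, hw, hwv⟩ := hsur
    exact hvτ (hwv ▸ hall w hw)

end Two

/-! ### No four-group of involutions of rank three -/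

theorem image_one_not_sing {g : L6} (hg : Iso6 g) (h2 : ∀ x, g (g x) = x)
    (hr : finrank (ZMod 2) (im g) = 3) {v : V6} (hv : ∀ m ∈ im g, b6 v m = q6 m) : q6 (dm g v) = 1 := by
  classical
  refine (zmod2_cases _).resolve_left fun h0 => ?_
  have hfm : fx g = im g := (Submodule.eq_of_le_of_finrank_eq (im_le_fx h2) (by rw [finrank_fx, hr])).symm
  have hlin : ∀ x y, q6 (dm g (x + y)) = q6 (dm g x) + q6 (dm g y) := fun x y => by
    rw [map_add, q6_add, isotropic_im hg h2 ⟨x, rfl⟩ ⟨y, rfl⟩, add_zero]
  let K : Submodule (ZMod 2) V6 :=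
    { carrier := {x | q6 (dm g x) = 0}
      zero_mem' := by show q6 (dm g 0) = 0; rw [map_zero, q6_zero]
      add_mem' := fun {x y} hx hy => by
        show q6 (dm g (x + y)) = 0
        rw [hlin, show q6 (dm g x) = 0 from hx, show q6 (dm g y) = 0 from hy, add_zero]
      smul_mem' := fun c x hx => by
        rcases zmod2_cases c with rfl | rfl
        · show q6 (dm g ((0 : ZMod 2) • x)) = 0
          rw [zero_smul, map_zero, q6_zero]
        · rwa [one_smul] }
  have hvK : v ∈ K := h0
  have hK5 : 5 ≤ finrank (ZMod 2) K := by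
    have := finrank_hyper (U := K) (F := ⊤) le_top (fun x _ hx y _ hy => by
      show q6 (dm g (x + y)) = 0
      rw [hlin, (zmod2_cases _).resolve_left hx, (zmod2_cases _).resolve_left hy]
      exact CharTwo.add_self_eq_zero _)
    simp at this
    omega
  -- the form vanishes identically on `K`
  have hvx : ∀ x ∈ K, b6 (dm g v) x = 0 := fun x hx => by
    rw [b6_dm_symm hg h2, hv _ ⟨x, rfl⟩]
    exact hx
  have hkey : ∀ x ∈ K, ∀ y ∈ K, b6 (dm g x) y = 0 := by
    have hdiag : ∀ x ∈ K, b6 (dm g x) x = 0 := fun x hx => (hg.b6_dm x).trans hx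
    intro x hx y hy
    by_contra hne
    have h1 : b6 (dm g x) y = 1 := (zmod2_cases _).resolve_left hne
    have hyx : b6 (dm g y) x = 1 := by rw [b6_dm_symm hg h2, b6_comm, h1]
    have hz : ∀ z ∈ K, dm g z ≠ 0 ∧ q6 (dm g z) = 0 → True := fun _ _ _ => trivial
    have n0 : dm g x ≠ 0 := fun e => by rw [e, b6_zero_left] at h1; exact zero_ne_one h1
    have n1 : dm g y ≠ 0 := fun e => by rw [e, b6_zero_left] at hyx; exact zero_ne_one hyx
    have nv : dm g v ≠ 0 := by
      intro e
      have hvm : v ∈ im g := hfm ▸ (LinearMap.mem_ker.2 e)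
      obtain ⟨w, hw, hw1⟩ := exists_q_one (U := im g) hr.ge
      have := hv w hw
      rw [isotropic_im hg h2 hvm hw, hw1] at this
      exact zero_ne_one this
    have nxy : dm g y ≠ dm g x := fun e => by
      rw [e, hdiag x hx] at hyx
      exact zero_ne_one hyx
    rcases sing_line_max (dm g x) hx n0 (dm g y) hy (isotropic_im hg h2 ⟨x, rfl⟩ ⟨y, rfl⟩) n1 nxy (dm g v) h0
      (isotropic_im hg h2 ⟨x, rfl⟩ ⟨v, rfl⟩) (isotropic_im hg h2 ⟨y, rfl⟩ ⟨v, rfl⟩) with e | e | e | e
    · exact nv e
    · have := hvx y hy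
      rw [e, h1] at this
      exact one_ne_zero this
    · have := hvx x hx
      rw [e, hyx] at this
      exact one_ne_zero this
    · have := hvx x hx
      rw [e, b6_add_left, hdiag x hx, hyx, zero_add] at this
      exact one_ne_zero this
  -- so `g - 1` maps `K` into its orthogonal complement, of dimension one
  have hmap : K.map (dm g) ≤ perp K := by
    rintro _ ⟨x, hx, rfl⟩
    exact mem_perp.2 fun y hy => by rw [b6_comm]; exact hkey x hx y hy
  have hle := Submodule.finrank_mono hmap
  rw [finrank_perp] at hle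
  have hker : finrank (ZMod 2) K ≤ finrank (ZMod 2) (K.map (dm g)) + 3 := by
    have h := LinearMap.finrank_range_add_finrank_ker ((dm g).domRestrict K)
    rw [LinearMap.range_domRestrict, LinearMap.ker_domRestrict] at h
    have h' : finrank (ZMod 2) ((LinearMap.ker (dm g)).comap K.subtype) ≤ 3 := by
      have e := LinearMap.finrank_le_finrank_of_injective
        (f := (K.subtype).restrict (p := (LinearMap.ker (dm g)).comap K.subtype)
          (q := LinearMap.ker (dm g)) fun z hz => hz)
        (fun p r h => by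
          have h' := congrArg Subtype.val h
          exact Subtype.ext (Subtype.ext h'))
      have e3 : finrank (ZMod 2) (LinearMap.ker (dm g)) = 3 := by
        have := finrank_fx g
        rw [hr] at this
        exact this
      omega
    omega
  omega

/-- There is no four-group of commuting isometric involutions all of rank three. -/
theorem no_four_rank_three {a b : L6} (ha : Iso6 a) (hb : Iso6 b) (ha2 : ∀ x, a (a x) = x)
    (hb2 : ∀ x, b (b x) = x) (hab : ∀ x, a (b x) = b (a x)) (hra : finrank (ZMod 2) (im a) = 3)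
    (hrb : finrank (ZMod 2) (im b) = 3) (hrc : finrank (ZMod 2) (im (a.comp b)) = 3) : False := by
  classical
  set c : L6 := a.comp b with hcdef
  have hc : Iso6 c := fun x => (ha _).trans (hb x)
  have hc2 : ∀ x, c (c x) = x := fun x => by
    show a (b (a (b x))) = x
    rw [← hab (b x), ha2, hb2]
  have hdc : ∀ x, dm c x = dm a x + dm b x + dm a (dm b x) := fun x => by
    show a (b x) + x = a x + x + (b x + x) + (a (b x + x) + (b x + x))
    rw [map_add]
    funext i
    simp only [Pi.add_apply]
    linear_combination (-(a x) i - x i - b x i) * two_zero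
  have fe : ∀ g : L6, (∀ x, g (g x) = x) → finrank (ZMod 2) (im g) = 3 → fx g = im g := fun g h2 hr =>
    (Submodule.eq_of_le_of_finrank_eq (im_le_fx h2) (by rw [finrank_fx, hr])).symm
  have hMa := fe a ha2 hra
  have hMb := fe b hb2 hrb
  have hMc := fe c hc2 hrc
  have hcm : ∀ x, dm a (dm b x) = dm b (dm a x) := fun x => by
    simp only [dm_apply, map_add, hab]; abel
  have zero_of : ∀ g : L6, (∀ x, g (g x) = x) → finrank (ZMod 2) (im g) = 3 → ∀ x, dm g x = 0 → x ∈ im g :=
    fun g h2 hr x hx => fe g h2 hr ▸ LinearMap.mem_ker.2 hx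
  have kill : ∀ g : L6, (∀ x, g (g x) = x) → ∀ x ∈ im g, dm g x = 0 := fun g h2 x hx =>
    LinearMap.mem_ker.1 (im_le_fx h2 hx)
  by_cases hIeq : im a = im b
  · -- a common Lagrangian
    have hz : ∀ x, dm a (dm b x) = 0 := fun x => kill a ha2 _ (hIeq ▸ ⟨x, rfl⟩)
    have himc : im c = im a := by
      refine Submodule.eq_of_le_of_finrank_eq ?_ (hrc.trans hra.symm)
      rintro _ ⟨x, rfl⟩
      rw [hdc, hz, add_zero]
      exact (im a).add_mem ⟨x, rfl⟩ (hIeq ▸ ⟨x, rfl⟩)
    -- a vector representing `q6` on the Lagrangian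
    have hexv : ∃ v, ∀ m ∈ im a, b6 v m = q6 m := by
      let f : im a →ₗ[ZMod 2] ZMod 2 :=
        { toFun := fun m => q6 m
          map_add' := fun m m' => by
            show q6 ((m : V6) + m') = q6 m + q6 m'
            rw [q6_add, isotropic_im ha ha2 m.2 m'.2, add_zero]
          map_smul' := fun r m => by
            rcases zmod2_cases r with rfl | rfl <;> simp [q6_zero] }
      obtain ⟨F, hF⟩ := f.exists_extend
      refine ⟨(LinearMap.BilinForm.toDual bf bf_nondegenerate).symm F, fun m hm => ?_⟩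
      rw [← bf_apply, LinearMap.BilinForm.apply_toDual_symm_apply]
      exact LinearMap.congr_fun hF ⟨m, hm⟩
    obtain ⟨v, hv⟩ := hexv
    have h1 := image_one_not_sing ha ha2 hra hv
    have h2 := image_one_not_sing hb hb2 hrb fun m hm => hv m (hIeq ▸ hm)
    have h3 := image_one_not_sing hc hc2 hrc fun m hm => hv m (himc ▸ hm)
    rw [hdc, hz, add_zero, q6_add, h1, h2, isotropic_im ha ha2 ⟨v, rfl⟩ (hIeq ▸ ⟨v, rfl⟩), add_zero] at h3
    exact zero_ne_one ((CharTwo.add_self_eq_zero (1 : ZMod 2)).symm.trans h3)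
  set I : Submodule (ZMod 2) V6 := im a ⊓ im b with hI
  -- the image of `im a` under `b - 1` lies in `I`
  have hbI : ∀ x ∈ im a, dm b x ∈ I := fun x hx => by
    obtain ⟨w, rfl⟩ := hx
    exact ⟨⟨dm b w, hcm w⟩, ⟨dm a w, rfl⟩⟩
  have haI : ∀ x ∈ im b, dm a x ∈ I := fun x hx => by
    obtain ⟨w, rfl⟩ := hx
    exact ⟨⟨dm b w, rfl⟩, ⟨dm a w, (hcm w).symm⟩⟩
  have hrank := LinearMap.finrank_range_add_finrank_ker ((dm b).domRestrict (im a))
  rw [LinearMap.range_domRestrict, LinearMap.ker_domRestrict, hra] at hrank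
  have hkerI : finrank (ZMod 2) ((LinearMap.ker (dm b)).comap (im a).subtype) = finrank (ZMod 2) I := by
    rw [← Submodule.finrank_map_subtype_eq, Submodule.map_comap_eq, Submodule.range_subtype, hI, ← hMb]
    rfl
  have hmapI : (im a).map (dm b) ≤ I := by
    rintro _ ⟨x, hx, rfl⟩
    exact hbI x hx
  have hmle := Submodule.finrank_mono hmapI
  have hIlt : finrank (ZMod 2) I < 3 := by
    by_contra hge
    have h1 : I = im a := Submodule.eq_of_le_of_finrank_le inf_le_left (by omega)
    have h2 : I = im b := Submodule.eq_of_le_of_finrank_le inf_le_right (by omega)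
    exact hIeq (h1.symm.trans h2)
  have hI2 : finrank (ZMod 2) I = 2 := by omega
  have pick : ∀ {S T : Submodule (ZMod 2) V6}, finrank (ZMod 2) T < finrank (ZMod 2) S →
      ∃ x ∈ S, x ∉ T := by
    intro S T hlt
    by_contra hn
    push Not at hn
    exact absurd (Submodule.finrank_mono hn) (by omega)
  obtain ⟨p, hp, hpI⟩ := pick (S := im a) (T := I) (by omega)
  obtain ⟨r, hr, hrI⟩ := pick (S := im b) (T := I) (by omega)
  obtain ⟨i0, hi0⟩ : ∃ i0, dm b p = i0 := ⟨_, rfl⟩
  have hi0I : i0 ∈ I := hi0 ▸ hbI p hp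
  have hcI : ∀ x ∈ I, dm c x = 0 := fun x hx => by
    rw [hdc, kill a ha2 _ hx.1, kill b hb2 _ hx.2, map_zero, add_zero, zero_add]
  have hcp : dm c p = i0 := by
    rw [hdc, kill a ha2 _ hp, hi0, kill a ha2 _ hi0I.1, zero_add, add_zero]
  have hcr : dm c r = dm a r := by
    rw [hdc, kill b hb2 _ hr, map_zero, add_zero, add_zero]
  have hi0ne : i0 ≠ 0 := fun e => hpI ⟨hp, zero_of b hb2 hrb p (hi0.trans e)⟩
  have hne1 : dm a r ≠ 0 := fun e => hrI ⟨zero_of a ha2 hra r e, hr⟩
  -- `im c` contains `I` and lies in its orthogonal complement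
  have hIc : I ≤ im c := fun x hx => zero_of c hc2 hrc x (hcI x hx)
  have hperpI : perp I = im a ⊔ im b := by
    refine (Submodule.eq_of_le_of_finrank_le (sup_le (fun x hx => mem_perp.2 fun w hw => ?_)
      (fun x hx => mem_perp.2 fun w hw => ?_)) ?_).symm
    · exact isotropic_im ha ha2 hw.1 hx
    · exact isotropic_im hb hb2 hw.2 hx
    · rw [finrank_perp]
      have := Submodule.finrank_sup_add_finrank_inf_eq (im a) (im b)
      rw [← hI] at this
      omega
  have split : ∀ {g : L6}, finrank (ZMod 2) (im g) = 3 → I ≤ im g → ∀ q ∈ im g, q ∉ I → ∀ x ∈ im g,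
      x ∈ I ∨ x + q ∈ I := by
    intro g hg hle q hq hqI x hx
    have heq : I ⊔ Submodule.span (ZMod 2) {q} = im g := by
      refine Submodule.eq_of_le_of_finrank_le (sup_le hle
        (Submodule.span_le.2 (Set.singleton_subset_iff.2 hq))) ?_
      have : I < I ⊔ Submodule.span (ZMod 2) {q} := lt_of_le_of_ne le_sup_left fun e =>
        hqI (e ▸ Submodule.mem_sup_right (Submodule.mem_span_singleton_self q))
      have := Submodule.finrank_lt_finrank_of_lt this
      omega
    rw [← heq, Submodule.mem_sup] at hx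
    obtain ⟨i, hi, s, hs, rfl⟩ := hx
    obtain ⟨k, rfl⟩ := Submodule.mem_span_singleton.1 hs
    rcases zmod2_cases k with rfl | rfl
    · left; simpa using hi
    · right; rwa [one_smul, add_assoc, v6_add_self, add_zero]
  obtain ⟨z, hz, hzI⟩ := pick (S := im c) (T := I) (by omega)
  have hzp : z ∈ perp I := mem_perp.2 fun w hw => isotropic_im hc hc2 (hIc hw) hz
  rw [hperpI, Submodule.mem_sup] at hzp
  obtain ⟨y, hy, y', hy', hzy⟩ := hzp
  have heq : dm a r = i0 := by
    have hz0 := kill c hc2 z hz
    rw [← hzy, map_add] at hz0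
    rcases split hra inf_le_left p hp hpI y hy with e | e <;>
      rcases split hrb inf_le_right r hr hrI y' hy' with e' | e'
    · exact absurd (hzy ▸ I.add_mem e e') hzI
    · have h1 := hcI _ e'
      rw [map_add, hcr] at h1
      rw [hcI _ e, zero_add] at hz0
      rw [hz0, zero_add] at h1
      exact absurd h1 hne1
    · have h1 := hcI _ e
      rw [map_add, hcp] at h1
      rw [hcI _ e', add_zero] at hz0
      rw [hz0, zero_add] at h1
      exact absurd h1 hi0ne
    · have h1 := hcI _ e
      have h2 := hcI _ e'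
      rw [map_add, hcp] at h1
      rw [map_add, hcr] at h2
      rw [v6_eq_of_add h1, v6_eq_of_add h2] at hz0
      exact (v6_eq_of_add hz0).symm
  -- a vector separating `I` modulo `⟨i0⟩`
  obtain ⟨i1, hi1, hi1'⟩ := pick (S := I) (T := Submodule.span (ZMod 2) {i0}) (by
    have : finrank (ZMod 2) (Submodule.span (ZMod 2) ({i0} : Set V6)) ≤ 1 := by
      simpa using finrank_span_le_card ({i0} : Set V6)
    omega)
  have hexs : ∃ s, b6 i0 s = 0 ∧ b6 p s = 0 ∧ b6 r s = 0 ∧ b6 i1 s = 1 := by
    set W : Submodule (ZMod 2) V6 := Submodule.span (ZMod 2) {i0, p, r} with hW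
    by_contra hn
    push Not at hn
    have h1 : i1 ∈ perp (perp W) := mem_perp.2 fun s hs => by
      rw [b6_comm]
      have hs' := mem_perp.1 hs
      exact (zmod2_cases _).resolve_right (hn s (hs' _ (Submodule.subset_span (by simp)))
        (hs' _ (Submodule.subset_span (by simp))) (hs' _ (Submodule.subset_span (by simp))))
    have hpp : perp (perp W) = W := by
      refine (Submodule.eq_of_le_of_finrank_eq (fun u hu => mem_perp.2 fun w hw => ?_) ?_).symm
      · rw [b6_comm]; exact mem_perp.1 hw u hu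
      · rw [finrank_perp, finrank_perp]
        have : finrank (ZMod 2) W ≤ 6 := by simpa using W.finrank_le
        omega
    rw [hpp, hW, Submodule.mem_span_triple] at h1
    obtain ⟨x, y, z, hxyz⟩ := h1
    have hbpr : b6 p r = 1 := by
      refine (zmod2_cases _).resolve_left fun h0 => ?_
      have hpa : p ∈ perp (im b) := mem_perp.2 fun w hw => by
        rcases split hrb inf_le_right r hr hrI w hw with e | e
        · exact isotropic_im ha ha2 e.1 hp
        · have h := isotropic_im ha ha2 e.1 hp
          rw [b6_add_left, b6_comm r p, h0, add_zero] at h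
          exact h
      rw [← hMb, hb.perp_fx] at hpa
      exact hpI ⟨hp, hpa⟩
    have hy0 : y = 0 := by
      have h := isotropic_im hb hb2 hi1.2 hr
      rw [← hxyz, b6_add_left, b6_add_left, b6_smul_left, b6_smul_left, b6_smul_left,
        isotropic_im hb hb2 hi0I.2 hr, hbpr, b6_self] at h
      simpa using h
    have hz0 : z = 0 := by
      have h := isotropic_im ha ha2 hi1.1 hp
      rw [← hxyz, b6_add_left, b6_add_left, b6_smul_left, b6_smul_left, b6_smul_left,
        isotropic_im ha ha2 hi0I.1 hp, b6_comm r p, hbpr, b6_self] at h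
      simpa using h
    rw [hy0, hz0, zero_smul, zero_smul, add_zero, add_zero] at hxyz
    exact hi1' (Submodule.mem_span_singleton.2 ⟨x, hxyz⟩)
  obtain ⟨s, hs0, hsp, hsr, hs1⟩ := hexs
  have notin : ∀ g : L6, Iso6 g → (∀ x, g (g x) = x) → I ≤ im g → ∀ w, b6 i1 w = 1 → w ∉ im g :=
    fun g hg h2 hle w hw hwm => by
      rw [isotropic_im hg h2 (hle hi1) hwm] at hw
      exact zero_ne_one hw
  have hi1p : b6 i1 p = 0 := isotropic_im ha ha2 hi1.1 hp
  have hi1r : b6 i1 r = 0 := isotropic_im hb hb2 hi1.2 hr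
  have haS : dm a s ∈ I := by
    have hma : dm a s ∈ im a := ⟨s, rfl⟩
    rcases split hra inf_le_left p hp hpI _ hma with e | e
    · exact e
    · exfalso
      have h1 : b6 (dm a s + p) r = 0 := isotropic_im hb hb2 e.2 hr
      rw [b6_add_left, b6_dm_symm ha ha2, heq, b6_comm s i0, hs0, zero_add] at h1
      have hpa : p ∈ perp (im b) := mem_perp.2 fun w hw => by
        rcases split hrb inf_le_right r hr hrI w hw with e2 | e2
        · exact isotropic_im ha ha2 e2.1 hp
        · have h := isotropic_im ha ha2 e2.1 hp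
          rw [b6_add_left, b6_comm r p, h1, add_zero] at h
          exact h
      rw [← hMb, hb.perp_fx] at hpa
      exact hpI ⟨hp, hpa⟩
  have hbS : dm b s ∈ I := by
    have hmb : dm b s ∈ im b := ⟨s, rfl⟩
    rcases split hrb inf_le_right r hr hrI _ hmb with e | e
    · exact e
    · exfalso
      have h1 : b6 (dm b s + r) p = 0 := isotropic_im ha ha2 e.1 hp
      rw [b6_add_left, b6_dm_symm hb hb2, hi0, b6_comm s i0, hs0, zero_add] at h1
      have hpa : p ∈ perp (im b) := mem_perp.2 fun w hw => by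
        rcases split hrb inf_le_right r hr hrI w hw with e2 | e2
        · exact isotropic_im ha ha2 e2.1 hp
        · have h := isotropic_im ha ha2 e2.1 hp
          rw [b6_add_left, h1, add_zero] at h
          exact h
      rw [← hMb, hb.perp_fx] at hpa
      exact hpI ⟨hp, hpa⟩
  have sep : ∀ g : L6, Iso6 g → (∀ x, g (g x) = x) → finrank (ZMod 2) (im g) = 3 → I ≤ im g →
      ∀ w, b6 i1 w = 0 → dm g w = i0 → dm g s ≠ 0 ∧ dm g s ≠ i0 := fun g hg h2 hr hle w hw hgw =>
    ⟨fun e => notin g hg h2 hle s hs1 (zero_of g h2 hr _ e), fun e =>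
      notin g hg h2 hle (s + w) (by rw [b6_add_right, hs1, hw, add_zero])
        (zero_of g h2 hr _ (by rw [map_add, e, hgw, v6_add_self]))⟩
  have hA := sep a ha ha2 hra inf_le_left r hi1r heq
  have hB := sep b hb hb2 hrb inf_le_right p hi1p hi0
  have hC := sep c hc hc2 hrc hIc p hi1p hcp
  have four : ∀ x ∈ I, x = 0 ∨ x = i0 ∨ x = i1 ∨ x = i0 + i1 := by
    have heq' : Submodule.span (ZMod 2) {i0, i1} = I := by
      refine Submodule.eq_of_le_of_finrank_le
        (Submodule.span_le.2 (Set.insert_subset hi0I (Set.singleton_subset_iff.2 hi1))) ?_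
      have hlt : Submodule.span (ZMod 2) {i0} < Submodule.span (ZMod 2) ({i0, i1} : Set V6) :=
        lt_of_le_of_ne (Submodule.span_mono (by simp)) fun e =>
          hi1' (e ▸ Submodule.subset_span (by simp))
      have := Submodule.finrank_lt_finrank_of_lt hlt
      rw [finrank_span_singleton hi0ne] at this
      omega
    intro x hx
    rw [← heq', Submodule.mem_span_pair] at hx
    obtain ⟨k, l, rfl⟩ := hx
    rcases zmod2_cases k with rfl | rfl <;> rcases zmod2_cases l with rfl | rfl <;> simp
  have hcs : dm c s = dm a s + dm b s := by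
    rw [hdc, kill a ha2 _ hbS.1, add_zero]
  rcases four _ haS with e | e | e | e <;> rcases four _ hbS with e' | e' | e' | e' <;>
    first
      | exact hA.1 e
      | exact hA.2 e
      | exact hB.1 e'
      | exact hB.2 e'
      | (refine hC.1 ?_; rw [hcs, e, e']; exact v6_add_self _)
      | (refine hC.2 ?_; rw [hcs, e, e', ← add_assoc, add_comm i1 i0, add_assoc, v6_add_self, add_zero])
      | (refine hC.2 ?_; rw [hcs, e, e', add_assoc, v6_add_self, add_zero])

end CfsgLib.Recog.U6Cent.Red
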