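import Cfsg.Agent.Lib.Recog.U6Cent.RedBasic
import Cfsg.Agent.Lib.Recog.U6Cent.RedSquare

/-!
Two commuting conjugate involutions `z ≠ t`, both given by a `RedData`: the rank of `t` on the space of `z` is three.
-/

set_option autoImplicit false

namespace CfsgLib.Recog.U6Cent

open Subgroup Red Module

variable {G : Type*} [Group G]

namespace RedData

variable (R R' : RedData G)

/-- An element of `E` squaring to `z` and commuting with a given element of `C(z)` that is a square there and has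
order two. -/
theorem exists_fixed [Finite G] {y : G} (hy : y ∈ R.C) (h4 : y * y * (y * y) = 1) :
    ∃ e ∈ R.E, e * e = R.z ∧ y * y * e = e * (y * y) := by
  obtain ⟨e, he, hez⟩ := R.E_four
  have hz : ∀ x, x ∈ R.E → x * R.z = R.z * x := fun x hx => R.comm_z (R.D_le (R.E_le hx))
  set c : G → G := fun x => y * x * y⁻¹ with hcdef
  have cz : ∀ x, c (x * R.z) = c x * R.z := fun x => by
    simp only [hcdef]
    calc y * (x * R.z) * y⁻¹ = y * x * (R.z * y⁻¹) := by group
      _ = y * x * (y⁻¹ * R.z) := by rw [mem_cz.1 (inv_mem hy)]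
      _ = y * x * y⁻¹ * R.z := by group
  have cE : ∀ x ∈ R.E, c x ∈ R.E := fun x hx => R.E_normal y hy x hx
  have csq : ∀ x, x * x = R.z → c x * c x = R.z := fun x hx => by
    simp only [hcdef]
    calc y * x * y⁻¹ * (y * x * y⁻¹) = y * (x * x) * y⁻¹ := by group
      _ = R.z * (y * y⁻¹) := by rw [hx, mem_cz.1 hy]; group
      _ = R.z := by group
  have c4 : ∀ x, c (c (c (c x))) = x := fun x => by
    simp only [hcdef]
    calc y * (y * (y * (y * x * y⁻¹) * y⁻¹) * y⁻¹) * y⁻¹
        = (y * y * (y * y)) * x * (y * y * (y * y))⁻¹ := by group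
      _ = x := by rw [h4]; group
  have c2 : ∀ x, c (c x) = x → y * y * x = x * (y * y) := fun x hx => by
    have hx' : y * (y * x * y⁻¹) * y⁻¹ = x := hx
    calc y * y * x = y * (y * x * y⁻¹) * y⁻¹ * (y * y) := by group
      _ = x * (y * y) := by rw [hx']
  have zz : ∀ x, x * R.z * R.z = x := fun x => by rw [mul_assoc, R.z_sq, mul_one]
  by_cases h1 : c (c e) = e
  · exact ⟨e, he, hez, c2 e h1⟩
  by_cases h2 : c (c e) = e * R.z
  · set f := c e with hf
    have hfE : f ∈ R.E := cE e he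
    have hf1 : f ≠ e := fun h => h1 (by rw [h, ← hf, h])
    have hf2 : f ≠ e * R.z := fun h => h1 (by
      conv_lhs => rw [h, cz, ← hf, h, zz])
    have hff : c (c f) = f * R.z := by
      rw [hf, h2, cz]
    refine ⟨e * f, mul_mem he hfE, ?_, c2 _ ?_⟩
    · refine ((R.E_sq _ (mul_mem he hfE)).resolve_left ?_).resolve_left ?_
      · intro h
        apply hf2
        have : f = e⁻¹ := eq_inv_of_mul_eq_one_right h
        rw [this]
        refine inv_eq_of_mul_eq_one_right ?_
        rw [← mul_assoc, hez, R.z_sq]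
      · intro h
        apply hf1
        rw [← hez] at h
        exact mul_left_cancel h
    · have hm : ∀ a b, c (a * b) = c a * c b := fun a b => by simp only [hcdef]; group
      rw [hm e f, ← hf, h2, hm f (e * R.z), h2, cz, ← hf]
      calc e * R.z * (f * R.z) = e * (R.z * f) * R.z := by group
        _ = e * f * (R.z * R.z) := by rw [← hz f hfE]; group
        _ = e * f := by rw [R.z_sq, mul_one]
  exfalso
  classical
  -- four classes modulo `z`
  let rel : G → G → Prop := fun a b => a = b ∨ a = b * R.z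
  have rsymm : ∀ {a b}, rel a b → rel b a := by
    rintro a b (h | h)
    · exact Or.inl h.symm
    · exact Or.inr (by rw [h, zz])
  have rc : ∀ {a b}, rel a b → rel (c a) (c b) := by
    rintro a b (h | h)
    · exact Or.inl (by rw [h])
    · exact Or.inr (by rw [h, cz])
  have rtrans : ∀ {a b d}, rel a b → rel b d → rel a d := by
    rintro a b d (h | h) (h' | h') <;> subst h <;> subst h'
    · exact Or.inl rfl
    · exact Or.inr rfl
    · exact Or.inr rfl
    · exact Or.inl (zz d)
  let o : Fin 4 → G := ![e, c e, c (c e), c (c (c e))]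
  have hoE : ∀ i, o i ∈ R.E := by
    intro i; fin_cases i
    exacts [he, cE _ he, cE _ (cE _ he), cE _ (cE _ (cE _ he))]
  have hosq : ∀ i, o i * o i = R.z := by
    intro i; fin_cases i
    exacts [hez, csq _ hez, csq _ (csq _ hez), csq _ (csq _ (csq _ hez))]
  have n02 : ¬ rel e (c (c e)) := by
    rintro (h | h)
    · exact h1 h.symm
    · exact h2 (by conv_rhs => rw [h, zz])
  have n01 : ¬ rel e (c e) := fun h => n02 (rtrans h (rc h))
  have n13 : ¬ rel (c e) (c (c (c e))) := fun h => n02 (by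
    have := rc (rc (rc h))
    rw [c4 e] at this
    exact this)
  have n03 : ¬ rel e (c (c (c e))) := fun h => n01 (by
    have := rc h
    rw [c4 e] at this
    exact rsymm this)
  have n12 : ¬ rel (c e) (c (c e)) := fun h => n01 (by
    have := rc (rc (rc h))
    rwa [c4 e] at this)
  have n23 : ¬ rel (c (c e)) (c (c (c e))) := fun h => n12 (by
    have := rc (rc (rc h))
    rwa [c4 e] at this)
  have key : ∀ i j, rel (o i) (o j) → i = j := by
    intro i j h
    fin_cases i <;> fin_cases j <;>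
      first
      | rfl
      | exact absurd h n01
      | exact absurd h n02
      | exact absurd h n03
      | exact absurd h n12
      | exact absurd h n13
      | exact absurd h n23
      | exact absurd (rsymm h) n01
      | exact absurd (rsymm h) n02
      | exact absurd (rsymm h) n03
      | exact absurd (rsymm h) n12
      | exact absurd (rsymm h) n13
      | exact absurd (rsymm h) n23
  let big : Option (Option (Fin 4 × Bool)) → R.E := fun
    | none => 1
    | some none => ⟨R.z, hez ▸ mul_mem he he⟩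
    | some (some (i, b)) => if b then ⟨o i, hoE i⟩ else ⟨o i * R.z, mul_mem (hoE i) (hez ▸ mul_mem he he)⟩
  have hne : ∀ i, o i ≠ 1 ∧ o i ≠ R.z := fun i => by
    constructor <;> intro h <;> have h' := hosq i <;> rw [h] at h'
    · exact R.z_ne (by simpa using h'.symm)
    · rw [R.z_sq] at h'; exact R.z_ne h'.symm
  have hne' : ∀ i, o i * R.z ≠ 1 ∧ o i * R.z ≠ R.z := fun i => by
    refine ⟨fun h => (hne i).2 ?_, fun h => (hne i).1 ?_⟩
    · rw [← zz (o i), h, one_mul]
    · exact mul_eq_right.1 h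
  have hinj : Function.Injective big := by
    have hval : ∀ i b, (big (some (some (i, b)))).1 ≠ 1 ∧ (big (some (some (i, b)))).1 ≠ R.z := by
      rintro i (_ | _)
      · exact hne' i
      · exact hne i
    rintro (_ | _ | ⟨i, b⟩) (_ | _ | ⟨j, b'⟩) h <;> replace h := congrArg Subtype.val h
    · rfl
    · exact absurd h.symm R.z_ne
    · exact absurd h.symm (hval j b').1
    · exact absurd h R.z_ne
    · rfl
    · exact absurd h.symm (hval j b').2
    · exact absurd h (hval i b).1
    · exact absurd h (hval i b).2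
    · cases b <;> cases b'
      · obtain rfl := key i j (Or.inl (mul_right_cancel h))
        rfl
      · change o i * R.z = o j at h
        obtain rfl := key j i (Or.inr h.symm)
        exact absurd (mul_eq_left.1 h) R.z_ne
      · change o i = o j * R.z at h
        obtain rfl := key i j (Or.inr h)
        exact absurd (mul_eq_left.1 h.symm) R.z_ne
      · obtain rfl := key i j (Or.inl h)
        rfl
  have h10 := Nat.card_le_card_of_injective big hinj
  have := R.E_card
  simp at h10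
  omega

variable {R R'}

/-- If `t` has rank at most two for `z`, then `z` has rank zero or two for `t`. -/
theorem rk_swap (hc : R.z * R'.z = R'.z * R.z) (h : R.rk R'.z ≤ 2) : R'.rk R.z = 0 ∨ R'.rk R.z = 2 := by
  obtain ⟨y, hy, hyt, hyy⟩ := R.exists_sqrt (mem_cz.2 hc.symm) h
  have hy' : y ∈ R'.C := mem_cz.2 hyt.symm
  have hz' : R.z ∈ R'.C := mem_cz.2 hc
  have hg : ∀ v, R'.lin y (R'.lin y v) = R'.lin R.z v := fun v => by rw [← R'.lin_mul hy' hy', hyy]
  have h4 : ∀ v, R'.lin y (R'.lin y (R'.lin y (R'.lin y v))) = v := fun v => by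
    rw [hg, hg, R'.lin_invol hz' R.z_sq]
  have hs := square_rank (R'.lin_iso hy') h4
  have he : (R'.lin y).comp (R'.lin y) = R'.lin R.z := LinearMap.ext hg
  rw [he] at hs
  have h3 := R'.rk_le_three hz' R.z_sq
  simp only [rk] at h3 ⊢
  omega

variable [Finite G]

/-- For `t ∉ J` of small rank: an element of `E'` centralizing `z` and the part of `J ⊓ C(D)` centralized by `t`,
with square `t`. -/
theorem exists_root (hc : R.z * R'.z = R'.z * R.z) (hr : R.rk R'.z ≤ 2) (h0 : R'.z ∉ R.J) :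
    ∃ e ∈ R'.E, e ∈ R.C ∧ e * e = R'.z ∧ ∀ y ∈ R.J6, R'.z * y = y * R'.z → e * y = y * e := by
  obtain ⟨y, hy, hyt, hyy⟩ := R.exists_sqrt (mem_cz.2 hc.symm) hr
  obtain ⟨e, he, hee, hec⟩ := R'.exists_fixed (mem_cz.2 hyt.symm) (by rw [hyy, R.z_sq])
  rw [hyy] at hec
  refine ⟨e, he, mem_cz.2 hec.symm, hee, fun x hx hxt => ?_⟩
  set k := x * e * x⁻¹ * e⁻¹ with hk
  have hkE : k ∈ R'.E := mul_mem (R'.E_normal x (mem_cz.2 hxt.symm) e he) (inv_mem he)
  have hkJ : k ∈ R.J := by
    have : k = x * (e * x⁻¹ * e⁻¹) := by rw [hk]; group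
    rw [this]
    exact mul_mem hx.1 (R.J_normal e (mem_cz.2 hec.symm) _ (inv_mem hx.1))
  have h1 : k = 1 := by
    rcases R'.E_sq k hkE with h | h | h
    · exact h
    · exact absurd (h ▸ hkJ) h0
    · exact absurd (h ▸ mul_mem hkJ hkJ) h0
  rw [hk, mul_inv_eq_one] at h1
  exact (mul_inv_eq_iff_eq_mul.1 h1).symm

theorem exists_noncomm (hc : R.z * R'.z = R'.z * R.z) (hr : R.rk R'.z ≤ 2) :
    ∃ x ∈ R.J6, ∃ y ∈ R.J6, R'.z * x = x * R'.z ∧ R'.z * y = y * R'.z ∧ x * y = y * x * R.z := by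
  have ht : R'.z ∈ R.C := mem_cz.2 hc.symm
  have hU := R.finrank_fixU ht
  suffices h : ∃ u ∈ R.fixU R'.z, ∃ w ∈ R.fixU R'.z, b6 u w = 1 by
    obtain ⟨_, ⟨x, hx, hxt, rfl⟩, _, ⟨y, hy, hyt, rfl⟩, hb⟩ := h
    refine ⟨x, hx, y, hy, hxt, hyt, (R.comm_or x hx y hy).resolve_left fun e => ?_⟩
    rw [(R.comm_iff x hx y hy).1 e] at hb
    exact zero_ne_one hb
  by_cases h0 : R'.z ∈ R.J
  · by_contra hn
    push Not at hn
    have hle : R.fixU R'.z ≤ perp (R.fixU R'.z) := fun w hw =>
      mem_perp.2 fun u hu => (zmod2_cases _).resolve_right (hn u hu w hw)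
    have := Submodule.finrank_mono hle
    rw [finrank_perp] at this
    rw [(R.rk_eq_zero ht).2 h0] at hU
    omega
  · obtain ⟨e, -, hec, hee, hey⟩ := exists_root hc hr h0
    refine noniso (e := R.lin e) (τ := R.lin R'.z) (R.lin_iso hec)
      (fun x => by rw [← R.lin_mul hec hec, hee]) ?_ (by omega) ?_
    · rintro _ ⟨y, hy, hyt, rfl⟩
      exact R.lin_fix hec hy (hey y hy hyt)
    · by_contra hn
      push Not at hn
      exact h0 (R.act_one _ ht fun v => (R.lin_apply ht v).symm.trans (hn v))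

theorem not_rk_two (hc : R.z * R'.z = R'.z * R.z) : R.rk R'.z ≠ 2 := by
  intro hr
  have ht : R'.z ∈ R.C := mem_cz.2 hc.symm
  have h0 : R'.z ∉ R.J := fun h => by rw [(R.rk_eq_zero ht).2 h] at hr; omega
  obtain ⟨e, he, hec, hee, hey⟩ := exists_root hc (by omega) h0
  have hr' : R'.rk R.z ≤ 2 := by rcases rk_swap hc (by omega) with h | h <;> omega
  obtain ⟨a, ha, b, hb, haz, hbz, hab⟩ := exists_noncomm (R := R') (R' := R) hc.symm hr'
  have haC : a ∈ R.C := mem_cz.2 haz.symm
  have hbC : b ∈ R.C := mem_cz.2 hbz.symm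
  have hU := R.finrank_fixU ht
  have stab : ∀ c ∈ R'.J6, c ∈ R.C → ∀ u ∈ R.fixU R'.z, R.lin c u ∈ R.fixU R'.z := fun c hc' hcC u hu =>
    R.fixU_stable hcC (R'.comm_z hc'.1) hu
  refine centralizer_contra (e := R.lin e) (τ := R.lin R'.z) (U := R.fixU R'.z) (a := R.lin a) (b := R.lin b)
    (R.lin_iso hec) (R.lin_iso ht) (R.lin_iso haC) (R.lin_iso hbC)
    (fun x => by rw [← R.lin_mul hec hec, hee]) (R.lin_invol ht R'.z_sq) hr ?_ (by omega)
    (fun x => by rw [← R.lin_mul haC hec, ← R.lin_mul hec haC, R'.comm_D ha (R'.E_le he)])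
    (fun x => by rw [← R.lin_mul hbC hec, ← R.lin_mul hec hbC, R'.comm_D hb (R'.E_le he)])
    (stab a ha haC) (stab b hb hbC) ?_
  · rintro _ ⟨y, hy, hyt, rfl⟩
    exact R.lin_fix hec hy (hey y hy hyt)
  · intro x
    rw [← R.lin_mul haC hbC, hab, mul_assoc b, R'.comm_z ha.1, ← mul_assoc, R'.comm_z hb.1, mul_assoc,
      R.lin_mul ht (mul_mem hbC haC), R.lin_mul hbC haC]

omit [Finite G] in
/-- Elements of odd order cannot multiply an element by a central involution. -/
theorem odd_fix {σ w : G} (hσ : σ ∈ R.C) (ho : Odd (orderOf σ)) (h : σ * w * σ⁻¹ = w * R.z) : False := by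
  have key : ∀ n : ℕ, σ ^ n * w * (σ ^ n)⁻¹ = w * R.z ^ n := by
    intro n
    induction n with
    | zero => simp
    | succ n ih =>
      calc σ ^ (n + 1) * w * (σ ^ (n + 1))⁻¹ = σ * (σ ^ n * w * (σ ^ n)⁻¹) * σ⁻¹ := by rw [pow_succ']; group
        _ = σ * w * σ⁻¹ * (σ * R.z ^ n * σ⁻¹) := by rw [ih]; group
        _ = w * R.z * R.z ^ n := by
          rw [h, ((show Commute σ R.z from mem_cz.1 hσ).pow_right n).eq]; group
        _ = w * R.z ^ (n + 1) := by rw [pow_succ', mul_assoc]
  have h' := key (orderOf σ)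
  obtain ⟨k, hk⟩ := ho
  rw [pow_orderOf_eq_one, hk, pow_succ, pow_mul, pow_two, R.z_sq, one_pow, one_mul] at h'
  simp at h'
  exact R.z_ne h'

/-- `t ∈ J`, `z ∈ J'`: each plane orthogonal to `t` gives a commutator in `C(D') ∩ J`. -/
theorem exists_comm_elt (hc : R.z * R'.z = R'.z * R.z) (ht : R'.z ∈ R.J) {d w : G} (hd : d ∈ R.D) (hw : w ∈ R.J6)
    (hdw : R'.z = d * w) {p p' : V6} (hp : q6 p = 1) (hp' : q6 p' = 1) (hpp : b6 p p' = 1)
    (hpu : b6 p (R.vec w) = 0) (hpu' : b6 p' (R.vec w) = 0) :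
    ∃ c ∈ R.J6, c ∈ centralizer (R'.D : Set G) ∧ R'.z * c = c * R'.z ∧ R.vec c = p + p' := by
  obtain ⟨σ, hσ, ho, h1, h2, h3⟩ := R.rot p p' hp hp' hpp
  have hσd : σ * d = d * σ := (mem_centralizer_iff.1 (R.odd_cent σ hσ ho) d hd).symm
  have hσw : σ * w * σ⁻¹ = w := by
    refine (R.vec_eq (R.conj6 hσ hw) hw ?_).resolve_right fun e => odd_fix hσ ho e
    rw [R.act_vec σ hσ w hw]
    exact h3 _ (by rw [b6_comm]; exact hpu) (by rw [b6_comm]; exact hpu')
  have hσt : σ ∈ R'.C := by
    refine mem_cz.2 ?_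
    rw [hdw]
    calc σ * (d * w) = σ * d * w := by group
      _ = d * (σ * w * σ⁻¹) * σ := by rw [hσd]; group
      _ = d * w * σ := by rw [hσw]
  have hσD := R'.odd_cent σ hσt ho
  obtain ⟨a, ha, hap⟩ := R.vec_surj p
  have haw : a * w = w * a := (R.comm_iff a ha w hw).2 (by rw [hap]; exact hpu)
  have had : a * d = d * a := R.comm_D ha hd
  have hat : a ∈ R'.C := by
    refine mem_cz.2 ?_
    rw [hdw, ← mul_assoc, had, mul_assoc, haw, ← mul_assoc]
  refine ⟨a * (σ * a⁻¹ * σ⁻¹), mul_mem ha (R.conj6 hσ (inv_mem ha)), ?_, ?_, ?_⟩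
  · rw [show a * (σ * a⁻¹ * σ⁻¹) = (a * σ * a⁻¹) * σ⁻¹ by group]
    refine mul_mem (conj_mem_centralizer hσD fun x hx => ?_) (inv_mem hσD)
    simpa using R'.D_normal a⁻¹ (inv_mem hat) x hx
  · exact (mem_cz.1 (mul_mem hat (mul_mem (mul_mem hσt (inv_mem hat)) (inv_mem hσt)) : _ ∈ R'.C)).symm
  · rw [R.vec_mul a ha _ (R.conj6 hσ (inv_mem ha)), R.act_vec σ hσ _ (inv_mem ha), R.vec_inv ha, hap, h1]

theorem z_cent_D (hc : R.z * R'.z = R'.z * R.z) (ht : R'.z ∈ R.J) :
    R.z ∈ centralizer (R'.D : Set G) := by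
  obtain ⟨d, hd, w, hw, hdw⟩ := R.split _ ht
  obtain ⟨p, hp, hpu, p', hp', hpu', hpp⟩ := plane_perp (R.vec w)
  obtain ⟨c, hc6, hcD, -, hcv⟩ := exists_comm_elt hc ht hd hw hdw hp hp' hpp hpu hpu'
  rw [← R.sq_z hc6 (by rw [hcv, q6_add, hp, hp', hpp]; decide)]
  exact mul_mem hcD hcD

theorem not_rk_zero (hc : R.z * R'.z = R'.z * R.z) (hne : R'.z ≠ R.z) : R.rk R'.z ≠ 0 := by
  intro hr
  have ht : R'.z ∈ R.C := mem_cz.2 hc.symm
  have hz : R.z ∈ R'.C := mem_cz.2 hc
  have hJ : R'.z ∈ R.J := (R.rk_eq_zero ht).1 hr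
  have hr' : R'.rk R.z = 0 :=
    (rk_swap hc (by omega)).resolve_right (not_rk_two (R := R') (R' := R) hc.symm)
  have hzD := z_cent_D hc hJ
  have htD := z_cent_D (R := R') (R' := R) hc.symm ((R'.rk_eq_zero hz).1 hr')
  have ht6 : R'.z ∈ R.J6 := ⟨hJ, htD⟩
  set u := R.vec R'.z with hu
  have hqu : q6 u = 0 := (R.sq_iff _ ht6).1 R'.z_sq
  have hu0 : u ≠ 0 := fun h => by
    rcases (R.vec_zero _ ht6).1 h with h | h
    · exact R'.z_ne h
    · exact hne h
  obtain ⟨e, he, hee⟩ := R'.E_four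
  have heD : e ∈ R'.D := R'.E_le he
  have hec : e ∈ R.C := mem_cz.2 (mem_centralizer_iff.1 hzD e heD)
  have heJ : e ∉ R.J := fun h => by
    rcases R.J_sq e h with h' | h' <;> rw [hee] at h'
    · exact R'.z_ne h'
    · exact hne h'
  have fix_one : ∀ x, q6 x = 1 → b6 x u = 0 → R.lin e x = x := by
    intro x hx hxu
    obtain ⟨p, hp, hpu, hxp⟩ := partner u hqu hu0 x hx hxu
    obtain ⟨c, hc6, hcD, -, hcv⟩ := exists_comm_elt hc hJ R.D.one_mem ht6 (one_mul _).symm
      (p := p) (p' := x + p) hp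
      (by rw [q6_add, hx, hp, hxp]; decide)
      (by rw [b6_add_right, b6_self, add_zero, b6_comm, hxp]) hpu
      (by rw [← hu, b6_add_left, hxu, hpu, add_zero])
    have hcv' : R.vec c = x := by rw [hcv, add_comm x p, ← add_assoc, v6_add_self, zero_add]
    rw [← hcv']
    exact R.lin_fix hec hc6 (mem_centralizer_iff.1 hcD e heD)
  have fix_perp : ∀ x, b6 x u = 0 → R.lin e x = x := by
    intro x hxu
    rcases zmod2_cases (q6 x) with hx | hx
    · obtain ⟨a, ha, hau, hxa⟩ := sum_one u hqu hu0 x hx hxu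
      have h1 := fix_one a ha hau
      have h2 := fix_one (x + a) hxa (by rw [b6_add_left, hxu, hau, add_zero])
      rw [map_add, h1] at h2
      exact add_right_cancel h2
    · exact fix_one x hx hxu
  apply heJ
  refine R.act_one e hec fun x => ?_
  rw [← R.lin_apply hec]
  rcases zmod2_cases (b6 x u) with hxu | hxu
  · exact fix_perp x hxu
  set m := R.lin e x + x with hm
  have hmW : ∀ v, b6 v m = b6 v u * b6 x m := by
    intro v
    have hv : b6 (v + b6 v u • x) u = 0 := by
      rw [b6_add_left, b6_smul_left, hxu, mul_one, CharTwo.add_self_eq_zero]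
    have := (R.lin_iso hec).b6_fx (x := x) (fix_perp _ hv)
    rw [← hm, b6_add_left, b6_smul_left] at this
    exact CharTwo.add_eq_zero.1 this
  have hmu : m = b6 x m • u := by
    refine v6_eq_of_add (eq_zero_of_b6 fun v => ?_)
    rw [b6_add_left, b6_smul_left, b6_comm m, b6_comm u, hmW v, mul_comm, CharTwo.add_self_eq_zero]
  rcases zmod2_cases (b6 x m) with h | h
  · rw [h, zero_smul] at hmu
    exact v6_eq_of_add hmu
  · exfalso
    rw [h, one_smul] at hmu
    have hxe : R.lin e x = u + x := by rw [← hmu, hm, add_assoc, v6_add_self, add_zero]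
    have := R.lin_iso hec x
    rw [hxe, q6_add, hqu, b6_comm u, hxu, zero_add] at this
    exact one_ne_zero (add_eq_left.1 this)

/-- Distinct commuting `z`, `t` are of rank three. -/
theorem rk_eq_three (hc : R.z * R'.z = R'.z * R.z) (hne : R'.z ≠ R.z) : R.rk R'.z = 3 := by
  have ht : R'.z ∈ R.C := mem_cz.2 hc.symm
  have h3 := R.rk_le_three ht R'.z_sq
  by_contra h
  have hr : R.rk R'.z ≤ 2 := by omega
  rcases rk_swap hc hr with h' | h'
  · exact not_rk_zero (R := R') (R' := R) hc.symm hne.symm h'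
  · exact not_rk_two (R := R') (R' := R) hc.symm h'

end RedData

end CfsgLib.Recog.U6Cent
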