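import Cfsg.Agent.Lib.Recog.U6Cent.Basic
import Cfsg.Prelude.Def_Transfer

/-!
The hypotheses on the centralizer of `z`, as subgroups of `G`.
-/

set_option autoImplicit false

namespace CfsgLib.Recog.U6Cent

open Subgroup Cfsg

/-- An involution `z` with extraspecial `J = O₂(C(z))` of order `2⁹`, self-centralizing in `C(z)`; `H0` is `C(z)` or of
index two in it, `ψ` identifies `H0/J` with `SU₄(2)`. -/
structure CentSetup (G : Type*) [Group G] (F : Type*) [Field F] [Fintype F] where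
  hF : Fintype.card F = 4
  z : G
  J : Subgroup G
  H0 : Subgroup G
  z_sq : z * z = 1
  z_ne : z ≠ 1
  z_mem : z ∈ J
  J_le : J ≤ H0
  H0_le : H0 ≤ centralizer ({z} : Set G)
  J_normal : ∀ g ∈ centralizer ({z} : Set G), ∀ x ∈ J, g * x * g⁻¹ ∈ J
  H0_normal : ∀ g ∈ centralizer ({z} : Set G), ∀ x ∈ H0, g * x * g⁻¹ ∈ H0
  card_J : Nat.card J = 512
  card_H0 : Nat.card H0 = 13271040
  card_H : Nat.card (centralizer ({z} : Set G)) = 13271040 ∨
    Nat.card (centralizer ({z} : Set G)) = 26542080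
  J_extra : IsExtraspecial 2 J
  self_cent : centralizer ({z} : Set G) ⊓ centralizer (J : Set G) ≤ J
  psi : H0 →* SU 4 F 2
  psi_surj : Function.Surjective psi
  psi_ker : ∀ g : H0, psi g = 1 ↔ (g : G) ∈ J
  /-- `C(z)/J` acts faithfully on `H0/J`. -/
  outer_faithful : ∀ g ∈ centralizer ({z} : Set G), (∀ h ∈ H0, g * h * g⁻¹ * h⁻¹ ∈ J) → g ∈ J

end CfsgLib.Recog.U6Cent
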